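import Mathlib
import Cfsg.Agent.H127.UnitRoots

/-!
# The multiset of eigenvalues of a unitary matrix (helper559)

* `roots_closed` : the multiset `s` of eigenvalues (over an algebraically closed extension of `F`) of a unitary
  matrix over `F`, `|F| = q²`, satisfies `s.map (fun a => (a ^ q)⁻¹) = s`;
* `pow_of_dvd` : `charpoly N ∣ X ^ k - c` gives `N ^ k = c`;
* `exists_root` : a prime `r ≠ p` dividing the order of an element of `PSU` divides the order of an eigenvalue.
-/

set_option autoImplicit false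

namespace Cfsg.Agent.H559.UnitMult

open Matrix Polynomial Cfsg.Agent.H127.UnitRoots

section closed

variable {K : Type*} [Field K]

/-- the product of `X - a` -/
noncomputable def pr (s : Multiset K) : K[X] := (s.map fun a => X - C a).prod

theorem pr_monic (s : Multiset K) : (pr s).Monic := monic_multiset_prod_of_monic _ _ fun a _ => monic_X_sub_C a

theorem pr_ne (s : Multiset K) : pr s ≠ 0 := (pr_monic s).ne_zero

theorem pr_roots (s : Multiset K) : (pr s).roots = s := roots_multiset_prod_X_sub_C s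

theorem pr_add (s t : Multiset K) : pr (s + t) = pr s * pr t := by
  unfold pr
  rw [Multiset.map_add, Multiset.prod_add]

theorem pr_singleton (a : K) : pr {a} = X - C a := by
  unfold pr
  rw [Multiset.map_singleton, Multiset.prod_singleton]

theorem pr_dvd_iff {p : K[X]} (hp : p ≠ 0) (s : Multiset K) : pr s ∣ p ↔ s ≤ p.roots :=
  Multiset.prod_X_sub_C_dvd_iff_le_roots hp s

theorem pr_dvd_of_nodup {p : K[X]} (hp : p ≠ 0) {s : Multiset K} (hs : s.Nodup) (h : ∀ a ∈ s, p.eval a = 0) :
    pr s ∣ p := by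
  rw [pr_dvd_iff hp, Multiset.le_iff_subset hs]
  intro a ha
  rw [mem_roots hp]
  exact h a ha

theorem reverse_X_sub_C {a : K} : (X - C a : K[X]).reverse = 1 - C a * X := by
  have h2 : (X - C a : K[X]).natDegree = 1 := natDegree_X_sub_C a
  unfold reverse
  rw [h2, reflect_sub]
  have h3 : reflect 1 (X : K[X]) = 1 := by
    have := reflect_C_mul_X_pow (R := K) 1 1 (c := 1)
    rw [C_1, one_mul, pow_one, one_mul, revAt_le (le_refl 1), Nat.sub_self, pow_zero] at this
    exact this
  have h4 : reflect 1 (C a : K[X]) = C a * X := by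
    have := reflect_C_mul_X_pow (R := K) 1 0 (c := a)
    rw [pow_zero, mul_one, revAt_le (Nat.zero_le 1), Nat.sub_zero, pow_one] at this
    exact this
  rw [h3, h4]

theorem reverse_pr_roots {s : Multiset K} (h0 : (0 : K) ∉ s) : (pr s).reverse.roots = s.map (fun a => a⁻¹) := by
  induction s using Multiset.induction_on with
  | empty =>
    have h1 : pr (0 : Multiset K) = C 1 := by
      unfold pr
      rw [Multiset.map_zero, Multiset.prod_zero, C_1]
    rw [h1, reverse_C, roots_C, Multiset.map_zero]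
  | cons a s ih =>
    have ha : a ≠ 0 := fun h => h0 (h ▸ Multiset.mem_cons_self a s)
    have hs : (0 : K) ∉ s := fun h => h0 (Multiset.mem_cons_of_mem h)
    have h1 : pr (a ::ₘ s) = (X - C a) * pr s := by
      unfold pr
      rw [Multiset.map_cons, Multiset.prod_cons]
    have h2 : (X - C a : K[X]).reverse = -(C a * X - C 1) := by
      rw [reverse_X_sub_C, C_1]; ring
    have h3 : (C a * X - C 1 : K[X]) ≠ 0 := by
      intro h
      have := congrArg (fun p : K[X] => p.coeff 0) h
      simp at this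
    have h4 : (pr s).reverse ≠ 0 := by
      rw [Ne, reverse_eq_zero]
      exact pr_ne s
    rw [h1, reverse_mul_of_domain, roots_mul (mul_ne_zero (by rw [h2]; exact neg_ne_zero.2 h3) h4), ih hs, h2,
      roots_neg, roots_C_mul_X_sub_C _ ha, Multiset.map_cons, mul_one]
    rfl

theorem charpoly_eq_pr [IsAlgClosed K] {ι : Type*} [Fintype ι] [DecidableEq ι] (N : Matrix ι ι K) :
    N.charpoly = pr N.charpoly.roots :=
  (IsAlgClosed.splits N.charpoly).eq_prod_roots_of_monic N.charpoly_monic

theorem zero_notMem {ι : Type*} [Fintype ι] [DecidableEq ι] {N : Matrix ι ι K} (hN : IsUnit N) :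
    (0 : K) ∉ N.charpoly.roots := by
  intro h
  rw [mem_roots N.charpoly_monic.ne_zero, IsRoot.def, Matrix.eval_charpoly] at h
  rw [map_zero, zero_sub, Matrix.det_neg] at h
  rcases mul_eq_zero.1 h with h | h
  · exact absurd h (pow_ne_zero _ (neg_ne_zero.2 one_ne_zero))
  · exact ((Matrix.isUnit_iff_isUnit_det N).1 hN).ne_zero h

theorem inv_roots [IsAlgClosed K] {ι : Type*} [Fintype ι] [DecidableEq ι] {N : Matrix ι ι K} (hN : IsUnit N) :
    (N⁻¹).charpoly.roots = N.charpoly.roots.map (fun a => a⁻¹) := by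
  have hd : N.det ≠ 0 := ((Matrix.isUnit_iff_isUnit_det N).1 hN).ne_zero
  have h1 : (N⁻¹).charpoly = C ((-1) ^ Fintype.card ι * (N.det)⁻¹) * (pr N.charpoly.roots).reverse := by
    rw [Matrix.charpoly_inv N hN, ← Matrix.reverse_charpoly, ← charpoly_eq_pr, C_mul, Ring.inverse_eq_inv]
    simp
  rw [h1, roots_C_mul _ (mul_ne_zero (pow_ne_zero _ (neg_ne_zero.2 one_ne_zero)) (inv_ne_zero hd)),
    reverse_pr_roots (zero_notMem hN)]

variable {F : Type*} [Field F] [Fintype F] {q : ℕ} [Algebra F K]

/-- **the multiset of eigenvalues of a unitary matrix is permuted by `a ↦ a ^ (-q)`** -/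
theorem roots_closed [IsAlgClosed K] (hF : Fintype.card F = q ^ 2) {ι : Type*} [Fintype ι] [DecidableEq ι]
    {M : Matrix ι ι F} (hM : Mᵀ * M.map (fun x => x ^ q) = 1) :
    (M.map (algebraMap F K)).charpoly.roots.map (fun a => (a ^ q)⁻¹) = (M.map (algebraMap F K)).charpoly.roots := by
  obtain ⟨σ, hσ⟩ := exists_pow_hom hF K
  have hN := map_unit hF hM σ hσ
  set N := M.map (algebraMap F K) with hNdef
  have hinv : Nᵀ⁻¹ = N.map σ := Matrix.inv_eq_right_inv hN
  have hu : IsUnit Nᵀ := by
    rw [Matrix.isUnit_iff_isUnit_det]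
    refine IsUnit.of_mul_eq_one (N.map σ).det ?_
    rw [← Matrix.det_mul, hN, Matrix.det_one]
  have h1 := inv_roots hu
  rw [hinv, Matrix.charpoly_map, Matrix.charpoly_transpose, (IsAlgClosed.splits N.charpoly).roots_map] at h1
  -- `h1 : s.map σ = s.map inv`
  have h2 : N.charpoly.roots.map (fun a => (a ^ q)⁻¹) = (N.charpoly.roots.map σ).map (fun a => a⁻¹) := by
    rw [Multiset.map_map]
    apply Multiset.map_congr rfl
    intro a _
    rw [Function.comp_apply, hσ]
  rw [h2, h1, Multiset.map_map]
  simp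

theorem pow_of_dvd [IsAlgClosed K] {ι : Type*} [Fintype ι] [DecidableEq ι] {N : Matrix ι ι K} {k : ℕ} {c : K}
    (h : N.charpoly ∣ X ^ k - C c) : N ^ k = c • 1 := by
  obtain ⟨p, hp⟩ := h
  have h1 := congrArg (aeval N) hp
  rw [map_mul, Matrix.aeval_self_charpoly, zero_mul, map_sub, map_pow, aeval_X, aeval_C, sub_eq_zero] at h1
  rw [h1, Algebra.algebraMap_eq_smul_one]

/-- nonzero elements of an algebraic extension of a finite field have finite order -/
theorem orderOf_pos' [Algebra.IsAlgebraic F K] {a : K} (ha : a ≠ 0) : 0 < orderOf a := by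
  rw [orderOf_pos_iff]
  have hint : IsIntegral F a := Algebra.IsIntegral.isIntegral a
  have : FiniteDimensional F (IntermediateField.adjoin F {a}) := IntermediateField.adjoin.finiteDimensional hint
  have hfin : Finite (IntermediateField.adjoin F {a}) := Module.finite_of_finite F
  let b : IntermediateField.adjoin F {a} := ⟨a, IntermediateField.mem_adjoin_simple_self F a⟩
  have hb : b ≠ 0 := fun h => ha (congrArg Subtype.val h)
  have h1 : IsOfFinOrder (Units.mk0 b hb) := isOfFinOrder_of_finite _
  rw [isOfFinOrder_iff_pow_eq_one] at h1 ⊢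
  obtain ⟨n, hn, h2⟩ := h1
  refine ⟨n, hn, ?_⟩
  have h3 := congrArg (fun x : (IntermediateField.adjoin F {a})ˣ => ((x : IntermediateField.adjoin F {a}) : K)) h2
  simpa [b] using h3

/-- a prime `r ≠ p` dividing the order of the element of `PSU` divides the order of an eigenvalue -/
theorem exists_root [IsAlgClosed K] (p : ℕ) [hp : Fact p.Prime] [CharP F p] {n : ℕ}
    (g : Cfsg.SU n F q) {r : ℕ} (hr : r.Prime) (hrp : r ≠ p)
    (h : r ∣ orderOf (QuotientGroup.mk g : Cfsg.PSU n F q)) :
    ∃ a ∈ ((mat g).map (algebraMap F K)).charpoly.roots, r ∣ orderOf a := by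
  classical
  set N := (mat g).map (algebraMap F K) with hN
  set s := N.charpoly.roots with hs
  have hCK : CharP K p := charP_of_injective_algebraMap (algebraMap F K).injective p
  have hu : IsUnit N := by
    rw [Matrix.isUnit_iff_isUnit_det, hN, ← RingHom.mapMatrix_apply, ← RingHom.map_det, mat_det, map_one]
    exact isUnit_one
  by_contra hno
  push Not at hno
  set m := (s.map fun a => orderOf a).prod with hm
  have hrm : ¬ r ∣ m := by
    intro hdvd
    obtain ⟨k, hk, hrk⟩ := hr.prime.exists_mem_multiset_dvd hdvd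
    obtain ⟨a, ha, rfl⟩ := Multiset.mem_map.1 hk
    exact hno a ha hrk
  -- each factor divides `X ^ m - 1`
  have h1 : N.charpoly ∣ (X ^ m - 1) ^ Multiset.card s := by
    rw [charpoly_eq_pr N]
    unfold pr
    have h2 : ((X : K[X]) ^ m - 1) ^ Multiset.card s = (s.map fun _ => (X : K[X]) ^ m - 1).prod := by
      rw [Multiset.map_const', Multiset.prod_replicate]
    rw [h2]
    refine Multiset.prod_dvd_prod_of_dvd _ _ fun a ha => ?_
    rw [dvd_iff_isRoot, IsRoot.def, eval_sub, eval_pow, eval_X, eval_one, sub_eq_zero]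
    have h3 : orderOf a ∣ m := Multiset.dvd_prod (Multiset.mem_map_of_mem _ ha)
    exact orderOf_dvd_iff_pow_eq_one.1 h3
  obtain ⟨j, hj⟩ : ∃ j, Multiset.card s ≤ p ^ j := ⟨Multiset.card s, (Nat.lt_pow_self hp.out.one_lt).le⟩
  have h2 : N.charpoly ∣ X ^ (m * p ^ j) - C 1 := by
    refine (h1.trans (pow_dvd_pow _ hj)).trans ?_
    rw [sub_pow_char_pow, ← pow_mul, one_pow, C_1]
  have h3 := pow_of_dvd h2
  have h4 : (QuotientGroup.mk g : Cfsg.PSU n F q) ^ (m * p ^ j) = 1 := by
    apply psu_pow_eq_one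
    apply scalar_descend (K := K) (e := 1)
    rw [← h3, hN, ← RingHom.mapMatrix_apply, ← RingHom.mapMatrix_apply, map_pow]
  have h5 := h.trans (orderOf_dvd_of_pow_eq_one h4)
  rcases hr.dvd_mul.1 h5 with h6 | h6
  · exact hrm h6
  · exact hrp ((Nat.prime_dvd_prime_iff_eq hr hp.out).1 (hr.dvd_of_dvd_pow h6))

end closed

end Cfsg.Agent.H559.UnitMult
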