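import Mathlib
import Cfsg.Agent.H559.UnitMult

/-!
# Element orders in `U₆(2)` divisible by `5`, `7`, `11` (helper559)

* `seven` : `7 ∣ orderOf x` implies `x ^ 7 = 1`;
* `eleven` : `11 ∣ orderOf x` implies `x ^ 11 = 1`;
* `five` : `5 ∣ orderOf x` implies `x ^ 10 = 1` or `x ^ 15 = 1`.
-/

set_option autoImplicit false

namespace Cfsg.Agent.H559.USixSpec

open Polynomial Cfsg.Agent.H127.UnitRoots Cfsg.Agent.H559.UnitMult

section tw

variable {K : Type*} [Field K]

/-- the orbit of `a` under `a ↦ a ^ (-2)` -/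
def w (a : K) (k : ℕ) : K := a ^ ((-2 : ℤ) ^ k)

theorem w_succ (a : K) (k : ℕ) : w a (k + 1) = ((w a k) ^ 2)⁻¹ := by
  unfold w
  rw [← zpow_natCast, ← zpow_mul, ← zpow_neg, pow_succ]
  norm_num

theorem w_mem {s : Multiset K} (hs : s.map (fun a => (a ^ 2)⁻¹) = s) {a : K} (ha : a ∈ s) (k : ℕ) : w a k ∈ s := by
  induction k with
  | zero => simpa [w] using ha
  | succ k ih =>
    rw [w_succ, ← hs]
    exact Multiset.mem_map_of_mem (fun a => (a ^ 2)⁻¹) ih

theorem zpow_eq_one_iff' {a : K} (ha : a ≠ 0) {z : ℤ} : a ^ z = 1 ↔ (orderOf a : ℤ) ∣ z := by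
  have h1 : orderOf (Units.mk0 a ha) = orderOf a := by
    rw [← orderOf_units, Units.val_mk0]
  rw [← h1, orderOf_dvd_iff_zpow_eq_one, ← Units.val_inj, Units.val_zpow_eq_zpow_val, Units.val_mk0, Units.val_one]

theorem dvd_of_w_eq {a : K} (ha : a ≠ 0) {i j : ℕ} (hij : i ≤ j) (h : w a i = w a j) :
    (orderOf a : ℤ) ∣ (-2) ^ i * ((-2) ^ (j - i) - 1) := by
  rw [← zpow_eq_one_iff' ha]
  have h1 : ((-2 : ℤ) ^ i * ((-2) ^ (j - i) - 1)) = (-2) ^ j - (-2) ^ i := by
    rw [mul_sub, ← pow_add, mul_one, Nat.add_sub_cancel' hij]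
  rw [h1, zpow_sub₀ ha]
  unfold w at h
  rw [← h, div_self (zpow_ne_zero _ ha)]

theorem dvd_of_prime {a : K} (ha : a ≠ 0) {r : ℕ} (hr : r.Prime) (hr2 : r ≠ 2) (hra : r ∣ orderOf a) {i j : ℕ}
    (hij : i ≤ j) (h : w a i = w a j) : (r : ℤ) ∣ (-2) ^ (j - i) - 1 := by
  have h1 : (r : ℤ) ∣ (-2) ^ i * ((-2) ^ (j - i) - 1) :=
    (Int.natCast_dvd_natCast.2 hra).trans (dvd_of_w_eq ha hij h)
  rcases (Nat.prime_iff_prime_int.1 hr).dvd_or_dvd h1 with h2 | h2
  · exfalso
    have h3 := (Nat.prime_iff_prime_int.1 hr).dvd_of_dvd_pow h2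
    rw [Int.dvd_neg] at h3
    have h4 : r ∣ 2 := by exact_mod_cast h3
    exact hr2 ((Nat.prime_dvd_prime_iff_eq hr Nat.prime_two).1 h4)
  · exact h2

/-- in characteristic two the order of an element is odd -/
theorem odd_orderOf [CharP K 2] {a : K} (h : 0 < orderOf a) : ¬ 2 ∣ orderOf a := by
  rintro ⟨m, hm⟩
  have h1 : a ^ m = 1 := by
    have h2 : (a ^ m - 1) ^ 2 = 0 := by
      rw [sub_pow_char, ← pow_mul, mul_comm m 2, ← hm, pow_orderOf_eq_one, one_pow, sub_self]
    exact sub_eq_zero.1 (pow_eq_zero_iff (two_ne_zero)|>.1 h2)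
  have h3 := orderOf_dvd_of_pow_eq_one h1
  have h4 : 0 < m := by omega
  have h5 := Nat.le_of_dvd h4 h3
  omega

theorem dvd_of_w_eq' [CharP K 2] {a : K} (ha : a ≠ 0) (h0 : 0 < orderOf a) {i j : ℕ} (hij : i ≤ j)
    (h : w a i = w a j) : (orderOf a : ℤ) ∣ (-2) ^ (j - i) - 1 := by
  have h1 : IsCoprime (orderOf a : ℤ) ((-2) ^ i) := by
    apply IsCoprime.pow_right
    rw [IsCoprime.neg_right_iff]
    have h2 : Nat.Coprime (orderOf a) 2 := by
      rw [Nat.coprime_comm, Nat.Prime.coprime_iff_not_dvd Nat.prime_two]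
      exact odd_orderOf h0
    exact_mod_cast (Nat.isCoprime_iff_coprime (m := orderOf a) (n := 2)).2 h2
  exact h1.dvd_of_dvd_mul_left (dvd_of_w_eq ha hij h)

/-- pigeonhole on the orbit -/
theorem exists_per [CharP K 2] {s : Multiset K} (hs : s.map (fun a => (a ^ 2)⁻¹) = s) (hc : Multiset.card s = 6)
    {a : K} (ha : a ∈ s) (ha0 : a ≠ 0) (h0 : 0 < orderOf a) :
    ∃ d, 1 ≤ d ∧ d ≤ 6 ∧ (orderOf a : ℤ) ∣ (-2) ^ d - 1 := by
  classical
  obtain ⟨i, hi, j, hj, hij, h1⟩ := Finset.exists_ne_map_eq_of_card_lt_of_maps_to (s := Finset.range 7)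
    (t := s.toFinset) (f := w a) (by
      rw [Finset.card_range]
      exact (Multiset.toFinset_card_le s).trans_lt (by rw [hc]; norm_num)) (by
      intro k _
      exact Finset.mem_coe.2 (Multiset.mem_toFinset.2 (w_mem hs ha k)))
  rw [Finset.mem_range] at hi hj
  rcases lt_or_gt_of_ne hij with h2 | h2
  · exact ⟨j - i, by omega, by omega, dvd_of_w_eq' ha0 h0 h2.le h1⟩
  · exact ⟨i - j, by omega, by omega, dvd_of_w_eq' ha0 h0 h2.le h1.symm⟩

/-- the multiset `{w 0, ..., w (n-1)}` -/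
def L (a : K) (n : ℕ) : Multiset K := (Multiset.range n).map (w a)

theorem L_nodup {a : K} (ha : a ≠ 0) {r n : ℕ} (hr : r.Prime) (hr2 : r ≠ 2) (hra : r ∣ orderOf a)
    (hn : ∀ d, 1 ≤ d → d < n → ¬ (r : ℤ) ∣ (-2) ^ d - 1) : (L a n).Nodup := by
  refine Multiset.Nodup.map_on ?_ (Multiset.nodup_range n)
  have key : ∀ i j, i < j → j < n → w a i ≠ w a j := fun i j hij hj h =>
    hn (j - i) (by omega) (by omega) (dvd_of_prime ha hr hr2 hra hij.le h)
  intro i hi j hj h
  rw [Multiset.mem_range] at hi hj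
  rcases lt_trichotomy i j with h1 | h1 | h1
  · exact absurd h (key i j h1 hj)
  · exact h1
  · exact absurd h.symm (key j i h1 hi)

theorem L_card (a : K) (n : ℕ) : Multiset.card (L a n) = n := by
  unfold L
  rw [Multiset.card_map, Multiset.card_range]

theorem L_le {s : Multiset K} (hs : s.map (fun a => (a ^ 2)⁻¹) = s) {a : K} (ha : a ∈ s) {n : ℕ}
    (hn : (L a n).Nodup) : L a n ≤ s := by
  rw [Multiset.le_iff_subset hn]
  intro b hb
  obtain ⟨k, -, rfl⟩ := Multiset.mem_map.1 hb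
  exact w_mem hs ha k

theorem map_range_succ' {α : Type*} (f : ℕ → α) (n : ℕ) :
    (Multiset.range (n + 1)).map f = f 0 ::ₘ (Multiset.range n).map (fun k => f (k + 1)) := by
  induction n with
  | zero => simp
  | succ n ih =>
    rw [Multiset.range_succ, Multiset.map_cons, ih, Multiset.range_succ n, Multiset.map_cons, Multiset.cons_swap]

theorem L_map {a : K} {n : ℕ} (h : w a n = w a 0) : (L a n).map (fun a => (a ^ 2)⁻¹) = L a n := by
  unfold L
  rw [Multiset.map_map]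
  have h1 : (Multiset.range n).map ((fun a => (a ^ 2)⁻¹) ∘ w a) = (Multiset.range n).map (fun k => w a (k + 1)) := by
    apply Multiset.map_congr rfl
    intro k _
    rw [Function.comp_apply, w_succ]
  have h2 := map_range_succ' (w a) n
  rw [Multiset.range_succ, Multiset.map_cons, h, Multiset.cons_inj_right] at h2
  rw [h1, ← h2]

theorem w_zero_of_dvd {a : K} (ha : a ≠ 0) {n : ℕ} (h : (orderOf a : ℤ) ∣ (-2) ^ n - 1) : w a n = w a 0 := by
  unfold w
  rw [← zpow_eq_one_iff' ha, zpow_sub₀ ha, zpow_one, div_eq_one_iff_eq ha] at h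
  rw [h]
  simp

theorem w_pow {a : K} (ha : a ≠ 0) {r : ℕ} (h : (a ^ r) ^ 3 = 1) (k : ℕ) : w a k ^ r = a ^ r := by
  unfold w
  rw [← zpow_natCast, ← zpow_mul, mul_comm, zpow_mul, zpow_natCast]
  have h1 : (a ^ r) ^ ((-2 : ℤ) ^ k - 1) = 1 := by
    rw [zpow_eq_one_iff' (pow_ne_zero _ ha)]
    have h2 : (orderOf (a ^ r) : ℤ) ∣ 3 := by exact_mod_cast orderOf_dvd_of_pow_eq_one h
    refine h2.trans ?_
    have h3 := sub_dvd_pow_sub_pow (-2 : ℤ) 1 k
    rw [one_pow] at h3
    have h4 : (3 : ℤ) ∣ -2 - 1 := by norm_num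
    exact h4.trans h3
  rw [zpow_sub₀ (pow_ne_zero _ ha), zpow_one, div_eq_one_iff_eq (pow_ne_zero _ ha)] at h1
  exact h1

theorem not_cube {a : K} (ha : a ≠ 0) {r : ℕ} (hr : r.Prime) (hr2 : r ≠ 2) (hr3 : r ≠ 3) (hra : r ∣ orderOf a)
    (k : ℕ) : w a k ^ 3 ≠ 1 := by
  unfold w
  intro h
  rw [← zpow_natCast, ← zpow_mul, zpow_eq_one_iff' ha] at h
  have h1 := (Int.natCast_dvd_natCast.2 hra).trans h
  rcases (Nat.prime_iff_prime_int.1 hr).dvd_or_dvd h1 with h2 | h2
  · have h3 := (Nat.prime_iff_prime_int.1 hr).dvd_of_dvd_pow h2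
    rw [Int.dvd_neg] at h3
    have h4 : r ∣ 2 := by exact_mod_cast h3
    exact hr2 ((Nat.prime_dvd_prime_iff_eq hr Nat.prime_two).1 h4)
  · have h4 : r ∣ 3 := by exact_mod_cast h2
    exact hr3 ((Nat.prime_dvd_prime_iff_eq hr Nat.prime_three).1 h4)

end tw

section six

variable {K : Type*} [Field K] [CharP K 2]

set_option linter.unusedSectionVars false

/-- what the three arguments use -/
structure Sit (s : Multiset K) : Prop where
  cl : s.map (fun a => (a ^ 2)⁻¹) = s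
  card : Multiset.card s = 6
  prod : s.prod = 1
  zero : (0 : K) ∉ s
  ord : ∀ a ∈ s, 0 < orderOf a

variable {s : Multiset K}

theorem Sit.ne (h : Sit s) {a : K} (ha : a ∈ s) : a ≠ 0 := fun h0 => h.zero (h0 ▸ ha)

theorem prod_L_six {a : K} (ha : a ≠ 0) : (L a 6).prod = a ^ (-21 : ℤ) := by
  have : (L a 6).prod = w a 5 * (w a 4 * (w a 3 * (w a 2 * (w a 1 * (w a 0 * 1))))) := by
    unfold L
    simp only [Multiset.range_succ, Multiset.map_cons, Multiset.prod_cons, Multiset.range_zero, Multiset.map_zero,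
      Multiset.prod_zero]
  rw [this]
  unfold w
  simp only [mul_one, ← zpow_add₀ ha]
  norm_num

theorem prod_L_five {a : K} (ha : a ≠ 0) : (L a 5).prod = a ^ (11 : ℤ) := by
  have : (L a 5).prod = w a 4 * (w a 3 * (w a 2 * (w a 1 * (w a 0 * 1)))) := by
    unfold L
    simp only [Multiset.range_succ, Multiset.map_cons, Multiset.prod_cons, Multiset.range_zero, Multiset.map_zero,
      Multiset.prod_zero]
  rw [this]
  unfold w
  simp only [mul_one, ← zpow_add₀ ha]
  norm_num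

theorem prod_L_four {a : K} (ha : a ≠ 0) : (L a 4).prod = a ^ (-5 : ℤ) := by
  have : (L a 4).prod = w a 3 * (w a 2 * (w a 1 * (w a 0 * 1))) := by
    unfold L
    simp only [Multiset.range_succ, Multiset.map_cons, Multiset.prod_cons, Multiset.range_zero, Multiset.map_zero,
      Multiset.prod_zero]
  rw [this]
  unfold w
  simp only [mul_one, ← zpow_add₀ ha]
  norm_num

theorem pr_dvd_pow {t : Multiset K} (ht : t.Nodup) {r : ℕ} (hr : r ≠ 0) {c : K} (h : ∀ a ∈ t, a ^ r = c) :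
    pr t ∣ X ^ r - C c := by
  apply pr_dvd_of_nodup
  · exact (monic_X_pow_sub_C c hr).ne_zero
  · exact ht
  · intro a ha
    rw [eval_sub, eval_pow, eval_X, eval_C, h a ha, sub_self]

theorem sit_seven (h : Sit s) {a : K} (ha : a ∈ s) (h7 : 7 ∣ orderOf a) : ∃ c, pr s ∣ X ^ 7 - C c := by
  have ha0 := h.ne ha
  have hnd : (L a 6).Nodup := L_nodup ha0 (r := 7) (by norm_num) (by norm_num) h7 (by
    intro d h1 h2
    interval_cases d <;> norm_num)
  have hs : L a 6 = s := Multiset.eq_of_le_of_card_le (L_le h.cl ha hnd) (by rw [h.card, L_card])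
  have h1 : (a ^ 7) ^ 3 = 1 := by
    have h2 := prod_L_six ha0
    rw [hs, h.prod, zpow_neg, eq_comm, inv_eq_one] at h2
    rw [← pow_mul]
    exact_mod_cast h2
  refine ⟨a ^ 7, ?_⟩
  rw [← hs]
  apply pr_dvd_pow hnd (by norm_num)
  intro b hb
  obtain ⟨k, -, rfl⟩ := Multiset.mem_map.1 hb
  exact w_pow ha0 h1 k

theorem sit_eleven (h : Sit s) {a : K} (ha : a ∈ s) (h11 : 11 ∣ orderOf a) : ∃ c, pr s ∣ X ^ 11 - C c := by
  classical
  have ha0 := h.ne ha
  have h11' : ((11 : ℕ) : ℤ) ∣ (orderOf a : ℤ) := Int.natCast_dvd_natCast.2 h11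
  have hnd : (L a 5).Nodup := L_nodup ha0 (r := 11) (by norm_num) (by norm_num) h11 (by
    intro d h1 h2
    interval_cases d <;> norm_num)
  obtain ⟨d, hd1, hd2, hd⟩ := exists_per h.cl h.card ha ha0 (h.ord a ha)
  have hd' := h11'.trans hd
  have hd5 : d = 5 := by
    interval_cases d <;> first | rfl | (exfalso; revert hd'; norm_num)
  subst hd5
  obtain ⟨t, ht⟩ := Multiset.le_iff_exists_add.1 (L_le h.cl ha hnd)
  have htc : Multiset.card t = 1 := by
    have := congrArg Multiset.card ht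
    rw [h.card, Multiset.card_add, L_card] at this
    omega
  obtain ⟨b, rfl⟩ := Multiset.card_eq_one.1 htc
  have hb0 : b ≠ 0 := h.ne (by rw [ht]; simp)
  have hcl := h.cl
  rw [ht, Multiset.map_add, L_map (w_zero_of_dvd ha0 hd), add_right_inj, Multiset.map_singleton,
    Multiset.singleton_inj] at hcl
  have hb3 : b ^ 3 = 1 := by
    have h1 : b * b ^ 2 = 1 := by
      nth_rewrite 1 [← hcl]
      exact inv_mul_cancel₀ (pow_ne_zero _ hb0)
    rw [← h1]; ring
  have ha33 : (a ^ 11) ^ 3 = 1 := by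
    rw [← pow_mul]
    have h1 : (orderOf a : ℤ) ∣ 33 := by
      have : ((-2 : ℤ) ^ 5 - 1) = -33 := by norm_num
      rw [this, Int.dvd_neg] at hd
      exact hd
    have h2 : orderOf a ∣ 33 := by exact_mod_cast h1
    exact orderOf_dvd_iff_pow_eq_one.1 h2
  have hprod : a ^ 11 * b = 1 := by
    have h1 := h.prod
    rw [ht, Multiset.prod_add, Multiset.prod_singleton, prod_L_five ha0] at h1
    exact_mod_cast h1
  have hb11 : b ^ 11 = a ^ 11 := by
    have h1 : b ^ 12 = 1 := by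
      have : b ^ 12 = (b ^ 3) ^ 4 := by ring
      rw [this, hb3, one_pow]
    have h2 : b ^ 11 * b = a ^ 11 * b := by
      rw [hprod, ← pow_succ, h1]
    exact mul_right_cancel₀ hb0 h2
  refine ⟨a ^ 11, ?_⟩
  rw [ht]
  apply pr_dvd_pow _ (by norm_num)
  · intro x hx
    rcases Multiset.mem_add.1 hx with hx | hx
    · obtain ⟨k, -, rfl⟩ := Multiset.mem_map.1 hx
      exact w_pow ha0 ha33 k
    · rw [Multiset.mem_singleton.1 hx, hb11]
  · rw [add_comm, Multiset.singleton_add, Multiset.nodup_cons]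
    refine ⟨?_, hnd⟩
    intro hb
    obtain ⟨k, -, hk⟩ := Multiset.mem_map.1 hb
    exact not_cube ha0 (r := 11) (by norm_num) (by norm_num) (by norm_num) h11 k (by rw [hk, hb3])

theorem sit_five (h : Sit s) {a : K} (ha : a ∈ s) (h5 : 5 ∣ orderOf a) :
    (∃ c, pr s ∣ X ^ 10 - C c) ∨ (∃ c, pr s ∣ X ^ 15 - C c) := by
  classical
  have ha0 := h.ne ha
  have h5' : ((5 : ℕ) : ℤ) ∣ (orderOf a : ℤ) := Int.natCast_dvd_natCast.2 h5
  have hnd : (L a 4).Nodup := L_nodup ha0 (r := 5) (by norm_num) (by norm_num) h5 (by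
    intro d h1 h2
    interval_cases d <;> norm_num)
  obtain ⟨d, hd1, hd2, hd⟩ := exists_per h.cl h.card ha ha0 (h.ord a ha)
  have hd' := h5'.trans hd
  have hd5 : d = 4 := by
    interval_cases d <;> first | rfl | (exfalso; revert hd'; norm_num)
  subst hd5
  obtain ⟨t, ht⟩ := Multiset.le_iff_exists_add.1 (L_le h.cl ha hnd)
  have htc : Multiset.card t = 2 := by
    have := congrArg Multiset.card ht
    rw [h.card, Multiset.card_add, L_card] at this
    omega
  obtain ⟨b, b', rfl⟩ := Multiset.card_eq_two.1 htc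
  have hb0 : b ≠ 0 := h.ne (by rw [ht]; simp)
  have hb0' : b' ≠ 0 := h.ne (by rw [ht]; simp)
  have hcl := h.cl
  rw [ht, Multiset.map_add, L_map (w_zero_of_dvd ha0 hd), add_right_inj] at hcl
  have hcube : ∀ x : K, x ≠ 0 → (x ^ 2)⁻¹ = x → x ^ 3 = 1 := by
    intro x hx h1
    have h2 : x * x ^ 2 = 1 := by
      nth_rewrite 1 [← h1]
      exact inv_mul_cancel₀ (pow_ne_zero _ hx)
    rw [← h2]; ring
  have hb3 : b ^ 3 = 1 ∧ b' ^ 3 = 1 := by
    have h1 : ({(b ^ 2)⁻¹, (b' ^ 2)⁻¹} : Multiset K) = {b, b'} := by simpa using hcl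
    have h2 : (b ^ 2)⁻¹ = b ∧ (b' ^ 2)⁻¹ = b' ∨ (b ^ 2)⁻¹ = b' ∧ (b' ^ 2)⁻¹ = b := by
      rw [Multiset.insert_eq_cons, Multiset.insert_eq_cons, Multiset.cons_eq_cons] at h1
      rcases h1 with ⟨h1, h2⟩ | ⟨-, cs, h1, h2⟩
      · exact Or.inl ⟨h1, Multiset.singleton_inj.1 h2⟩
      · have h3 : cs = 0 := by
          have := congrArg Multiset.card h1
          rw [Multiset.card_singleton, Multiset.card_cons] at this
          exact Multiset.card_eq_zero.1 (by omega)
        subst h3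
        exact Or.inr ⟨(Multiset.singleton_inj.1 h2).symm, Multiset.singleton_inj.1 h1⟩
    rcases h2 with ⟨h2, h3⟩ | ⟨h2, h3⟩
    · exact ⟨hcube b hb0 h2, hcube b' hb0' h3⟩
    · have h4 : b ^ 4 = b := by
        nth_rewrite 2 [← h3]
        rw [← h2, inv_pow, inv_inv]; ring
      have h5 : b ^ 3 = 1 := by
        have : b ^ 3 * b = 1 * b := by rw [one_mul, ← pow_succ, h4]
        exact mul_right_cancel₀ hb0 this
      refine ⟨h5, ?_⟩
      rw [← h2, inv_pow, ← pow_mul, show 2 * 3 = 3 * 2 from rfl, pow_mul, h5, one_pow, inv_one]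
  have ha15 : (a ^ 5) ^ 3 = 1 := by
    rw [← pow_mul]
    have h1 : (orderOf a : ℤ) ∣ 15 := by
      have : ((-2 : ℤ) ^ 4 - 1) = 15 := by norm_num
      rw [this] at hd
      exact hd
    have h2 : orderOf a ∣ 15 := by exact_mod_cast h1
    exact orderOf_dvd_iff_pow_eq_one.1 h2
  have hprod : b * b' = a ^ 5 := by
    have h1 := h.prod
    rw [ht, Multiset.prod_add, prod_L_four ha0, Multiset.insert_eq_cons, Multiset.prod_cons,
      Multiset.prod_singleton, zpow_neg] at h1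
    have h2 : a ^ (5 : ℤ) ≠ 0 := zpow_ne_zero _ ha0
    have h3 : b * b' = a ^ (5 : ℤ) := by
      rw [inv_mul_eq_iff_eq_mul₀ h2, mul_one] at h1
      exact h1
    exact_mod_cast h3
  have hnot : ∀ x : K, x ^ 3 = 1 → x ∉ L a 4 := by
    intro x hx hxL
    obtain ⟨k, -, hk⟩ := Multiset.mem_map.1 hxL
    exact not_cube ha0 (r := 5) (by norm_num) (by norm_num) (by norm_num) h5 k (by rw [hk, hx])
  by_cases hbb : b = b'
  · left
    subst hbb
    have hb5 : b ^ 5 = a ^ 5 := by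
      rw [← hprod]
      have : b ^ 5 = b ^ 3 * (b * b) := by ring
      rw [this, hb3.1, one_mul]
    refine ⟨(a ^ 5) ^ 2, ?_⟩
    have h1 : pr (b ::ₘ L a 4) ∣ X ^ 5 - C (a ^ 5) := by
      apply pr_dvd_pow (Multiset.nodup_cons.2 ⟨hnot b hb3.1, hnd⟩) (by norm_num)
      intro x hx
      rcases Multiset.mem_cons.1 hx with hx | hx
      · rw [hx, hb5]
      · obtain ⟨k, -, rfl⟩ := Multiset.mem_map.1 hx
        exact w_pow ha0 ha15 k
    have h2 : pr ({b} : Multiset K) ∣ X ^ 5 - C (a ^ 5) := by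
      apply pr_dvd_pow (Multiset.nodup_singleton b) (by norm_num)
      intro x hx
      rw [Multiset.mem_singleton.1 hx, hb5]
    have h3 : s = (b ::ₘ L a 4) + {b} := by
      rw [ht, Multiset.insert_eq_cons, ← Multiset.singleton_add, ← Multiset.singleton_add]
      abel
    have h4 : (X ^ 5 - C (a ^ 5)) * (X ^ 5 - C (a ^ 5)) = (X ^ 10 - C ((a ^ 5) ^ 2) : K[X]) := by
      have := sub_pow_char (p := 2) (X ^ 5 : K[X]) (C (a ^ 5))
      rw [← sq, this, ← pow_mul, ← C_pow]
    rw [h3, pr_add, ← h4]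
    exact mul_dvd_mul h1 h2
  · right
    refine ⟨1, ?_⟩
    rw [ht]
    apply pr_dvd_pow _ (by norm_num)
    · intro x hx
      rcases Multiset.mem_add.1 hx with hx | hx
      · obtain ⟨k, -, rfl⟩ := Multiset.mem_map.1 hx
        have : w a k ^ 15 = (w a k ^ 5) ^ 3 := by ring
        rw [this, w_pow ha0 ha15 k, ha15]
      · have hx3 : x ^ 3 = 1 := by
          rw [Multiset.insert_eq_cons, Multiset.mem_cons, Multiset.mem_singleton] at hx
          rcases hx with rfl | rfl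
          · exact hb3.1
          · exact hb3.2
        have : x ^ 15 = (x ^ 3) ^ 5 := by ring
        rw [this, hx3, one_pow]
    · have h3 : L a 4 + {b, b'} = b ::ₘ b' ::ₘ L a 4 := by
        rw [Multiset.insert_eq_cons, ← Multiset.singleton_add, ← Multiset.singleton_add, ← Multiset.singleton_add]
        abel
      rw [h3, Multiset.nodup_cons, Multiset.nodup_cons, Multiset.mem_cons]
      refine ⟨?_, hnot b' hb3.2, hnd⟩
      rintro (h4 | h4)
      · exact hbb h4
      · exact hnot b hb3.1 h4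

end six

section main

variable {F : Type*} [Field F] [Fintype F]

theorem charTwo (hF : Fintype.card F = 4) : CharP F 2 := by
  obtain ⟨p, hp⟩ := CharP.exists F
  have : Fact p.Prime := ⟨CharP.char_is_prime F p⟩
  obtain ⟨n, hn, h⟩ := FiniteField.card F p
  rw [hF] at h
  have h1 : p ∣ 2 ^ 2 := by
    rw [show (2 : ℕ) ^ 2 = 4 from rfl, h]
    exact dvd_pow_self p n.ne_zero
  have h2 : p = 2 := (Nat.prime_dvd_prime_iff_eq hn Nat.prime_two).1 (hn.dvd_of_dvd_pow h1)
  subst h2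
  exact hp

theorem sit (hF : Fintype.card F = 4) (g : Cfsg.SU 6 F 2) :
    haveI := charTwo hF
    Sit ((mat g).map (algebraMap F (AlgebraicClosure F))).charpoly.roots := by
  have hC := charTwo hF
  set K := AlgebraicClosure F with hK
  set N := (mat g).map (algebraMap F K) with hN
  have hdet : N.det = 1 := by
    rw [hN, ← RingHom.mapMatrix_apply, ← RingHom.map_det, mat_det, map_one]
  have hu : IsUnit N := by
    rw [Matrix.isUnit_iff_isUnit_det, hdet]
    exact isUnit_one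
  have hz := zero_notMem hu
  refine ⟨roots_closed (q := 2) (by rw [hF]; norm_num) (mat_unit g (by norm_num)), ?_, ?_, hz, ?_⟩
  · have h1 := splits_iff_card_roots.1 (IsAlgClosed.splits N.charpoly)
    rw [h1, Matrix.charpoly_natDegree_eq_dim, Fintype.card_fin]
  · rw [← Matrix.det_eq_prod_roots_charpoly, hdet]
  · intro a ha
    exact orderOf_pos' (F := F) (fun h => hz (h ▸ ha))

theorem pow_one_of_dvd (g : Cfsg.SU 6 F 2) {k : ℕ} {c : AlgebraicClosure F}
    (h : pr ((mat g).map (algebraMap F (AlgebraicClosure F))).charpoly.roots ∣ X ^ k - C c) :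
    (QuotientGroup.mk g : Cfsg.PSU 6 F 2) ^ k = 1 := by
  rw [← charpoly_eq_pr] at h
  have h1 := pow_of_dvd h
  apply psu_pow_eq_one
  apply scalar_descend (K := AlgebraicClosure F) (e := c)
  rw [← h1, ← RingHom.mapMatrix_apply, ← RingHom.mapMatrix_apply, map_pow]

theorem seven (hF : Fintype.card F = 4) (x : Cfsg.PSU 6 F 2) (h : 7 ∣ orderOf x) : x ^ 7 = 1 := by
  obtain ⟨g, rfl⟩ := QuotientGroup.mk_surjective x
  have hC := charTwo hF
  obtain ⟨a, ha, h1⟩ := exists_root (K := AlgebraicClosure F) 2 g (r := 7) (by norm_num) (by norm_num) h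
  have : CharP (AlgebraicClosure F) 2 := charP_of_injective_algebraMap (algebraMap F _).injective 2
  obtain ⟨c, hc⟩ := sit_seven (sit hF g) ha h1
  exact pow_one_of_dvd g hc

theorem eleven (hF : Fintype.card F = 4) (x : Cfsg.PSU 6 F 2) (h : 11 ∣ orderOf x) : x ^ 11 = 1 := by
  obtain ⟨g, rfl⟩ := QuotientGroup.mk_surjective x
  have hC := charTwo hF
  obtain ⟨a, ha, h1⟩ := exists_root (K := AlgebraicClosure F) 2 g (r := 11) (by norm_num) (by norm_num) h
  have : CharP (AlgebraicClosure F) 2 := charP_of_injective_algebraMap (algebraMap F _).injective 2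
  obtain ⟨c, hc⟩ := sit_eleven (sit hF g) ha h1
  exact pow_one_of_dvd g hc

theorem five (hF : Fintype.card F = 4) (x : Cfsg.PSU 6 F 2) (h : 5 ∣ orderOf x) : x ^ 10 = 1 ∨ x ^ 15 = 1 := by
  obtain ⟨g, rfl⟩ := QuotientGroup.mk_surjective x
  have hC := charTwo hF
  obtain ⟨a, ha, h1⟩ := exists_root (K := AlgebraicClosure F) 2 g (r := 5) (by norm_num) (by norm_num) h
  have : CharP (AlgebraicClosure F) 2 := charP_of_injective_algebraMap (algebraMap F _).injective 2
  rcases sit_five (sit hF g) ha h1 with ⟨c, hc⟩ | ⟨c, hc⟩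
  · exact Or.inl (pow_one_of_dvd g hc)
  · exact Or.inr (pow_one_of_dvd g hc)

end main

end Cfsg.Agent.H559.USixSpec
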