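import Mathlib
import Cfsg.Agent.GH.Cov.InstMathieu

/-!
# Explicit elements of `M₂₂` (helper559)

* `rel` : elements `z` of order `7` and `t` of order `2` with `t * (z t z⁻¹) = z³ t z⁻³` (a subgroup `2³:7`);
* `three` : two commuting elements of order `3` generating a subgroup of order `9`.
-/

set_option autoImplicit false

open Cfsg Subgroup

namespace Cfsg.Agent.H559.MElts

open Cfsg.Agent.GH.Cov.InstMathieu Cfsg.Agent.Golay.Orbit

def zT : List ℕ := [1, 262144, 32, 256, 4, 131072, 16384, 128, 1048576, 8192, 8, 2, 64, 32768, 1024, 16, 2097152, 512, 4194304, 2048, 4096, 524288, 65536, 8388608]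
def tT : List ℕ := [1, 8192, 65536, 128, 16, 32, 16384, 8, 4096, 2048, 1048576, 512, 256, 2, 64, 262144, 4, 131072, 32768, 524288, 1024, 2097152, 4194304, 8388608]
def xT : List ℕ := [1, 131072, 16, 1048576, 32, 4, 64, 2, 16384, 65536, 1024, 2048, 8192, 524288, 262144, 8, 2097152, 128, 256, 4096, 32768, 512, 4194304, 8388608]
def yT : List ℕ := [1, 4096, 32, 8, 4, 16, 1024, 524288, 16384, 131072, 2048, 64, 2097152, 512, 262144, 32768, 128, 8192, 256, 65536, 1048576, 2, 4194304, 8388608]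

theorem ok_z : ok22 zT = true := by decide +kernel
theorem ok_t : ok22 tT = true := by decide +kernel
theorem ok_x : ok22 xT = true := by decide +kernel
theorem ok_y : ok22 yT = true := by decide +kernel

theorem eq_of_rep {g h : Spor.M22} {l : List ℕ} (hg : Rep (g : Equiv.Perm GolayPt) l)
    (hh : Rep (h : Equiv.Perm GolayPt) l) : g = h := Subtype.ext (rep_ext hg hh)

theorem ne_of_rep {g h : Spor.M22} {l l' : List ℕ} (hg : Rep (g : Equiv.Perm GolayPt) l)
    (hh : Rep (h : Equiv.Perm GolayPt) l') (hl : ∃ i < 24, l.getD i 0 ≠ l'.getD i 0) : g ≠ h := by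
  rintro rfl
  obtain ⟨i, hi, hne⟩ := hl
  apply hne
  have hq : ∃ q : GolayPt, idx q = i := by
    have : ∀ i : Fin 24, ∃ q : GolayPt, idx q = i := by decide +kernel
    exact this ⟨i, hi⟩
  obtain ⟨q, rfl⟩ := hq
  rw [hg.eq, hh.eq]

/-- **`2³:7` in `M₂₂`.** -/
theorem rel : ∃ z t : Spor.M22, z ^ 7 = 1 ∧ t ^ 2 = 1 ∧ t ≠ 1 ∧ t * (z * t * z⁻¹) = z ^ 3 * t * (z ^ 3)⁻¹ := by
  have hz := rep_elt zT ok_z
  have ht := rep_elt tT ok_t
  set z := elt zT ok_z
  set t := elt tT ok_t
  have e1 : z ^ 7 = 1 := by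
    have h1 : z ^ 7 = z * (z * (z * (z * (z * (z * z))))) := by
      simp only [pow_succ, pow_zero, one_mul, mul_assoc]
    rw [h1]
    refine eq_of_rep (l := idT) ?_ rep_one
    have h2 : mulT zT (mulT zT (mulT zT (mulT zT (mulT zT (mulT zT zT))))) = idT := by decide +kernel
    rw [← h2]
    exact rep_mul hz (rep_mul hz (rep_mul hz (rep_mul hz (rep_mul hz (rep_mul hz hz)))))
  have e2 : t ^ 2 = 1 := by
    rw [sq]
    refine eq_of_rep (l := idT) ?_ rep_one
    have h2 : mulT tT tT = idT := by decide +kernel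
    rw [← h2]
    exact rep_mul ht ht
  have e3 : t ≠ 1 := ne_of_rep ht rep_one ⟨1, by norm_num, by decide⟩
  have e4 : t * (z * (t * (z * z))) = z * (z * (z * t)) := by
    refine eq_of_rep (l := mulT zT (mulT zT (mulT zT tT))) ?_ (rep_mul hz (rep_mul hz (rep_mul hz ht)))
    have h2 : mulT tT (mulT zT (mulT tT (mulT zT zT))) = mulT zT (mulT zT (mulT zT tT)) := by decide +kernel
    rw [← h2]
    exact rep_mul ht (rep_mul hz (rep_mul ht (rep_mul hz hz)))
  refine ⟨z, t, e1, e2, e3, ?_⟩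
  rw [eq_mul_inv_iff_mul_eq]
  have h1 : t * (z * t * z⁻¹) * z ^ 3 = t * (z * (t * (z * z))) := by
    rw [pow_succ, sq]
    group
  rw [h1, e4, pow_succ, sq]
  simp only [mul_assoc]

/-- **`3²` in `M₂₂`.** -/
theorem three : ∃ x y : Spor.M22, x ^ 3 = 1 ∧ y ^ 3 = 1 ∧ x * y = y * x ∧ x ≠ 1 ∧ y ≠ 1 ∧ y ≠ x ∧ y ≠ x * x := by
  have hx := rep_elt xT ok_x
  have hy := rep_elt yT ok_y
  set x := elt xT ok_x
  set y := elt yT ok_y
  refine ⟨x, y, ?_, ?_, ?_, ne_of_rep hx rep_one ⟨1, by norm_num, by decide⟩,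
    ne_of_rep hy rep_one ⟨1, by norm_num, by decide⟩, ne_of_rep hy hx ⟨1, by norm_num, by decide⟩,
    ne_of_rep hy (rep_mul hx hx) ⟨1, by norm_num, by decide⟩⟩
  · have h1 : x ^ 3 = x * (x * x) := by simp only [pow_succ, pow_zero, one_mul, mul_assoc]
    rw [h1]
    refine eq_of_rep (l := idT) ?_ rep_one
    have h2 : mulT xT (mulT xT xT) = idT := by decide +kernel
    rw [← h2]
    exact rep_mul hx (rep_mul hx hx)
  · have h1 : y ^ 3 = y * (y * y) := by simp only [pow_succ, pow_zero, one_mul, mul_assoc]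
    rw [h1]
    refine eq_of_rep (l := idT) ?_ rep_one
    have h2 : mulT yT (mulT yT yT) = idT := by decide +kernel
    rw [← h2]
    exact rep_mul hy (rep_mul hy hy)
  · refine eq_of_rep (l := mulT yT xT) ?_ (rep_mul hy hx)
    have h2 : mulT xT yT = mulT yT xT := by decide +kernel
    rw [← h2]
    exact rep_mul hx hy

end Cfsg.Agent.H559.MElts
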