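import Mathlib
import Cfsg.Agent.S0033
import Cfsg.Agent.OddOrderLocal.CNNil

/-!
# Isolated primes (helper559)

`Clean r G`: every element of order divisible by `r` has order `r`.
-/

set_option autoImplicit false

namespace Cfsg.Agent.H559.CleanPrime

open Subgroup

/-- every element of order divisible by `r` has order `r` -/
def Clean (r : ℕ) (G : Type*) [Group G] : Prop := ∀ g : G, r ∣ orderOf g → g ^ r = 1

variable {G : Type*} [Group G] {r : ℕ}

theorem Clean.of_injective {H : Type*} [Group H] (f : H →* G) (hf : Function.Injective f) (h : Clean r G) :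
    Clean r H := by
  intro g hg
  apply hf
  rw [map_pow, map_one]
  exact h _ (by rwa [orderOf_injective f hf])

theorem Clean.subgroup (h : Clean r G) (H : Subgroup G) : Clean r H := h.of_injective H.subtype H.subtype_injective

theorem Clean.quotient (h : Clean r G) (N : Subgroup G) [N.Normal] : Clean r (G ⧸ N) := by
  intro g hg
  obtain ⟨x, rfl⟩ := QuotientGroup.mk'_surjective N g
  rw [← map_pow, h x (hg.trans (orderOf_map_dvd _ x)), map_one]

/-- an element commuting with an element of order `r` has order dividing `r` -/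
theorem Clean.pow_eq_one (h : Clean r G) (hr : r.Prime) {x v : G} (hx : orderOf x = r) (hc : Commute x v) :
    v ^ r = 1 := by
  by_cases hv : r ∣ orderOf v
  · exact h v hv
  · have hcop : (orderOf x).Coprime (orderOf v) := by
      rw [hx]
      exact (Nat.Prime.coprime_iff_not_dvd hr).2 hv
    have h1 := hc.orderOf_mul_eq_mul_orderOf_of_coprime hcop
    have h2 := h (x * v) (by rw [h1, hx]; exact dvd_mul_right _ _)
    have hx1 : x ^ r = 1 := by rw [← hx]; exact pow_orderOf_eq_one x
    rw [hc.mul_pow, hx1, one_mul] at h2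
    exact h2

theorem Clean.eq_one (h : Clean r G) (hr : r.Prime) {x v : G} (hx : orderOf x = r) (hc : Commute x v)
    (hv : ¬ r ∣ orderOf v) : v = 1 := by
  have h1 := orderOf_dvd_of_pow_eq_one (h.pow_eq_one hr hx hc)
  rcases (Nat.dvd_prime hr).1 h1 with h2 | h2
  · exact orderOf_eq_one_iff.1 h2
  · exact absurd (by rw [h2]) hv

theorem Clean.eq_one_of_mem [Finite G] (h : Clean r G) (hr : r.Prime) {x v : G} (hx : orderOf x = r)
    (hc : Commute x v) {N : Subgroup G} (hN : ¬ r ∣ Nat.card N) (hv : v ∈ N) : v = 1 := by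
  apply h.eq_one hr hx hc
  intro h1
  apply hN
  rw [← Subgroup.orderOf_mk v hv] at h1
  exact h1.trans (orderOf_dvd_natCard _)

theorem Clean.isPGroup_centralizer (h : Clean r G) (hr : r.Prime) {x : G} (hx : orderOf x = r) :
    IsPGroup r (centralizer ({x} : Set G)) := by
  rintro ⟨v, hv⟩
  refine ⟨1, ?_⟩
  rw [mem_centralizer_singleton_iff] at hv
  have hc : Commute x v := by
    first | exact hv | exact hv.symm
  apply Subtype.ext
  rw [pow_one]
  exact h.pow_eq_one hr hx hc

/-- a normal subgroup of order prime to `r` is nilpotent -/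
theorem Clean.isNilpotent [Finite G] (h : Clean r G) (hr : r.Prime) (hG : r ∣ Nat.card G) (N : Subgroup G)
    [N.Normal] (hN : ¬ r ∣ Nat.card N) : Group.IsNilpotent N := by
  have := Fact.mk hr
  obtain ⟨x, hx⟩ := exists_prime_orderOf_dvd_card' r hG
  by_cases hb : N = ⊥
  · subst hb
    infer_instance
  let φ : MulAut N := MulAut.conjNormal x
  have hφ : ∀ n : N, (φ n : G) = x * n * x⁻¹ := fun n => MulAut.conjNormal_apply x n
  have hfix : ∀ n : N, φ n = n → n = 1 := by
    intro n hn
    have h1 : x * (n : G) * x⁻¹ = n := by rw [← hφ, hn]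
    have h2 : Commute x (n : G) := by
      rw [mul_inv_eq_iff_eq_mul] at h1
      exact h1
    exact Subtype.ext (h.eq_one_of_mem hr hx h2 hN n.2)
  have hpow : φ ^ r = 1 := by
    have h1 : φ ^ r = MulAut.conjNormal (x ^ r) := (map_pow MulAut.conjNormal x r).symm
    rw [h1, ← hx, pow_orderOf_eq_one, map_one]
  have hne : φ ≠ 1 := by
    intro h1
    apply hb
    rw [eq_bot_iff]
    intro n hn
    have h2 := hfix ⟨n, hn⟩ (by rw [h1]; rfl)
    rw [mem_bot]
    exact congrArg Subtype.val h2
  have hord : orderOf φ = r := orderOf_eq_prime hpow hne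
  exact Cfsg.Agent.S0033.result (φ : N ≃* N) (fun n hn => hfix n hn) r hr hord

theorem Clean.dvd_simple [Finite G] (h : Clean r G) (hr : r.Prime) (hG : r ∣ Nat.card G) (S : Subgroup G)
    [S.Normal] [IsSimpleGroup S] (hS : ¬ IsMulCommutative S) : r ∣ Nat.card S := by
  by_contra hN
  have h1 := h.isNilpotent hr hG S hN
  apply hS
  have hz : (center S) ≠ ⊥ := by
    have hS1 : Nat.card S ≠ 1 := Finite.one_lt_card.ne'
    obtain ⟨z, hz, hz1⟩ := Cfsg.Agent.OddOrderLocal.CNNil.exists_center_orderOf h1 (Nat.minFac_prime hS1)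
      (Nat.minFac_dvd _)
    intro h2
    rw [h2, mem_bot] at hz
    rw [hz, orderOf_one] at hz1
    exact (Nat.minFac_prime hS1).one_lt.ne hz1
  have h2 : center S = ⊤ := ((inferInstance : (center S).Normal).eq_bot_or_eq_top).resolve_left hz
  exact ⟨⟨fun a b => ((mem_center_iff.1 (h2 ▸ mem_top a : a ∈ center S)) b).symm⟩⟩

/-- a subgroup which with `R` generates `G` has order divisible by the primes dividing `G` and not `R` -/
theorem dvd_of_sup [Finite G] {N R : Subgroup G} [R.Normal] (hNR : N ⊔ R = ⊤) {s : ℕ} (hs : s.Prime)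
    (hG : s ∣ Nat.card G) (hR : ¬ s ∣ Nat.card R) : s ∣ Nat.card N := by
  have h1 : R.index = R.relIndex N := by
    rw [← relIndex_sup_right, hNR, relIndex_top_right]
  have h2 := R.card_mul_index
  rw [← h2] at hG
  rcases hs.dvd_mul.1 hG with h3 | h3
  · exact absurd h3 hR
  · rw [h1] at h3
    exact h3.trans (relIndex_dvd_card R N)

/-- **An isolated prime `r` does not divide the order of a normal subgroup `R` if `2` and another isolated prime
divide `|G : R|` only.** -/
theorem radical [Finite G] {r' : ℕ} (hr : r.Prime) (hr' : r'.Prime) (hr2 : r ≠ 2) (hr2' : r' ≠ 2) (hrr : r ≠ r')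
    (h : Clean r G) (h' : Clean r' G) (R : Subgroup G) [R.Normal] (h2 : 2 ∣ Nat.card G)
    (h2R : ¬ 2 ∣ Nat.card R) (hG' : r' ∣ Nat.card G) (hR' : ¬ r' ∣ Nat.card R) : ¬ r ∣ Nat.card R := by
  intro hrR
  have := Fact.mk hr
  have := Fact.mk hr'
  let P : Sylow r R := default
  set H : Subgroup G := (P : Subgroup R).map R.subtype with hH
  have hsup : normalizer (H : Set G) ⊔ R = ⊤ := Sylow.normalizer_sup_eq_top P
  have hN2 := dvd_of_sup hsup Nat.prime_two h2 h2R
  have hN' := dvd_of_sup hsup hr' hG' hR'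
  obtain ⟨t, ht⟩ := exists_prime_orderOf_dvd_card' 2 hN2
  obtain ⟨y, hy⟩ := exists_prime_orderOf_dvd_card' r' hN'
  let c := H.normalizerMonoidHom
  have hc : ∀ (g : normalizer (H : Set G)) (x : H), ((c g x : H) : G) = (g : G) * x * (g : G)⁻¹ := fun g x => rfl
  have hP : IsPGroup r H := P.isPGroup'.map R.subtype
  have hHne : ∃ x : H, x ≠ 1 := by
    obtain ⟨z, hz⟩ := exists_prime_orderOf_dvd_card' r (P.dvd_card_of_dvd_card hrR)
    refine ⟨⟨z, mem_map_of_mem R.subtype z.2⟩, fun h1 => ?_⟩
    have h2 : ((z : R) : G) = 1 := congrArg Subtype.val h1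
    have h3 : z = 1 := Subtype.ext (Subtype.ext h2)
    rw [h3, orderOf_one] at hz
    exact hr.one_lt.ne hz
  -- an element of prime order `s ≠ r` of the normaliser acts without fixed points
  have hfpf : ∀ (s : ℕ), s.Prime → s ≠ r → ∀ g : normalizer (H : Set G), orderOf g = s → ∀ x : H, c g x = x → x = 1 := by
    intro s hs hsr g hg x hx
    by_contra hx1
    obtain ⟨k, hk⟩ := IsPGroup.iff_orderOf.1 hP x
    have hk0 : k ≠ 0 := by
      rintro rfl
      rw [pow_zero, orderOf_eq_one_iff] at hk
      exact hx1 hk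
    have hcom : Commute (g : G) (x : G) := by
      have h1 := hc g x
      rw [hx, eq_comm, mul_inv_eq_iff_eq_mul] at h1
      exact h1
    have h1 : orderOf (x : G) = r ^ k := by rw [Subgroup.orderOf_coe, hk]
    have h3 : orderOf ((x : G) ^ r ^ (k - 1)) = r := by
      rw [orderOf_pow_of_dvd (pow_ne_zero _ hr.ne_zero) (by rw [h1]; exact pow_dvd_pow _ (by omega)), h1,
        Nat.pow_div (by omega) hr.pos]
      have : k - (k - 1) = 1 := by omega
      rw [this, pow_one]
    have h4 : Commute ((x : G) ^ r ^ (k - 1)) (g : G) := (hcom.symm.pow_left _)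
    have h5 : ((g : G)) = 1 := h.eq_one hr h3 h4 (by
      rw [Subgroup.orderOf_coe, hg]
      intro h6
      exact hsr ((Nat.prime_dvd_prime_iff_eq hr hs).1 h6).symm)
    have h6 : g = 1 := Subtype.ext h5
    rw [h6, orderOf_one] at hg
    exact hs.one_lt.ne hg
  have hord : ∀ (s : ℕ), s.Prime → s ≠ r → ∀ g : normalizer (H : Set G), orderOf g = s → orderOf (c g) = s := by
    intro s hs hsr g hg
    have := Fact.mk hs
    apply orderOf_eq_prime
    · rw [← map_pow, ← hg, pow_orderOf_eq_one, map_one]
    · intro h1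
      obtain ⟨x, hx⟩ := hHne
      exact hx (hfpf s hs hsr g hg x (by rw [h1]; rfl))
  have hinv : ∀ x : H, c t x = x⁻¹ := by
    have h1 : Function.Involutive (c t) := by
      intro x
      have h2 : c t * c t = 1 := by
        rw [← map_mul, ← sq, ← ht, pow_orderOf_eq_one, map_one]
      exact congrArg (fun f : MulAut H => f x) h2
    have h2 := MonoidHom.FixedPointFree.coe_eq_inv_of_involutive (φ := c t)
      (fun x hx => hfpf 2 Nat.prime_two hr2.symm t ht x hx) h1
    intro x
    exact congrFun h2 x
  have hcomm : Commute (c t) (c y) := by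
    apply MulEquiv.ext
    intro x
    rw [MulAut.mul_apply, MulAut.mul_apply, hinv, hinv, map_inv]
  have h1 : orderOf (c (t * y)) = 2 * r' := by
    rw [map_mul, hcomm.orderOf_mul_eq_mul_orderOf_of_coprime, hord 2 Nat.prime_two hr2.symm t ht,
      hord r' hr' hrr.symm y hy]
    rw [hord 2 Nat.prime_two hr2.symm t ht, hord r' hr' hrr.symm y hy]
    exact (Nat.coprime_primes Nat.prime_two hr').2 (Ne.symm hr2')
  have h3 : 2 * r' ∣ orderOf (t * y) := h1 ▸ orderOf_map_dvd c (t * y)
  have h4 : ((t * y : normalizer (H : Set G)) : G) ^ r' = 1 :=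
    h' _ (by rw [Subgroup.orderOf_coe]; exact (dvd_mul_left _ _).trans h3)
  have h5 : orderOf (t * y) ∣ r' := by
    rw [← Subgroup.orderOf_coe]
    exact orderOf_dvd_of_pow_eq_one h4
  have h6 : 2 ∣ r' := (dvd_mul_right _ _).trans (h3.trans h5)
  exact hr2' ((Nat.prime_dvd_prime_iff_eq Nat.prime_two hr').1 h6).symm

/-! ### the index of a normal subgroup -/

/-- `|G : S|` divides a power of `r` times `(r - 1) / m` -/
theorem index_dvd [Finite G] (h : Clean r G) (hr : r.Prime) (S : Subgroup G) [S.Normal] (hS : r ∣ Nat.card S)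
    (hS2 : ¬ r ^ 2 ∣ Nat.card S) {m : ℕ} (hm : m = (Nat.card S / r) % r) {e : ℕ} (he : r - 1 = m * e) :
    ∃ b, S.index ∣ e * r ^ b := by
  have := Fact.mk hr
  let P : Sylow r S := default
  have hPc : Nat.card P = r := by
    obtain ⟨k, hk⟩ := IsPGroup.iff_card.1 P.isPGroup'
    have h1 : r ∣ Nat.card P := P.dvd_card_of_dvd_card hS
    have h2 : Nat.card P ∣ Nat.card S := card_subgroup_dvd_card _
    rw [hk] at h1 h2 ⊢
    rcases k with _ | _ | k
    · rw [pow_zero] at h1
      exact absurd h1 (Nat.Prime.not_dvd_one hr)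
    · rw [zero_add, pow_one]
    · exact absurd ((pow_dvd_pow r (by omega)).trans h2) hS2
  set H : Subgroup G := (P : Subgroup S).map S.subtype with hH
  have hsup : normalizer (H : Set G) ⊔ S = ⊤ := Sylow.normalizer_sup_eq_top P
  have hHc : Nat.card H = r := by
    rw [hH, card_map_of_injective S.subtype_injective, hPc]
  have hcyc : IsCyclic H := isCyclic_of_prime_card hHc
  obtain ⟨z, hz⟩ := exists_prime_orderOf_dvd_card' (G := H) r (by rw [hHc])
  have hz' : orderOf (z : G) = r := by rw [Subgroup.orderOf_coe, hz]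
  -- the order of a subgroup of the normaliser
  have hdiv : ∀ K : Subgroup G, K ≤ normalizer (H : Set G) → ∃ b, Nat.card K ∣ (r - 1) * r ^ b := by
    intro K hK
    let f : K →* MulAut H := H.normalizerMonoidHom.comp (inclusion hK)
    have h1 : Nat.card f.range ∣ r - 1 := by
      have h2 : Nat.card (MulAut H) = r - 1 := by
        rw [IsCyclic.card_mulAut, hHc, Nat.totient_prime hr]
      rw [← h2]
      exact card_subgroup_dvd_card _
    have h3 : IsPGroup r f.ker := by
      rintro ⟨g, hg⟩
      refine ⟨1, Subtype.ext (Subtype.ext ?_)⟩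
      have h4 : f g z = z := by
        rw [MonoidHom.mem_ker] at hg
        rw [hg]; rfl
      have h5 : (g : G) * z * (g : G)⁻¹ = z := congrArg (fun x : H => (x : G)) h4
      have h6 : Commute (z : G) (g : G) := by
        rw [mul_inv_eq_iff_eq_mul] at h5
        exact h5.symm
      rw [pow_one]
      exact h.pow_eq_one hr hz' h6
    obtain ⟨b, hb⟩ := IsPGroup.iff_card.1 h3
    refine ⟨b, ?_⟩
    have h4 : Nat.card K = Nat.card f.range * Nat.card f.ker := by
      have h5 := f.ker.card_mul_index
      rw [Subgroup.index_ker] at h5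
      rw [← h5, mul_comm]
    rw [h4, hb]
    exact Nat.mul_dvd_mul_right h1 _
  -- the normaliser in `S`
  set T : Subgroup G := normalizer (H : Set G) ⊓ S with hT
  have hTN : T ≤ normalizer (H : Set G) := inf_le_left
  have hcT : Nat.card T = Nat.card (normalizer ((P : Subgroup S) : Set S)) := by
    have h1 : (normalizer ((P : Subgroup S) : Set S)).map S.subtype = T := by
      ext g
      rw [mem_map, hT, mem_inf]
      constructor
      · rintro ⟨s, hs, rfl⟩
        refine ⟨?_, s.2⟩
        rw [mem_normalizer_iff] at hs ⊢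
        intro x
        constructor
        · intro hx
          obtain ⟨u, hu, rfl⟩ := mem_map.1 hx
          exact mem_map.2 ⟨s * u * s⁻¹, (hs u).1 hu, rfl⟩
        · intro hx
          obtain ⟨u, hu, hu2⟩ := mem_map.1 hx
          refine mem_map.2 ⟨s⁻¹ * u * s, ?_, ?_⟩
          · rw [hs]
            have : s * (s⁻¹ * u * s) * s⁻¹ = u := by group
            rw [this]
            exact hu
          · change ((s⁻¹ : S) : G) * (u : G) * (s : G) = x
            have h3 : (u : G) = s * x * (s : G)⁻¹ := hu2
            rw [h3, Subgroup.coe_inv]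
            group
      · rintro ⟨hg, hgS⟩
        refine ⟨⟨g, hgS⟩, ?_, rfl⟩
        rw [mem_normalizer_iff] at hg ⊢
        intro x
        have h3 := hg (x : G)
        have h4 : ∀ y : S, (y : G) ∈ H ↔ y ∈ (P : Subgroup S) := by
          intro y
          rw [hH, mem_map]
          constructor
          · rintro ⟨u, hu, hu2⟩
            have : u = y := Subtype.ext hu2
            exact this ▸ hu
          · intro hy
            exact ⟨y, hy, rfl⟩
        rw [h4] at h3
        rw [h3]
        exact h4 (⟨g, hgS⟩ * x * ⟨g, hgS⟩⁻¹)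
    rw [← h1, card_map_of_injective S.subtype_injective]
  have hcard : Nat.card S = Nat.card T * Nat.card (Sylow r S) := by
    have h1 : Nat.card (Sylow r S) = (normalizer ((P : Subgroup S) : Set S)).index :=
      Sylow.card_eq_index_normalizer P
    rw [hcT, h1, card_mul_index]
  have hrT : r ∣ Nat.card T := by
    have h1 : Nat.card P ∣ Nat.card (normalizer ((P : Subgroup S) : Set S)) := card_dvd_of_le le_normalizer
    rwa [hPc, ← hcT] at h1
  obtain ⟨n, hn⟩ := hrT
  have hn0 : ¬ r ∣ n := by
    intro h1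
    apply hS2
    rw [hcard, hn, sq]
    exact dvd_mul_of_dvd_left (Nat.mul_dvd_mul_left _ h1) _
  obtain ⟨b1, hb1⟩ := hdiv T hTN
  have hn1 : n ∣ r - 1 := by
    have h1 : n ∣ (r - 1) * r ^ b1 := (Dvd.intro_left r rfl).trans (hn ▸ hb1)
    exact ((Nat.Prime.coprime_iff_not_dvd hr).2 hn0).symm.pow_right b1 |>.dvd_of_dvd_mul_right h1
  have hr1 : 0 < r - 1 := Nat.sub_pos_of_lt hr.one_lt
  have hnlt : n < r := by
    have := Nat.le_of_dvd hr1 hn1
    omega
  have hnm : n = m := by
    have h1 : Nat.card S / r = n * Nat.card (Sylow r S) := by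
      rw [hcard, hn, mul_assoc, Nat.mul_div_cancel_left _ hr.pos]
    have h2 := card_sylow_modEq_one r S
    have h3 : n * Nat.card (Sylow r S) ≡ n * 1 [MOD r] := Nat.ModEq.mul_left n h2
    rw [hm, h1, h3, mul_one, Nat.mod_eq_of_lt hnlt]
  have hn00 : 0 < n := Nat.pos_of_ne_zero (by rintro rfl; exact hn0 (dvd_zero _))
  have hidx : S.index * (r * n) = Nat.card (normalizer (H : Set G)) := by
    have h1 : S.index = S.relIndex (normalizer (H : Set G)) := by
      rw [← relIndex_sup_right, hsup, relIndex_top_right]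
    have h2 : S.relIndex (normalizer (H : Set G)) * Nat.card T = Nat.card (normalizer (H : Set G)) := by
      rw [hT, ← inf_relIndex_left, mul_comm]
      have h3 := relIndex_mul_relIndex ⊥ (normalizer (H : Set G) ⊓ S) (normalizer (H : Set G)) bot_le inf_le_left
      rw [relIndex_bot_left, relIndex_bot_left] at h3
      exact h3
    rw [h1, ← hn, h2]
  obtain ⟨b, hb⟩ := hdiv _ le_rfl
  refine ⟨b, ?_⟩
  rw [← hidx, he, ← hnm] at hb
  have h1 : n * (S.index * r) ∣ n * (e * r ^ b) := by
    have e1 : n * (S.index * r) = S.index * (r * n) := by ring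
    have e2 : n * (e * r ^ b) = n * e * r ^ b := by ring
    rw [e1, e2]
    exact hb
  exact (dvd_mul_right _ _).trans (Nat.dvd_of_mul_dvd_mul_left hn00 h1)

end Cfsg.Agent.H559.CleanPrime
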