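import Mathlib

/-!
# A group `2³` normalised by an element of order `7`, from three relations (helper559)
-/

set_option autoImplicit false

namespace Cfsg.Agent.H559.EightSeven

variable {H : Type*} [Group H]

/-- the relations -/
structure Rel (z t : H) : Prop where
  z7 : z ^ 7 = 1
  t2 : t ^ 2 = 1
  t1 : t ≠ 1
  r : t * (z * t * z⁻¹) = z ^ 3 * t * (z ^ 3)⁻¹

/-- the conjugates -/
def c (z t : H) (i : ℕ) : H := z ^ i * t * (z ^ i)⁻¹

variable {z t : H} (h : Rel z t)

theorem c_add (i j : ℕ) : c z t (i + j) = z ^ i * c z t j * (z ^ i)⁻¹ := by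
  unfold c
  rw [pow_add]
  group

include h

theorem c_mod (i : ℕ) : c z t (i % 7) = c z t i := by
  unfold c
  conv_rhs => rw [← Nat.mod_add_div i 7, pow_add, pow_mul, h.z7, one_pow, mul_one]

theorem c_eq {i j : ℕ} (hij : i % 7 = j % 7) : c z t i = c z t j := by
  rw [← c_mod h i, hij, c_mod h j]

theorem c_sq (i : ℕ) : c z t i * c z t i = 1 := by
  unfold c
  have h1 : z ^ i * t * (z ^ i)⁻¹ * (z ^ i * t * (z ^ i)⁻¹) = z ^ i * (t * t) * (z ^ i)⁻¹ := by group
  rw [h1, ← sq, h.t2]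
  group

theorem c_inv (i : ℕ) : (c z t i)⁻¹ = c z t i := inv_eq_of_mul_eq_one_left (c_sq h i)

theorem c_one (i : ℕ) : c z t i * c z t (i + 1) = c z t (i + 3) := by
  have h1 := h.r
  have e0 : c z t i = z ^ i * c z t 0 * (z ^ i)⁻¹ := by rw [← c_add, add_zero]
  rw [e0, c_add i 1, c_add i 3]
  have e1 : c z t 0 * c z t 1 = c z t 3 := by
    unfold c
    rw [pow_zero, pow_one, one_mul, inv_one, mul_one]
    exact h1
  rw [← e1]
  group

omit h in
/-- two involutions whose product is an involution commute -/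
theorem comm_of_sq' {a b : H} (ha : a * a = 1) (hb : b * b = 1) (hab : a * b * (a * b) = 1) : a * b = b * a := by
  have h1 : a * b = (a * b)⁻¹ := eq_inv_of_mul_eq_one_left hab
  rw [h1, mul_inv_rev, inv_eq_of_mul_eq_one_left ha, inv_eq_of_mul_eq_one_left hb]

theorem c_comm1 (i : ℕ) : c z t i * c z t (i + 1) = c z t (i + 1) * c z t i :=
  comm_of_sq' (c_sq h i) (c_sq h _) (by rw [c_one h]; exact c_sq h _)

theorem c_three (i : ℕ) : c z t i * c z t (i + 3) = c z t (i + 1) := by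
  rw [← c_one h, ← mul_assoc, c_sq h, one_mul]

theorem c_comm3 (i : ℕ) : c z t i * c z t (i + 3) = c z t (i + 3) * c z t i :=
  comm_of_sq' (c_sq h i) (c_sq h _) (by rw [c_three h]; exact c_sq h _)

theorem c_two (i : ℕ) : c z t (i + 1) * c z t (i + 3) = c z t i := by
  rw [← c_one h, c_comm1 h, ← mul_assoc, c_sq h, one_mul]

theorem c_two' (i : ℕ) : c z t i * c z t (i + 2) = c z t (i + 6) := by
  have h1 := c_two h (i + 6)
  rw [c_eq h (show (i + 6 + 1) % 7 = i % 7 by omega), c_eq h (show (i + 6 + 3) % 7 = (i + 2) % 7 by omega)] at h1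
  exact h1

theorem c_comm2 (i : ℕ) : c z t i * c z t (i + 2) = c z t (i + 2) * c z t i :=
  comm_of_sq' (c_sq h i) (c_sq h _) (by rw [c_two' h]; exact c_sq h _)

/-- the product of two conjugates is `1` or a conjugate -/
theorem mul_mem (i j : ℕ) : c z t i * c z t j = 1 ∨ ∃ k, c z t i * c z t j = c z t k := by
  obtain ⟨d, hd, hdj⟩ : ∃ d < 7, (i + d) % 7 = j % 7 := ⟨(j + 6 * i) % 7, Nat.mod_lt _ (by norm_num), by omega⟩
  rw [← c_eq h hdj]
  interval_cases d
  · exact Or.inl (by rw [add_zero]; exact c_sq h i)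
  · exact Or.inr ⟨_, c_one h i⟩
  · exact Or.inr ⟨_, c_two' h i⟩
  · exact Or.inr ⟨_, c_three h i⟩
  · right
    refine ⟨i + 4 + 1, ?_⟩
    have h1 := c_three h (i + 4)
    have h2 := c_comm3 h (i + 4)
    rw [c_eq h (show (i + 4 + 3) % 7 = i % 7 by omega)] at h1 h2
    rw [← h2, h1]
  · right
    refine ⟨i + 5 + 6, ?_⟩
    have h1 := c_two' h (i + 5)
    have h2 := c_comm2 h (i + 5)
    rw [c_eq h (show (i + 5 + 2) % 7 = i % 7 by omega)] at h1 h2
    rw [← h2, h1]
  · right
    refine ⟨i + 6 + 3, ?_⟩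
    have h1 := c_one h (i + 6)
    have h2 := c_comm1 h (i + 6)
    rw [c_eq h (show (i + 6 + 1) % 7 = i % 7 by omega)] at h1 h2
    rw [← h2, h1]

/-- the subgroup `2³` -/
def T : Subgroup H where
  carrier := {x | x = 1 ∨ ∃ i, x = c z t i}
  one_mem' := Or.inl rfl
  mul_mem' := by
    rintro a b (rfl | ⟨i, rfl⟩) (rfl | ⟨j, rfl⟩)
    · exact Or.inl (one_mul 1)
    · exact Or.inr ⟨j, one_mul _⟩
    · exact Or.inr ⟨i, mul_one _⟩
    · rcases mul_mem h i j with h1 | ⟨k, h1⟩
      · exact Or.inl h1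
      · exact Or.inr ⟨k, h1⟩
  inv_mem' := by
    rintro a (rfl | ⟨i, rfl⟩)
    · exact Or.inl inv_one
    · exact Or.inr ⟨i, c_inv h i⟩

theorem mem_T {x : H} : x ∈ T h ↔ x = 1 ∨ ∃ i, x = c z t i := Iff.rfl

theorem t_mem : t ∈ T h := Or.inr ⟨0, by unfold c; rw [pow_zero, one_mul, inv_one, mul_one]⟩

theorem sq_eq_one {x : H} (hx : x ∈ T h) : x ^ 2 = 1 := by
  rcases hx with rfl | ⟨i, rfl⟩
  · exact one_pow 2
  · rw [sq]; exact c_sq h i

theorem conj_mem {x : H} (hx : x ∈ T h) : z * x * z⁻¹ ∈ T h := by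
  rcases hx with rfl | ⟨i, rfl⟩
  · left; group
  · right
    refine ⟨1 + i, ?_⟩
    rw [c_add, pow_one]

theorem eq_one_of_comm {x : H} (hx : x ∈ T h) (hc : z * x * z⁻¹ = x) : x = 1 := by
  rcases hx with rfl | ⟨i, rfl⟩
  · rfl
  · exfalso
    have h1 : c z t (i + 1) = c z t i := by
      have := c_add (z := z) (t := t) 1 i
      rw [pow_one, hc, add_comm 1 i] at this
      exact this
    have h2 : ∀ k, c z t (i + k) = c z t i := by
      intro k
      induction k with
      | zero => rw [add_zero]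
      | succ k ih =>
        have e1 := c_add (z := z) (t := t) 1 (i + k)
        rw [pow_one, ih, hc] at e1
        rw [show i + (k + 1) = 1 + (i + k) by omega]
        exact e1
    have h3 : c z t i = 1 := by
      have := c_one h i
      rw [h1, c_sq h, h2 3] at this
      exact this.symm
    apply h.t1
    have h4 : z ^ i * t * (z ^ i)⁻¹ = 1 := h3
    have h5 : t = (z ^ i)⁻¹ * (z ^ i * t * (z ^ i)⁻¹) * z ^ i := by group
    rw [h5, h4]
    group

end Cfsg.Agent.H559.EightSeven
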