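import Mathlib
import Cfsg.Agent.H559.USixSpec
import Cfsg.Agent.H559.KEleven
import Cfsg.Agent.H559.ActFrob
import Cfsg.Agent.H559.MElts
import Cfsg.Agent.H559.HSElt
import Cfsg.Agent.H852.USixElts
import Cfsg.Agent.CpAutLy.Row
import Cfsg.Agent.S2466
import Cfsg.Agent.S3633
import Cfsg.Agent.R01.Assembly
import Cfsg.Agent.SignalizersComponents.ComponentExists

/-!
# Recognition of `U₆(2)` by its element orders (helper559, helper852)
-/

set_option autoImplicit false

namespace Cfsg.Agent.H559.SixMain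

open Subgroup Cfsg Cfsg.Agent.OrdDiv Cfsg.Agent.H436 Cfsg.Agent.H559.CleanPrime Cfsg.Agent.H559.ActZ

universe u

/-- no element of order `9` in a group with a noncyclic Sylow `3`-subgroup of order `9` -/
theorem no_nine {S : Type*} [Group S] [Finite S] (hS : ¬ 27 ∣ Nat.card S) {x y : S} (hx : x ^ 3 = 1) (hy : y ^ 3 = 1)
    (hxy : x * y = y * x) (hx1 : x ≠ 1) (hy1 : y ≠ 1) (hyx : y ≠ x) (hyx2 : y ≠ x * x) (g : S) : orderOf g ≠ 9 := by
  classical
  intro hg
  have : Fact (Nat.Prime 3) := ⟨by norm_num⟩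
  -- a Sylow subgroup containing `x` and `y`
  have h1 : IsPGroup 3 (zpowers x ⊔ zpowers y : Subgroup S) := by
    apply IsPGroup.to_sup_of_normal_left'
    · exact IsPGroup.of_card (n := 1) (by
        rw [Nat.card_zpowers, orderOf_eq_prime hx hx1, pow_one])
    · exact IsPGroup.of_card (n := 1) (by
        rw [Nat.card_zpowers, orderOf_eq_prime hy hy1, pow_one])
    · rw [zpowers_le, mem_normalizer_iff]
      intro k
      have hk : ∀ k : S, k ∈ zpowers x → y * k * y⁻¹ = k := by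
        intro k hk
        obtain ⟨m, rfl⟩ := mem_zpowers_iff.1 hk
        have h2 : Commute y (x ^ m) := (show Commute y x from hxy.symm).zpow_right m
        rw [h2.eq, mul_inv_cancel_right]
      constructor
      · intro h
        rw [hk k h]
        exact h
      · intro h
        obtain ⟨m, hm⟩ := mem_zpowers_iff.1 h
        have h2 : Commute y (x ^ m) := (show Commute y x from hxy.symm).zpow_right m
        have h3 : k = x ^ m := by
          have h4 : k = y⁻¹ * (y * k * y⁻¹) * y := by group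
          rw [h4, ← hm, mul_assoc, ← h2.eq, inv_mul_cancel_left]
        rw [h3]
        exact mem_zpowers_iff.2 ⟨m, rfl⟩
  obtain ⟨P, hP⟩ := h1.exists_le_sylow
  obtain ⟨Q, hQ⟩ := IsPGroup.exists_le_sylow (p := 3) (P := zpowers g)
    (IsPGroup.of_card (n := 2) (by rw [Nat.card_zpowers, hg]; norm_num))
  have hQe : (zpowers g) = Q := by
    refine eq_of_le_of_card_ge hQ ?_
    obtain ⟨k, hk⟩ := IsPGroup.iff_card.1 Q.isPGroup'
    rw [hk, Nat.card_zpowers, hg]
    by_contra h2
    have h3 : 3 ≤ k := by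
      by_contra h4
      have : k ≤ 2 := by omega
      interval_cases k <;> omega
    apply hS
    have h4 : (27 : ℕ) = 3 ^ 3 := by norm_num
    rw [h4]
    refine (pow_dvd_pow 3 h3).trans ?_
    rw [← hk]
    exact card_subgroup_dvd_card _
  have hcyc : IsCyclic Q := by
    have : IsCyclic (zpowers g) := inferInstance
    have h2 : IsCyclic ((Q : Subgroup S)) := hQe ▸ this
    exact h2
  have hcyc' : IsCyclic P := (Sylow.equiv Q P).isCyclic.1 hcyc
  have hxP : x ∈ (P : Subgroup S) := hP (mem_sup_left (mem_zpowers x))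
  have hyP : y ∈ (P : Subgroup S) := hP (mem_sup_right (mem_zpowers y))
  obtain ⟨Pg, hPg⟩ : ∃ Pg : Subgroup S, Pg = P := ⟨_, rfl⟩
  rw [← hPg] at hxP hyP
  have hcyc'' : IsCyclic Pg := hPg ▸ hcyc'
  let _ := Fintype.ofFinite Pg
  have h3 : (Finset.univ.filter (fun a : Pg => a ^ 3 = 1)).card ≤ 3 := by
    have := IsCyclic.card_pow_eq_one_le (α := Pg) (n := 3) (by norm_num)
    convert this
  let x' : Pg := ⟨x, hxP⟩
  let y' : Pg := ⟨y, hyP⟩
  have h4 : ({1, x', x' * x', y'} : Finset Pg) ⊆ Finset.univ.filter (fun a : Pg => a ^ 3 = 1) := by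
    intro a ha
    rw [Finset.mem_filter]
    refine ⟨Finset.mem_univ _, ?_⟩
    simp only [Finset.mem_insert, Finset.mem_singleton] at ha
    rcases ha with rfl | rfl | rfl | rfl
    · exact one_pow 3
    · exact Subtype.ext hx
    · apply Subtype.ext
      change (x * x) ^ 3 = 1
      rw [← sq, ← pow_mul, mul_comm, pow_mul, hx, one_pow]
    · exact Subtype.ext hy
  have h5 : ({1, x', x' * x', y'} : Finset Pg).card = 4 := by
    have e : ∀ a b : Pg, (a : S) ≠ b → a ≠ b := fun a b h h' => h (congrArg Subtype.val h')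
    have hxx : x * x ≠ 1 := by
      intro h
      apply hx1
      have : x ^ 3 = x * x * x := by rw [pow_succ, sq]
      rw [this, h, one_mul] at hx
      exact hx
    have hxx' : x ≠ x * x := by
      intro h
      apply hx1
      exact (mul_eq_left.1 h.symm)
    rw [Finset.card_insert_of_notMem, Finset.card_insert_of_notMem, Finset.card_insert_of_notMem,
      Finset.card_singleton]
    · rw [Finset.mem_singleton]
      exact e _ _ hyx2.symm
    · rw [Finset.mem_insert, Finset.mem_singleton]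
      rintro (h | h)
      · exact e _ _ hxx' h
      · exact e _ _ hyx.symm h
    · rw [Finset.mem_insert, Finset.mem_insert, Finset.mem_singleton]
      rintro (h | h | h)
      · exact e _ _ hx1.symm h
      · exact e _ _ hxx.symm h
      · exact e _ _ hy1.symm h
  have h6 := Finset.card_le_card h4
  rw [h5] at h6
  omega

/-- what we know of `G` -/
structure Om (G : Type*) [Group G] : Prop where
  c7 : Clean 7 G
  c11 : Clean 11 G
  c5 : Five G
  le : ∀ p, p.Prime → p ∣ Nat.card G → p ≤ 11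
  d2 : 2 ∣ Nat.card G
  d7 : 7 ∣ Nat.card G
  d11 : 11 ∣ Nat.card G
  nine : ∃ g : G, orderOf g = 9

theorem om_of_range {G : Type*} [Group G] [Finite G] {F : Type*} [Field F] [Fintype F] (hF : Fintype.card F = 4)
    (h : Set.range (fun g : G => orderOf g) = Set.range (fun x : Cfsg.PSU 6 F 2 => orderOf x)) : Om G := by
  have hLc : Nat.card (Cfsg.PSU 6 F 2) = 9196830720 := Cfsg.Agent.R01.Assembly.card_PSU (by rw [hF]; norm_num)
  have hfin : Finite (Cfsg.PSU 6 F 2) := (Nat.card_pos_iff.1 (by rw [hLc]; norm_num)).2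
  have hto : ∀ g : G, ∃ x : Cfsg.PSU 6 F 2, orderOf x = orderOf g := fun g => by
    have : orderOf g ∈ Set.range (fun x : Cfsg.PSU 6 F 2 => orderOf x) := h ▸ ⟨g, rfl⟩
    exact this
  have hfrom : ∀ x : Cfsg.PSU 6 F 2, ∃ g : G, orderOf g = orderOf x := fun x => by
    have : orderOf x ∈ Set.range (fun g : G => orderOf g) := h.symm ▸ ⟨x, rfl⟩
    exact this
  have hpow : ∀ (g : G) (x : Cfsg.PSU 6 F 2), orderOf x = orderOf g → ∀ k, x ^ k = 1 → g ^ k = 1 := by
    intro g x hx k hk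
    exact orderOf_dvd_iff_pow_eq_one.1 (hx ▸ orderOf_dvd_of_pow_eq_one hk)
  have hd : ∀ p, p.Prime → p ∣ 9196830720 → p ∣ Nat.card G := by
    intro p hp hpL
    have := Fact.mk hp
    obtain ⟨x, hx⟩ := exists_prime_orderOf_dvd_card' (G := Cfsg.PSU 6 F 2) p (by rw [hLc]; exact hpL)
    obtain ⟨g, hg⟩ := hfrom x
    rw [← hx, ← hg]
    exact orderOf_dvd_natCard g
  refine ⟨?_, ?_, ?_, ?_, hd 2 (by norm_num) (by norm_num), hd 7 (by norm_num) (by norm_num),
    hd 11 (by norm_num) (by norm_num), ?_⟩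
  · intro g hg
    obtain ⟨x, hx⟩ := hto g
    exact hpow g x hx 7 (USixSpec.seven hF x (hx ▸ hg))
  · intro g hg
    obtain ⟨x, hx⟩ := hto g
    exact hpow g x hx 11 (USixSpec.eleven hF x (hx ▸ hg))
  · intro g hg
    obtain ⟨x, hx⟩ := hto g
    exact (USixSpec.five hF x (hx ▸ hg)).imp (hpow g x hx 10) (hpow g x hx 15)
  · intro p hp hpG
    have := Fact.mk hp
    obtain ⟨g, hg⟩ := exists_prime_orderOf_dvd_card' (G := G) p hpG
    obtain ⟨x, hx⟩ := hto g
    have h1 : p ∣ 9196830720 := by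
      rw [← hLc, ← hg, ← hx]
      exact orderOf_dvd_natCard x
    have h2 : (9196830720 : ℕ) = 2 ^ 15 * (3 ^ 6 * (5 * (7 * 11))) := by norm_num
    rw [h2] at h1
    rcases hp.dvd_mul.1 h1 with h3 | h3
    · exact (Nat.le_of_dvd (by norm_num) (hp.dvd_of_dvd_pow h3)).trans (by norm_num)
    rcases hp.dvd_mul.1 h3 with h3 | h3
    · exact (Nat.le_of_dvd (by norm_num) (hp.dvd_of_dvd_pow h3)).trans (by norm_num)
    rcases hp.dvd_mul.1 h3 with h3 | h3
    · exact (Nat.le_of_dvd (by norm_num) h3).trans (by norm_num)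
    rcases hp.dvd_mul.1 h3 with h3 | h3
    · exact (Nat.le_of_dvd (by norm_num) h3).trans (by norm_num)
    · exact Nat.le_of_dvd (by norm_num) h3
  · obtain ⟨x, hx⟩ := Cfsg.Agent.H852.USixElts.exists_nine hF
    obtain ⟨g, hg⟩ := hfrom x
    exact ⟨g, by rw [hg, hx]⟩

/-- the reduction to almost simple groups (`H388.AlmostSimple.main`) -/
def AlmostSimple : Prop := ∀ (G : Type u) [Group G] [Finite G], ¬ Group.IsSolvable G → ∀ (r : ℕ), r.Prime → r ≠ 2 →
  r ∣ Nat.card G → (∀ g : G, orderOf g ≠ 2 * r) → ∀ (R : Subgroup G) [R.Normal], Group.IsSolvable ↥R →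
  (∀ N : Subgroup G, N.Normal → Group.IsSolvable ↥N → N ≤ R) →
  ∃ S : Subgroup (G ⧸ R), S.Normal ∧ IsSimpleGroup ↥S ∧ ¬ IsMulCommutative ↥S ∧
      Subgroup.centralizer (S : Set (G ⧸ R)) = ⊥

variable {G : Type u} [Group G] [Finite G]

set_option linter.unusedSectionVars false

/-- **The reduction**: the radical is nilpotent of order prime to `7` and `11`, the socle is simple. -/
theorem reduction (h : Om G) (hAS : AlmostSimple.{u})
    (hname : ∀ (S : Type u) [Group S] [Finite S] [IsSimpleGroup S], ¬ IsMulCommutative S → ∃ g, IsNamed g S) :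
    ∃ (R : Subgroup G) (_ : R.Normal) (S : Subgroup (G ⧸ R)) (_ : S.Normal) (_ : IsSimpleGroup S) (g : Grp),
      Group.IsNilpotent R ∧ ¬ 7 ∣ Nat.card R ∧ ¬ 11 ∣ Nat.card R ∧ 7 ∣ Nat.card S ∧ 11 ∣ Nat.card S ∧ IsNamed g S ∧
      (g = .alt 11 ∨ g = .alt 12 ∨ g = .m22 ∨ g = .mcl ∨ g = .hs ∨ g = .psu 6 2) := by
  have p7 : Nat.Prime 7 := by norm_num
  have p11 : Nat.Prime 11 := by norm_num
  have e7 : ∀ g : G, ∀ k, orderOf g ≠ 7 * (k + 2) := by
    intro g k hg
    have h1 := orderOf_dvd_of_pow_eq_one (h.c7 g (hg ▸ dvd_mul_right _ _))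
    rw [hg] at h1
    have := Nat.le_of_dvd (by norm_num) h1
    omega
  have e11 : ∀ g : G, ∀ k, orderOf g ≠ 11 * (k + 2) := by
    intro g k hg
    have h1 := orderOf_dvd_of_pow_eq_one (h.c11 g (hg ▸ dvd_mul_right _ _))
    rw [hg] at h1
    have := Nat.le_of_dvd (by norm_num) h1
    omega
  have hρ : (∀ r ∈ ({2, 7, 11} : Finset ℕ), r.Prime ∧ r ∣ Nat.card G) ∧
      (∀ r ∈ ({2, 7, 11} : Finset ℕ), ∀ s ∈ ({2, 7, 11} : Finset ℕ), r ≠ s → ¬ ∃ x : G, orderOf x = r * s) := by
    constructor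
    · intro r hr
      simp only [Finset.mem_insert, Finset.mem_singleton] at hr
      rcases hr with rfl | rfl | rfl
      · exact ⟨Nat.prime_two, h.d2⟩
      · exact ⟨p7, h.d7⟩
      · exact ⟨p11, h.d11⟩
    · intro r hr s hs hrs
      simp only [Finset.mem_insert, Finset.mem_singleton] at hr hs
      rintro ⟨x, hx⟩
      rcases hr with rfl | rfl | rfl <;> rcases hs with rfl | rfl | rfl
      · exact hrs rfl
      · exact e7 x 0 (by rw [hx])
      · exact e11 x 0 (by rw [hx])
      · exact e7 x 0 (by rw [hx])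
      · exact hrs rfl
      · exact e7 x 9 (by rw [hx])
      · exact e11 x 0 (by rw [hx])
      · exact e7 x 9 (by rw [hx])
      · exact hrs rfl
  obtain ⟨R, hRc, hRs, hRmax⟩ := Cfsg.Agent.SignalizersComponents.ComponentExists.exists_solvableRadical G
  have hRn : R.Normal := inferInstance
  obtain ⟨hone, hns⟩ := Cfsg.Agent.S3633.result ({2, 7, 11} : Finset ℕ) (by decide) hρ R hRs
  obtain ⟨S, hSn, hSs, hSna, -⟩ := hAS G hns 7 p7 (by norm_num) h.d7
    (fun g hg => e7 g 0 (by rw [hg])) R hRs hRmax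
  have h7R : ¬ 7 ∣ Nat.card R := by
    intro h7
    have h2 : ¬ 2 ∣ Nat.card R := fun h2 => by
      have := hone 7 (by simp) 2 (by simp) h7 h2
      omega
    have h11 : ¬ 11 ∣ Nat.card R := fun h2 => by
      have := hone 7 (by simp) 11 (by simp) h7 h2
      omega
    exact radical p7 p11 (by norm_num) (by norm_num) (by norm_num) h.c7 h.c11 R h.d2 h2 h.d11 h11 h7
  have h11R : ¬ 11 ∣ Nat.card R := by
    intro h11
    have h2 : ¬ 2 ∣ Nat.card R := fun h2 => by
      have := hone 11 (by simp) 2 (by simp) h11 h2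
      omega
    exact radical p11 p7 (by norm_num) (by norm_num) (by norm_num) h.c11 h.c7 R h.d2 h2 h.d7 h7R h11
  have hRnil : Group.IsNilpotent R := h.c7.isNilpotent p7 h.d7 R h7R
  have hq : ∀ p, p.Prime → p ∣ Nat.card G → ¬ p ∣ Nat.card R → p ∣ Nat.card (G ⧸ R) := by
    intro p hp hpG hpR
    rw [← R.card_mul_index] at hpG
    exact (hp.dvd_mul.1 hpG).resolve_left hpR
  have h7S : 7 ∣ Nat.card S := (h.c7.quotient R).dvd_simple p7 (hq 7 p7 h.d7 h7R) S hSna
  have h11S : 11 ∣ Nat.card S := (h.c11.quotient R).dvd_simple p11 (hq 11 p11 h.d11 h11R) S hSna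
  obtain ⟨g, hg⟩ := hname S hSna
  refine ⟨R, hRn, S, hSn, hSs, g, hRnil, h7R, h11R, h7S, h11S, hg, KEleven.both hg (fun r hr hrS => ?_) h7S h11S⟩
  refine h.le r hr ?_
  refine (hrS.trans (card_subgroup_dvd_card S)).trans ?_
  exact card_quotient_dvd_card R

theorem alt_false (h : Om G) {R : Subgroup G} [R.Normal] {S : Subgroup (G ⧸ R)} {n : ℕ} (hn : 10 ≤ n)
    (hr : Nonempty (S ≃* ↥(alternatingGroup (Fin n)))) : False := by
  obtain ⟨e⟩ := hr
  obtain ⟨x, hx⟩ := (Cfsg.Agent.S2466.result n 7 3 (by norm_num) (by norm_num) (by norm_num) (by norm_num)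
    (by norm_num) (by omega) (by omega)).2 (by omega)
  obtain ⟨g, hg⟩ := QuotientGroup.mk_surjective ((e.symm x : S) : G ⧸ R)
  have h1 : 21 ∣ orderOf g := by
    have h2 := orderOf_map_dvd (QuotientGroup.mk' R) g
    rw [QuotientGroup.mk'_apply, hg, Subgroup.orderOf_coe, MulEquiv.orderOf_eq, hx] at h2
    exact h2
  have h3 := orderOf_dvd_of_pow_eq_one (h.c7 g (by omega))
  have := Nat.le_of_dvd (by norm_num) (h1.trans h3)
  omega

theorem five_false (h : Om G) {R : Subgroup G} [R.Normal] {S : Subgroup (G ⧸ R)} {s : S} {n : ℕ}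
    (hs : orderOf s = n) (hn5 : 5 ∣ n) (h10 : ¬ n ∣ 10) (h15 : ¬ n ∣ 15) : False := by
  obtain ⟨g, hg⟩ := QuotientGroup.mk_surjective (s : G ⧸ R)
  have h1 : n ∣ orderOf g := by
    have h2 := orderOf_map_dvd (QuotientGroup.mk' R) g
    rw [QuotientGroup.mk'_apply, hg, Subgroup.orderOf_coe, hs] at h2
    exact h2
  rcases h.c5 g (hn5.trans h1) with h2 | h2
  · exact h10 (h1.trans (orderOf_dvd_of_pow_eq_one h2))
  · exact h15 (h1.trans (orderOf_dvd_of_pow_eq_one h2))

theorem mcl_false (h : Om G) {R : Subgroup G} [R.Normal] {S : Subgroup (G ⧸ R)} (hr : Spor.IsoMcL S) : False := by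
  obtain ⟨z, u', f, hz, hu, hf, hzu, hzf, huf, -⟩ := Cfsg.Agent.CpAutLy.McLElt.exists_data hr
  have c1 : Commute z u' := hzu
  have h6 : orderOf (z * u') = 6 := by
    rw [c1.orderOf_mul_eq_mul_orderOf_of_coprime (by rw [hz, hu]; norm_num), hz, hu]
  have c2 : Commute (z * u') f := (show Commute z f from hzf).mul_left huf
  have h30 : orderOf (z * u' * f) = 30 := by
    rw [c2.orderOf_mul_eq_mul_orderOf_of_coprime (by rw [h6, hf]; norm_num), h6, hf]
  exact five_false h h30 (by norm_num) (by norm_num) (by norm_num)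

theorem hs_false (h : Om G) {R : Subgroup G} [R.Normal] {S : Subgroup (G ⧸ R)} (hr : Spor.IsoHS S) : False := by
  obtain ⟨e⟩ := hr
  obtain ⟨x, hx⟩ := HSElt.exists_twenty
  exact five_false h (s := e.symm x) (by rw [MulEquiv.orderOf_eq, hx]) (by norm_num) (by norm_num) (by norm_num)

theorem m22_false (h : Om G) {R : Subgroup G} [R.Normal] (hR : Group.IsNilpotent R) {S : Subgroup (G ⧸ R)}
    [S.Normal] [IsSimpleGroup S] (h7S : 7 ∣ Nat.card S) (h11S : 11 ∣ Nat.card S) (hS : Nat.card S = 443520)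
    (hr : Spor.IsoM22 S) : False := by
  obtain ⟨e⟩ := hr
  obtain ⟨z, t, hz, ht, ht1, hzt⟩ := MElts.rel
  have hrel : EightSeven.Rel (e.symm z) (e.symm t) := by
    refine ⟨by rw [← map_pow, hz, map_one], by rw [← map_pow, ht, map_one], ?_, ?_⟩
    · intro h1
      exact ht1 ((MulEquiv.map_eq_one_iff _).1 h1)
    · have := congrArg e.symm hzt
      simpa only [map_mul, map_inv, map_pow] using this
  have h3R : ¬ 3 ∣ Nat.card R :=
    ActFrob.no_odd_rel (by norm_num) (by norm_num) (by norm_num) h.c7 R hR S h7S hrel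
  obtain ⟨b, hb⟩ := index_dvd (h.c11.quotient R) (by norm_num) S h11S (by rw [hS]; norm_num) (m := 5)
    (by rw [hS]) (e := 2) (by norm_num)
  obtain ⟨g, hg⟩ := h.nine
  have hg' : orderOf (QuotientGroup.mk g : G ⧸ R) = 9 := by
    have h1 : orderOf (QuotientGroup.mk g : G ⧸ R) ∣ 3 ^ 2 := by
      have := orderOf_map_dvd (QuotientGroup.mk' R) g
      rw [hg] at this
      exact this
    obtain ⟨k, hk, hk'⟩ := (Nat.dvd_prime_pow (by norm_num)).1 h1
    have hk2 : k = 2 := by
      by_contra hne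
      have hk1 : k ≤ 1 := by omega
      have h2 : (QuotientGroup.mk g : G ⧸ R) ^ 3 = 1 := by
        apply orderOf_dvd_iff_pow_eq_one.1
        rw [hk']
        exact (pow_dvd_pow 3 hk1)
      rw [← QuotientGroup.mk_pow, QuotientGroup.eq_one_iff] at h2
      apply h3R
      have h3 : orderOf (g ^ 3) = 3 := by
        rw [orderOf_pow_of_dvd (by norm_num) (by rw [hg]; norm_num), hg]
      rw [← Subgroup.orderOf_mk _ h2] at h3
      rw [← h3]
      exact orderOf_dvd_natCard _
    rw [hk', hk2]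
    norm_num
  have hcop : (orderOf (QuotientGroup.mk g : G ⧸ R)).Coprime S.index := by
    rw [hg']
    refine Nat.Coprime.coprime_dvd_right hb ?_
    exact Nat.Coprime.mul_right (by norm_num) (Nat.Coprime.pow_right b (by norm_num))
  have hmem : (QuotientGroup.mk g : G ⧸ R) ^ S.index ∈ S := S.pow_index_mem _
  have h9 : orderOf (⟨_, hmem⟩ : S) = 9 := by
    rw [Subgroup.orderOf_mk, Nat.Coprime.orderOf_pow hcop, hg']
  obtain ⟨x, y, hx, hy, hxy, hx1, hy1, hyx, hyx2⟩ := MElts.three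
  refine no_nine (S := S) (by rw [hS]; norm_num) (x := e.symm x) (y := e.symm y) (by rw [← map_pow, hx, map_one])
    (by rw [← map_pow, hy, map_one]) (by rw [← map_mul, ← map_mul, hxy])
    (fun h1 => hx1 ((MulEquiv.map_eq_one_iff _).1 h1)) (fun h1 => hy1 ((MulEquiv.map_eq_one_iff _).1 h1))
    (fun h1 => hyx (e.symm.injective h1)) (fun h1 => hyx2 (e.symm.injective (by rw [h1, map_mul]))) _ h9

theorem psu_iso (h : Om G) {R : Subgroup G} [hRn : R.Normal] (hR : Group.IsNilpotent R) (h7R : ¬ 7 ∣ Nat.card R)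
    (h11R : ¬ 11 ∣ Nat.card R) {S : Subgroup (G ⧸ R)}
    [S.Normal] [IsSimpleGroup S] (h7S : 7 ∣ Nat.card S) (h11S : 11 ∣ Nat.card S) {F : Type*} [Field F] [Fintype F]
    (hF : Fintype.card F = 4) (e : S ≃* Cfsg.PSU 6 F 2) : Nonempty (G ≃* Cfsg.PSU 6 F 2) := by
  have hLc : Nat.card (Cfsg.PSU 6 F 2) = 9196830720 := Cfsg.Agent.R01.Assembly.card_PSU (by rw [hF]; norm_num)
  have hS : Nat.card S = 9196830720 := by rw [Nat.card_congr e.toEquiv, hLc]
  -- odd primes
  have hodd : ∀ p, p.Prime → p ≠ 2 → p ≠ 7 → ¬ p ∣ Nat.card R := by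
    intro p hp hp2 hp7
    obtain ⟨φ, α, x, hφ, hx, hα, hinj⟩ := Cfsg.Agent.H852.USixElts.frob_eight_seven hF
    refine ActFrob.no_odd hp hp2 hp7 h.c7 R hR S h7S (by decide) (e.symm.toMonoidHom.comp φ)
      (Multiplicative.ofAdd (1, 0, 0)) ?_ α (e.symm x) (by rw [MulEquiv.orderOf_eq, hx]) ?_ hinj
    · intro h1
      have h2 : φ (Multiplicative.ofAdd (1, 0, 0)) = 1 := (MulEquiv.map_eq_one_iff e.symm).1 h1
      rw [← map_one φ] at h2
      have h3 := hφ h2
      revert h3
      decide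
    · intro k
      change e.symm x * e.symm (φ k) = e.symm (φ (α k)) * e.symm x
      rw [← map_mul, hα, map_mul]
  have htwo : ¬ 2 ∣ Nat.card R := by
    obtain ⟨y, f, hy, hf, hfy⟩ := Cfsg.Agent.H852.USixElts.frob_eleven_five hF
    obtain ⟨x, t, z, hx, ht, hz, hxt, hxz, htz⟩ := Cfsg.Agent.H852.USixElts.five_sym hF
    refine ActFrob.no_two h.c11 h.c5 R hR S (by rw [hS]; norm_num) (y := e.symm y) (f := e.symm f) (x := e.symm x)
      (t := e.symm t) (z := e.symm z) (by rw [MulEquiv.orderOf_eq, hy]) (by rw [MulEquiv.orderOf_eq, hf]) ?_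
      (by rw [MulEquiv.orderOf_eq, hx]) (by rw [MulEquiv.orderOf_eq, ht]) (by rw [MulEquiv.orderOf_eq, hz]) ?_ ?_ ?_
    · rw [← map_inv, ← map_mul, ← map_mul, hfy, map_pow]
    · rw [← map_mul, hxt, map_mul]
    · rw [← map_mul, hxz, map_mul]
    · rw [← map_inv, ← map_mul, ← map_mul, htz, map_inv]
  have hRb : R = ⊥ := by
    rw [← card_eq_one]
    by_contra hne
    have hp := Nat.minFac_prime hne
    have hd := Nat.minFac_dvd (Nat.card R)
    by_cases h2 : (Nat.card R).minFac = 2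
    · exact htwo (h2 ▸ hd)
    by_cases h7 : (Nat.card R).minFac = 7
    · exact h7R (h7 ▸ hd)
    exact hodd _ hp h2 h7 hd
  obtain ⟨a, ha⟩ := index_dvd (h.c7.quotient R) (by norm_num) S h7S (by rw [hS]; norm_num) (m := 6)
    (by rw [hS]) (e := 1) (by norm_num)
  obtain ⟨b, hb⟩ := index_dvd (h.c11.quotient R) (by norm_num) S h11S (by rw [hS]; norm_num) (m := 5)
    (by rw [hS]) (e := 2) (by norm_num)
  have hidx : S.index = 1 := by
    apply Nat.eq_one_of_dvd_coprimes (a := 1 * 7 ^ a) (b := 2 * 11 ^ b) _ ha hb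
    rw [one_mul]
    exact Nat.Coprime.pow_left a (Nat.Coprime.mul_right (by norm_num) (Nat.Coprime.pow_right b (by norm_num)))
  have hStop : S = ⊤ := index_eq_one.1 hidx
  subst hRb
  subst hStop
  exact ⟨((QuotientGroup.quotientBot (G := G)).symm.trans Subgroup.topEquiv.symm).trans e⟩

/-- **Main theorem.** -/
theorem main (hAS : AlmostSimple.{u}) (hname : ∀ (S : Type u) [Group S] [Finite S] [IsSimpleGroup S], ¬ IsMulCommutative S → ∃ g, IsNamed g S)
    {F : Type*} [Field F] [Fintype F] (hF : Fintype.card F = 4)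
    (h : Set.range (fun g : G => orderOf g) = Set.range (fun x : Cfsg.PSU 6 F 2 => orderOf x)) :
    Nonempty (G ≃* Cfsg.PSU 6 F 2) := by
  have ho := om_of_range hF h
  obtain ⟨R, hRn, S, hSn, hSs, g, hR, h7R, h11R, h7S, h11S, hg, hl⟩ := reduction ho hAS hname
  rcases hl with rfl | rfl | rfl | rfl | rfl | rfl
  · exact (alt_false ho (by norm_num) hg.real).elim
  · exact (alt_false ho (by norm_num) hg.real).elim
  · exact (m22_false ho hR h7S h11S (by rw [hg.ord]; decide +kernel) hg.real).elim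
  · exact (mcl_false ho hg.real).elim
  · exact (hs_false ho hg.real).elim
  · obtain ⟨F', _, _, hF', ⟨e⟩⟩ := hg.real
    obtain ⟨e'⟩ := Cfsg.Agent.SporadicStructure.PsuMatch.psu_iso_of_card (F := F') (K := F)
      (by rw [hF', hF]; norm_num) 6 2
    exact psu_iso ho hR h7R h11R h7S h11S hF (e.trans e')

end Cfsg.Agent.H559.SixMain
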