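import Cfsg.Agent.H670.Palfy.Base
import Cfsg.Agent.H675.Nd.Cliff
import Cfsg.Agent.S0886

/-!
# Core A (helper670's plan, DEGSOLV 7) (helper559)

`H` acts on `V` with `SLD H V C p n`, every nonzero vector is fixed by exactly one Sylow `r`-subgroup.  If `ν` is an
irreducible character of the kernel `K` such that `r` divides neither the degrees of the irreducible characters of `H` over
`ν` nor `|H : H_v| ψ(1)` for `v ≠ 0`, `ψ ∈ Irr (H_v | ν)`, then the Sylow `r`-subgroups of `H` act trivially on `V`.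
-/

set_option autoImplicit false
set_option linter.style.haveILetI false
set_option linter.unusedSectionVars false

namespace Cfsg.Agent.H559.CoreA

open Cfsg Cfsg.Agent.H670.Palfy Cfsg.Agent.H672 Cfsg.Agent.H672.RM Cfsg.Agent.H675.Nd
  Cfsg.Agent.Characters.Core Cfsg.Agent.Characters.Clifford

universe u v

section grp

variable {H : Type u} [Group H] [Finite H]

/-- Two Sylow subgroups contained in `T` are conjugate by an element of `C ⊓ T` if `H / C` is abelian. -/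
theorem exists_conj_mem {r : ℕ} [Fact r.Prime] {C T : Subgroup H} (hC : C.Normal)
    (hab : ∀ a b : H, a * b * a⁻¹ * b⁻¹ ∈ C) (Q Q' : Sylow r H) (hQ : (Q : Subgroup H) ≤ T)
    (hQ' : (Q' : Subgroup H) ≤ T) : ∃ k ∈ C ⊓ T, Q' = k • Q := by
  -- `Q C` contains `Q'`
  obtain ⟨g, hg⟩ := MulAction.exists_smul_eq H Q Q'
  have hle : (Q' : Subgroup H) ≤ C ⊔ (Q : Subgroup H) := by
    intro x hx
    rw [← hg, mem_smul_sylow] at hx
    have h1 : x = (g * (g⁻¹ * x * g) * g⁻¹ * (g⁻¹ * x * g)⁻¹) * (g⁻¹ * x * g) := by group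
    rw [h1]
    exact Subgroup.mul_mem_sup (hab _ _) hx
  let X : Subgroup H := (C ⊔ (Q : Subgroup H)) ⊓ T
  have h1 : (Q : Subgroup H) ≤ X := le_inf le_sup_right hQ
  have h2 : (Q' : Subgroup H) ≤ X := le_inf hle hQ'
  obtain ⟨x, hx⟩ := MulAction.exists_smul_eq X (Q.subtype h1) (Q'.subtype h2)
  obtain ⟨hx1, hx2⟩ := x.2
  obtain ⟨c, hc, q, hq, hcq⟩ := Subgroup.mem_sup_of_normal_left.1 hx1
  refine ⟨c, ⟨hc, ?_⟩, ?_⟩
  · have : c = x * q⁻¹ := by rw [← hcq]; group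
    rw [this]
    exact T.mul_mem hx2 (T.inv_mem (hQ hq))
  · apply Sylow.ext
    ext y
    rw [mem_smul_sylow]
    have key : ∀ y : X, (y : H) ∈ (Q' : Subgroup H) ↔ (x : H)⁻¹ * y * x ∈ (Q : Subgroup H) := by
      intro y
      have h3 : y ∈ ((Q'.subtype h2 : Sylow r X) : Subgroup X) ↔
          x⁻¹ * y * x ∈ ((Q.subtype h1 : Sylow r X) : Subgroup X) := by
        rw [← hx, mem_smul_sylow]
      rw [Sylow.coe_subtype, Sylow.coe_subtype, Subgroup.mem_subgroupOf, Subgroup.mem_subgroupOf] at h3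
      exact h3
    have hq' : ∀ y : H, q⁻¹ * y * q ∈ (Q : Subgroup H) ↔ y ∈ (Q : Subgroup H) := by
      intro y
      constructor
      · intro h
        have := (Q : Subgroup H).mul_mem ((Q : Subgroup H).mul_mem hq h) ((Q : Subgroup H).inv_mem hq)
        have e : q * (q⁻¹ * y * q) * q⁻¹ = y := by group
        rwa [e] at this
      · intro h
        exact (Q : Subgroup H).mul_mem ((Q : Subgroup H).mul_mem ((Q : Subgroup H).inv_mem hq) h) hq
    have e : ∀ y : H, (x : H)⁻¹ * y * x = q⁻¹ * (c⁻¹ * y * c) * q := by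
      intro y
      rw [← hcq]
      group
    constructor
    · intro hy
      have := (key ⟨y, h2 hy⟩).1 hy
      rwa [e, hq'] at this
    · intro hy
      have h3 : y ∈ X := by
        have h4 : c⁻¹ * y * c ∈ X := h1 hy
        have hcX : c ∈ X := ⟨Subgroup.mem_sup_left hc, by
          have : c = x * q⁻¹ := by rw [← hcq]; group
          rw [this]
          exact T.mul_mem hx2 (T.inv_mem (hQ hq))⟩
        have := X.mul_mem (X.mul_mem hcX h4) (X.inv_mem hcX)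
        have e : c * (c⁻¹ * y * c) * c⁻¹ = y := by group
        rwa [e] at this
      refine (key ⟨y, h3⟩).2 ?_
      change (x : H)⁻¹ * y * x ∈ _
      rw [e, hq']
      exact hy

/-- Extension of an invariant character to a cyclic extension. -/
theorem exists_ext_cyclic {K T : Subgroup H} {θ : K → ℂ} (hKT : K ≤ T) (hθ : IsIrrCharacter K θ) (hT : T ≤ stab θ)
    [hn : (K.subgroupOf T).Normal] (hcyc : IsCyclic (T ⧸ K.subgroupOf T)) :
    ∃ χ : T → ℂ, IsIrrCharacter T χ ∧ ∀ k : K, χ (Subgroup.inclusion hKT k) = θ k := by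
  let e := Subgroup.subgroupOfEquivOfLe hKT
  obtain ⟨χ, hχ, h1⟩ := S0886.result (K.subgroupOf T) hcyc (θ ∘ e) (isIrr_sub hKT hθ) (fun g n => by
      have h1 := tw_apply' (hT g.2).1 θ (e n)
        (e ⟨g * n * g⁻¹, hn.conj_mem (n : T) n.2 g⟩) (by simp [e])
      rw [(hT g.2).2] at h1
      exact h1.symm)
  refine ⟨χ, hχ, fun k => ?_⟩
  have h2 : ((e.symm k : K.subgroupOf T) : T) = Subgroup.inclusion hKT k := rfl
  rw [← h2, h1]
  simp

/-- A quotient of a subgroup of a cyclic extension of `K` is cyclic. -/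
theorem isCyclic_quot {K T : Subgroup H} [K.Normal] [hn : (K.subgroupOf T).Normal] {g : H}
    (hg : ∀ c ∈ T, ∃ k : ℕ, c * (g ^ k)⁻¹ ∈ K) : IsCyclic (T ⧸ K.subgroupOf T) := by
  let f : T →* H ⧸ K := (QuotientGroup.mk' K).comp T.subtype
  have hf : ∀ x, f x ∈ Subgroup.zpowers (g : H ⧸ K) := by
    intro x
    obtain ⟨k, hk⟩ := hg x x.2
    refine ⟨k, ?_⟩
    change (g : H ⧸ K) ^ (k : ℤ) = ((x : H) : H ⧸ K)
    rw [zpow_natCast, ← QuotientGroup.mk_pow, eq_comm, ← mul_inv_eq_one, ← QuotientGroup.mk_inv,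
      ← QuotientGroup.mk_mul, QuotientGroup.eq_one_iff]
    exact hk
  let f' : T →* Subgroup.zpowers (g : H ⧸ K) := f.codRestrict _ hf
  have hker : K.subgroupOf T = f'.ker := by
    ext x
    rw [MonoidHom.mem_ker, Subgroup.mem_subgroupOf, ← QuotientGroup.eq_one_iff (N := K)]
    exact ⟨fun h => Subtype.ext h, fun h => congrArg Subtype.val h⟩
  have h1 : IsCyclic (T ⧸ f'.ker) :=
    isCyclic_of_injective (QuotientGroup.kerLift f') (QuotientGroup.kerLift_injective f')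
  let q : (T ⧸ K.subgroupOf T) ≃* (T ⧸ f'.ker) := QuotientGroup.quotientMulEquivOfEq hker
  exact isCyclic_of_injective q.toMonoidHom q.injective

theorem not_dvd_relIndex {r : ℕ} [hr : Fact r.Prime] {A B : Subgroup H} (h1 : ¬ r ∣ B.index)
    (h2 : ¬ r ∣ A.relIndex B) : ¬ r ∣ (A ⊓ B).index := by
  rw [← Subgroup.relIndex_mul_index (inf_le_right : A ⊓ B ≤ B), Subgroup.inf_relIndex_right]
  intro h
  rcases (Nat.Prime.dvd_mul hr.out).1 h with h | h
  · exact h2 h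
  · exact h1 h

end grp

theorem hKle {H : Type u} {V : Type v} [Group H] [AddCommGroup V] [DistribMulAction H V] (v : V) :
    Ker H V ≤ MulAction.stabilizer H v := fun _ hk => hk v

variable {H : Type u} {V : Type v} [Group H] [Finite H] [AddCommGroup V] [Finite V] [DistribMulAction H V]
  {C : Subgroup H} {p n r : ℕ}

theorem coreA_aux [hr : Fact r.Prime] (h : SLD H V C p n) (hu : UF r H (⊥ : AddSubgroup V))
    (R : Sylow r H) (hR : ¬ Triv V (R : Subgroup H)) {K : Subgroup H} (hKer : K = Ker H V) (hKC : K ≤ C)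
    (hKl : ∀ v : V, K ≤ MulAction.stabilizer H v) (hKn : ∀ g : H, g ∈ Subgroup.normalizer (K : Set H))
    (hKnn : K.Normal)
    {ν : K → ℂ} (hν : IsIrrCharacter K ν)
    (h1 : ∀ ψ : H → ℂ, IsIrrCharacter H ψ → Over K.subtype ψ ν → ¬ r ∣ charDegree ψ)
    (h2 : ∀ v : V, v ≠ 0 → ∀ ψ : MulAction.stabilizer H v → ℂ, IsIrrCharacter (MulAction.stabilizer H v) ψ →
      Over (Subgroup.inclusion (hKl v)) ψ ν → ¬ r ∣ (MulAction.stabilizer H v).index * charDegree ψ) : False := by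
  classical
  have hC := h.nrm
  -- every Sylow subgroup fixes a nonzero vector
  have hfix : ∀ Q : Sylow r H, ∃ v : V, v ≠ 0 ∧ ∀ x ∈ (Q : Subgroup H), x • v = v := by
    intro Q
    obtain ⟨v, hv⟩ : ∃ v : V, v ≠ 0 := by
      by_contra hcon
      push Not at hcon
      apply hR
      intro z _ v
      rw [hcon v, smul_zero]
    obtain ⟨Q0, hQ0, -⟩ := hu v hv
    obtain ⟨g, rfl⟩ := MulAction.exists_smul_eq H Q0 Q
    exact ⟨g • v, by rwa [Ne, smul_eq_zero_iff_eq], fix_conj hQ0 g⟩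
  -- the stabilizer of `ν` contains all the Sylow subgroups
  have hT : ∀ Q : Sylow r H, (Q : Subgroup H) ≤ stab ν := by
    intro Q
    obtain ⟨v, hv, hQv⟩ := hfix Q
    obtain ⟨ψ, hψ, ho⟩ := exists_over_incl (hKl v) hν
    have h3 := dvd_of_over (hKl v) (fun x _ => hKn x) hψ hν ho
    have h4 := h2 v hv ψ hψ ho
    have h5 : ¬ r ∣ (MulAction.stabilizer H v).index := fun h5 => h4 (h5.mul_right _)
    have h6 : ¬ r ∣ (stab ν).relIndex (MulAction.stabilizer H v) := fun h6 =>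
      h4 (((h6.mul_right _).trans h3).mul_left _)
    obtain ⟨Q', hQ'⟩ := H670.Palfy.exists_sylow_le _ (not_dvd_relIndex h5 h6)
    obtain ⟨Q0, -, huniq⟩ := hu v hv
    have e1 := huniq Q hQv
    have e2 := huniq Q' (fun x hx => (hQ' hx).2)
    rw [e1, ← e2]
    exact hQ'.trans inf_le_left
  have hTi : ¬ r ∣ (stab ν).index := by
    intro h3
    exact R.not_dvd_index (h3.trans (Subgroup.index_dvd_of_le (hT R)))
  -- the subgroup `K₁`
  obtain ⟨K₁, hK₁⟩ : ∃ K₁ : Subgroup H, K₁ = C ⊓ stab ν := ⟨_, rfl⟩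
  have hKK₁ : K ≤ K₁ := hK₁ ▸ le_inf hKC (le_stab (isIrr_isClassFunction hν))
  have hKT : K ≤ stab ν := hKK₁.trans (hK₁ ▸ inf_le_right)
  have hK₁T : K₁ ≤ stab ν := hK₁ ▸ inf_le_right
  have hK₁C : K₁ ≤ C := hK₁ ▸ inf_le_left
  have hTK₁ : stab ν ≤ Subgroup.normalizer (K₁ : Set H) := by
    intro t ht
    rw [Subgroup.mem_normalizer_iff, hK₁]
    intro x
    constructor
    · rintro ⟨hx1, hx2⟩
      exact ⟨hC.conj_mem x hx1 t, (stab ν).mul_mem ((stab ν).mul_mem ht hx2) ((stab ν).inv_mem ht)⟩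
    · rintro ⟨hx1, hx2⟩
      have h3 := hC.conj_mem _ hx1 t⁻¹
      have h4 := (stab ν).mul_mem ((stab ν).mul_mem ((stab ν).inv_mem ht) hx2) ht
      have e : t⁻¹ * (t * x * t⁻¹) * t = x := by group
      rw [e] at h4
      have e' : t⁻¹ * (t * x * t⁻¹) * t⁻¹⁻¹ = x := by group
      rw [e'] at h3
      exact ⟨h3, h4⟩
  have hI : Inert K (stab ν) ⊤ ν := ⟨le_top, fun x _ => hKn x, hν, by rw [top_inf_eq]⟩
  -- the characters of `K₁` over `ν` are fixed by all the Sylow subgroups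
  have hη : ∀ η : K₁ → ℂ, IsIrrCharacter K₁ η → Over (Subgroup.inclusion hKK₁) η ν →
      ∀ Q : Sylow r H, (Q : Subgroup H) ≤ stab η := by
    intro η hη ho Q
    obtain ⟨ψ, hψ, ho1⟩ := exists_over_incl hK₁T hη
    have ho2 : Over (Subgroup.inclusion hKT) ψ ν := by
      have e : Subgroup.inclusion hKT = (Subgroup.inclusion hK₁T).comp (Subgroup.inclusion hKK₁) := rfl
      rw [e]
      exact (over_comp_iff _ _ (isIrr_isCharacter hψ) hν).2 ⟨η, hη, ho1, ho⟩
    obtain ⟨χ, hχ, -, ho3, hdeg⟩ := hI.lift hψ ho2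
    have h3 : ¬ r ∣ charDegree ψ := by
      intro h3
      let e : H ≃* (⊤ : Subgroup H) := Subgroup.topEquiv.symm
      refine h1 (χ ∘ e) (isIrr_comp e.toMonoidHom e.surjective hχ) ?_ ?_
      · exact (over_congr e (MulEquiv.refl K) K.subtype (Subgroup.inclusion hI.le) (fun _ => rfl) χ ν).2 ho3
      · have : charDegree (χ ∘ e) = charDegree χ := charDegree_comp_one e.toMonoidHom χ
        rw [this, hdeg]
        exact h3.mul_left _
    have h4 := dvd_of_over hK₁T hTK₁ hψ hη ho1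
    have h5 : ¬ r ∣ (stab η).relIndex (stab ν) := fun h5 => h3 ((h5.mul_right _).trans h4)
    obtain ⟨Q', hQ'⟩ := H670.Palfy.exists_sylow_le _ (not_dvd_relIndex hTi h5)
    obtain ⟨k, hk, rfl⟩ := exists_conj_mem hC h.quot Q' Q (hT Q') (hT Q)
    have hk' : k ∈ stab η := le_stab (isIrr_isClassFunction hη) (hK₁ ▸ hk)
    intro x hx
    have h6 := hQ' (mem_smul_sylow.1 hx)
    have h7 := (stab η).mul_mem ((stab η).mul_mem hk' h6.1) ((stab η).inv_mem hk')
    have e : k * (k⁻¹ * x * k) * k⁻¹ = x := by group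
    rwa [e] at h7
  -- the extension
  have hn : (K.subgroupOf K₁).Normal := normal_subgroupOf (fun x _ => hKn x)
  obtain ⟨g, -, hg, -⟩ := h.gen
  have hcyc : IsCyclic (K₁ ⧸ K.subgroupOf K₁) := isCyclic_quot (fun c hc => hKer ▸ hg c (hK₁C hc))
  obtain ⟨ν₁, hν₁, hext⟩ := exists_ext_cyclic hKK₁ hν hK₁T hcyc
  have hK₁K : K₁ ≤ Subgroup.normalizer (K : Set H) := fun x _ => hKn x
  have hab : ⁅K₁, K₁⁆ ≤ K := by
    rw [Subgroup.commutator_le]
    intro a ha b hb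
    rw [hKer]
    exact h.comm a (hK₁C ha) b (hK₁C hb)
  have htw : ∀ β : K₁ →* ℂˣ, (∀ k : K, β (Subgroup.inclusion hKK₁ k) = 1) →
      IsIrrCharacter K₁ (lf β * ν₁) ∧ Over (Subgroup.inclusion hKK₁) (lf β * ν₁) ν := fun β hβ =>
    (gal hKK₁ hK₁K hν hν₁ hext).mapsTo ⟨isIrr_lf β, fun k => by
      rw [lf_apply, lf_apply, hβ, map_one]⟩
  have hone : lf (1 : K₁ →* ℂˣ) * ν₁ = ν₁ := by
    funext t
    simp [lf]
  have hcom : ∀ Q : Sylow r H, ∀ s ∈ (Q : Subgroup H), ∀ t ∈ K₁, s * t * s⁻¹ * t⁻¹ ∈ K := by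
    intro Q s hs t ht
    have hsK₁ : s ∈ Subgroup.normalizer (K₁ : Set H) := hTK₁ (hT Q hs)
    have hχs : tw K₁ s ν₁ = ν₁ := by
      obtain ⟨h3, h4⟩ := htw 1 (fun _ => rfl)
      rw [hone] at h3 h4
      exact (hη ν₁ h3 h4 Q hs).2
    by_contra hcon
    have hst : s * t * s⁻¹ ∈ K₁ := conj_mem_of_mem hsK₁ ⟨t, ht⟩
    obtain ⟨β, hβ, hβ'⟩ := exists_lin_ne (x := (⟨s * t * s⁻¹ * t⁻¹, K₁.mul_mem hst (K₁.inv_mem ht)⟩ : K₁))
      hKK₁ hab hcon
    apply hβ'
    let β' : K₁ →* ℂˣ := β.comp (cj hsK₁).toMonoidHom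
    have hβ'J : ∀ k : K, β' (Subgroup.inclusion hKK₁ k) = 1 := by
      intro k
      exact hβ ⟨s * k * s⁻¹, hKnn.conj_mem k k.2 s⟩
    have hfix' : tw K₁ s (lf β * ν₁) = lf β * ν₁ := by
      obtain ⟨h3, h4⟩ := htw β hβ
      exact (hη _ h3 h4 Q hs).2
    have e1 : lf β' * ν₁ = lf β * ν₁ := by
      rw [← hfix', tw_eq_comp hsK₁]
      have e2 := hχs
      rw [tw_eq_comp hsK₁] at e2
      funext t
      have e3 := congrFun e2 t
      simp only [Function.comp, Pi.mul_apply] at e3 ⊢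
      rw [e3]
      rfl
    have e2 : lf β' = lf β := (gal hKK₁ hK₁K hν hν₁ hext).injOn
      ⟨isIrr_lf β', fun k => by rw [lf_apply, lf_apply, hβ'J, map_one]⟩
      ⟨isIrr_lf β, fun k => by rw [lf_apply, lf_apply, hβ, map_one]⟩ e1
    have e3 : β' ⟨t, ht⟩ = β ⟨t, ht⟩ := by rw [lf_injective e2]
    have e4 : β ⟨s * t * s⁻¹, hst⟩ = β ⟨t, ht⟩ := e3
    have e5 : (⟨s * t * s⁻¹ * t⁻¹, K₁.mul_mem hst (K₁.inv_mem ht)⟩ : K₁) =
      ⟨s * t * s⁻¹, hst⟩ * ⟨t, ht⟩⁻¹ := rfl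
    rw [e5, map_mul, map_inv, e4, mul_inv_cancel]
  -- `R` acts trivially
  apply hR
  intro x hx v
  by_cases hv : v = 0
  · rw [hv, smul_zero]
  · obtain ⟨Q, hQ, -⟩ := hu v hv
    obtain ⟨k, hk, rfl⟩ := exists_conj_mem hC h.quot Q R (hT Q) (hT R)
    have hy := mem_smul_sylow.1 hx
    have hκ := hcom Q _ ((Q : Subgroup H).inv_mem hy) k (hK₁ ▸ hk)
    rw [hKer] at hκ
    have e : x = (k⁻¹ * x * k) * ((k⁻¹ * x * k)⁻¹ * k * ((k⁻¹ * x * k)⁻¹)⁻¹ * k⁻¹) := by group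
    rw [e, mul_smul, hκ v]
    exact hQ _ hy

/-- **DEGSOLV 7.** -/
theorem coreA [hr : Fact r.Prime] (h : SLD H V C p n) (hu : UF r H (⊥ : AddSubgroup V))
    (R : Sylow r H) (hR : ¬ Triv V (R : Subgroup H)) (ν : Ker H V → ℂ) (hν : IsIrrCharacter (Ker H V) ν)
    (h1 : ∀ ψ : H → ℂ, IsIrrCharacter H ψ → Over (Ker H V).subtype ψ ν → ¬ r ∣ charDegree ψ)
    (h2 : ∀ v : V, v ≠ 0 → ∀ ψ : MulAction.stabilizer H v → ℂ, IsIrrCharacter (MulAction.stabilizer H v) ψ →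
      Over (Subgroup.inclusion (hKle v)) ψ ν → ¬ r ∣ (MulAction.stabilizer H v).index * charDegree ψ) : False :=
  coreA_aux h hu R hR rfl h.ker hKle (fun g => by rw [Subgroup.normalizer_eq_top]; exact Subgroup.mem_top g)
    inferInstance hν h1 h2

end Cfsg.Agent.H559.CoreA
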