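import Cfsg.Agent.H559.ChevConjX
import Cfsg.Agent.H493.PGE8

/-!
# Elements of order `r` with `x ~ x^q`, `x ~ x⁻¹` in `E8(q)` (helper559)

`conj` : `r` a prime, `m` the order of `q` modulo `r`, `m ∈ [3, 4, 5, 6, 7, 8, 9, 10, 12, 14, 15, 18, 20, 24, 30]`.
-/

set_option autoImplicit false

namespace Cfsg.Agent.H559.ConjE8

open CoxeterSystem Cfsg Cfsg.Lie Cfsg.Lie.ChevalleyDatum
open Cfsg.Agent.ChevalleyStructure.CoxeterGeom Cfsg.Agent.ChevalleyStructure.CoxeterGeomTypes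
open Cfsg.Agent.Tits.Roots Cfsg.Agent.Tits.Core
open Cfsg.Agent.H129.WData Cfsg.Agent.Nodes.RGDChev
open Cfsg.Agent.H493.PGTorus Cfsg.Agent.H493.PGCyc Cfsg.Agent.H493.PGE8 Cfsg.Agent.H559.ChevConjX

universe u

/-- an element of order 30 -/
def wc : CoxeterMatrix.E₈.Group := CoxeterMatrix.E₈.toCoxeterSystem.wordProd (chain30.map Prod.fst)

theorem wc1 : ∀ j, rep CoxeterMatrix.E₈.toCoxeterSystem hp.isCartan wc (sr j) = hd chain30 j :=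
  fun j => chain_rep hp CoxeterMatrix.E₈.toCoxeterSystem hA chain30_ok j

/-- a power -/
def N2 : Mat 8 := ![![0, 1, 0, 1, 1, 0, 0, 0], ![0, 1, 1, 1, 1, 1, 1, 0], ![1, 0, 1, 1, 1, 1, 1, 0],
    ![-1, -1, -2, -2, -2, -1, -1, 0], ![1, 1, 2, 2, 2, 1, 1, 1], ![-1, -1, -1, -1, -1, -1, -1, -1],
    ![1, 1, 1, 1, 1, 1, 0, 0], ![0, 0, 0, 0, -1, -1, 0, 0]]

theorem wc2 : ∀ j, rep CoxeterMatrix.E₈.toCoxeterSystem hp.isCartan (wc ^ 2) (sr j) = N2 j := by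
  have h := rep_mul hp CoxeterMatrix.E₈.toCoxeterSystem wc1 wc1 (C := N2) (by decide +kernel)
  rw [← pow_two] at h
  exact h

/-- a power -/
def N3 : Mat 8 := ![![1, 0, 1, 1, 1, 1, 1, 0], ![1, 1, 1, 2, 2, 1, 1, 1], ![0, 1, 1, 1, 1, 1, 1, 1],
    ![-1, -2, -2, -3, -3, -2, -2, -1], ![1, 2, 2, 3, 3, 2, 1, 0], ![-1, -1, -2, -2, -2, -1, 0, 0],
    ![1, 1, 2, 2, 1, 0, 0, 0], ![-1, -1, -1, -1, 0, 0, 0, 0]]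

theorem wc3 : ∀ j, rep CoxeterMatrix.E₈.toCoxeterSystem hp.isCartan (wc ^ 3) (sr j) = N3 j := by
  have h := rep_mul hp CoxeterMatrix.E₈.toCoxeterSystem wc2 wc1 (C := N3) (by decide +kernel)
  rw [← pow_succ] at h
  exact h

/-- a power -/
def N5 : Mat 8 := ![![1, 1, 1, 2, 2, 1, 0, 0], ![1, 2, 2, 3, 2, 1, 1, 1], ![1, 1, 2, 2, 1, 1, 1, 0],
    ![-2, -3, -4, -5, -4, -3, -2, -1], ![1, 2, 3, 4, 4, 3, 2, 1], ![-1, -1, -2, -3, -3, -2, -2, -1],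
    ![1, 1, 1, 2, 2, 2, 2, 1], ![0, -1, 0, -1, -1, -1, -1, 0]]

theorem wc5 : ∀ j, rep CoxeterMatrix.E₈.toCoxeterSystem hp.isCartan (wc ^ 5) (sr j) = N5 j := by
  have h := rep_mul hp CoxeterMatrix.E₈.toCoxeterSystem wc3 wc2 (C := N5) (by decide +kernel)
  rw [← pow_add] at h
  exact h

/-- a power -/
def N10 : Mat 8 := ![![0, 1, 1, 2, 2, 1, 0, 0], ![1, 1, 2, 3, 2, 1, 1, 1], ![1, 1, 1, 2, 1, 1, 1, 0],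
    ![-2, -3, -4, -6, -4, -3, -2, -1], ![1, 2, 3, 4, 3, 3, 2, 1], ![-1, -1, -2, -3, -3, -3, -2, -1],
    ![1, 1, 1, 2, 2, 2, 1, 1], ![0, -1, 0, -1, -1, -1, -1, -1]]

theorem wc10 : ∀ j, rep CoxeterMatrix.E₈.toCoxeterSystem hp.isCartan (wc ^ 10) (sr j) = N10 j := by
  have h := rep_mul hp CoxeterMatrix.E₈.toCoxeterSystem wc5 wc5 (C := N10) (by decide +kernel)
  rw [← pow_add] at h
  exact h

/-- a power -/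
def N15 : Mat 8 := ![![-1, 0, 0, 0, 0, 0, 0, 0], ![0, -1, 0, 0, 0, 0, 0, 0], ![0, 0, -1, 0, 0, 0, 0, 0],
    ![0, 0, 0, -1, 0, 0, 0, 0], ![0, 0, 0, 0, -1, 0, 0, 0], ![0, 0, 0, 0, 0, -1, 0, 0], ![0, 0, 0, 0, 0, 0, -1, 0],
    ![0, 0, 0, 0, 0, 0, 0, -1]]

theorem wc15 : ∀ j, rep CoxeterMatrix.E₈.toCoxeterSystem hp.isCartan (wc ^ 15) (sr j) = N15 j := by
  have h := rep_mul hp CoxeterMatrix.E₈.toCoxeterSystem wc10 wc5 (C := N15) (by decide +kernel)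
  rw [← pow_add] at h
  exact h

theorem wcneg : ∀ j, rep CoxeterMatrix.E₈.toCoxeterSystem hp.isCartan (wc ^ 15) (sr j) = - sr j :=
  neg_of_mat hp CoxeterMatrix.E₈.toCoxeterSystem wc15 (by decide +kernel)

/-- partial products of an element with characteristic polynomial divisible by the cyclotomic polynomial 3 -/
def chain3 : List (Fin 8 × Mat 8) := [
    (0, ![![0, 0, 1, 0, 0, 0, 0, 0], ![0, 1, 0, 0, 0, 0, 0, 0], ![-1, 0, -1, 0, 0, 0, 0, 0],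
      ![1, 0, 1, 1, 0, 0, 0, 0], ![0, 0, 0, 0, 1, 0, 0, 0], ![0, 0, 0, 0, 0, 1, 0, 0], ![0, 0, 0, 0, 0, 0, 1, 0],
      ![0, 0, 0, 0, 0, 0, 0, 1]]),
    (2, ![![1, 0, 1, 0, 0, 0, 0, 0], ![0, 1, 0, 0, 0, 0, 0, 0], ![0, 0, -1, 0, 0, 0, 0, 0],
      ![0, 0, 1, 1, 0, 0, 0, 0], ![0, 0, 0, 0, 1, 0, 0, 0], ![0, 0, 0, 0, 0, 1, 0, 0], ![0, 0, 0, 0, 0, 0, 1, 0],
      ![0, 0, 0, 0, 0, 0, 0, 1]])]

theorem chain3_ok : ChainOK Am chain3 := by decide +kernel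

/-- coefficients of the eigenvector -/
def V3 : Fin 2 → Fin 8 → ℤ := ![![-1, 0, 0, 0, 0, 0, 0, 0], ![0, 0, 1, 0, 0, 0, 0, 0]]

/-- the functional -/
def U3 : Fin 8 → ℤ := ![-1, 0, 0, 0, 0, 0, 0, 0]

theorem eig3 : EigOK (hd chain3) c3 V3 U3 := by decide +kernel

theorem conj3 {F : Type u} [Field F] [Finite F] {r : ℕ} (hr : r.Prime) (h : (r : ℤ) ∣ pv c3 (Nat.card F)) :
    ∃ x u u' : ↥(chevE8.group F), orderOf x = r ∧ u * x * u⁻¹ = x ^ Nat.card F ∧ u' * x * u'⁻¹ = x⁻¹ := by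
  have := finW
  exact conj_pow_inv hp CoxeterMatrix.E₈.toCoxeterSystem H129.TorusChar.invC_E8 one_ne_zero isPhi_E8
    (chain_rep hp CoxeterMatrix.E₈.toCoxeterSystem hA chain3_ok) wcneg eig3 hr
    (fun h => hr.one_lt.ne' (Nat.dvd_one.1 h)) h

/-- partial products of an element with characteristic polynomial divisible by the cyclotomic polynomial 4 -/
def chain4 : List (Fin 8 × Mat 8) := [
    (0, ![![0, 0, 1, 0, 0, 0, 0, 0], ![1, 1, 1, 1, 0, 0, 0, 0], ![0, 0, 0, 1, 0, 0, 0, 0],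
      ![-1, 0, -1, -1, 0, 0, 0, 0], ![1, 0, 1, 1, 1, 0, 0, 0], ![0, 0, 0, 0, 0, 1, 0, 0], ![0, 0, 0, 0, 0, 0, 1, 0],
      ![0, 0, 0, 0, 0, 0, 0, 1]]),
    (2, ![![1, 0, 1, 0, 0, 0, 0, 0], ![0, 1, 1, 1, 0, 0, 0, 0], ![0, 0, 0, 1, 0, 0, 0, 0],
      ![0, 0, -1, -1, 0, 0, 0, 0], ![0, 0, 1, 1, 1, 0, 0, 0], ![0, 0, 0, 0, 0, 1, 0, 0], ![0, 0, 0, 0, 0, 0, 1, 0],
      ![0, 0, 0, 0, 0, 0, 0, 1]]),
    (3, ![![1, 0, 0, 0, 0, 0, 0, 0], ![0, 1, 0, 1, 0, 0, 0, 0], ![0, 0, 1, 1, 0, 0, 0, 0],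
      ![0, 0, 0, -1, 0, 0, 0, 0], ![0, 0, 0, 1, 1, 0, 0, 0], ![0, 0, 0, 0, 0, 1, 0, 0], ![0, 0, 0, 0, 0, 0, 1, 0],
      ![0, 0, 0, 0, 0, 0, 0, 1]])]

theorem chain4_ok : ChainOK Am chain4 := by decide +kernel

/-- coefficients of the eigenvector -/
def V4 : Fin 2 → Fin 8 → ℤ := ![![0, 0, 1, 1, 0, 0, 0, 0], ![1, 0, 1, 0, 0, 0, 0, 0]]

/-- the functional -/
def U4 : Fin 8 → ℤ := ![-1, 0, 1, 0, 0, 0, 0, 0]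

theorem eig4 : EigOK (hd chain4) c4 V4 U4 := by decide +kernel

theorem conj4 {F : Type u} [Field F] [Finite F] {r : ℕ} (hr : r.Prime) (h : (r : ℤ) ∣ pv c4 (Nat.card F)) :
    ∃ x u u' : ↥(chevE8.group F), orderOf x = r ∧ u * x * u⁻¹ = x ^ Nat.card F ∧ u' * x * u'⁻¹ = x⁻¹ := by
  have := finW
  exact conj_pow_inv hp CoxeterMatrix.E₈.toCoxeterSystem H129.TorusChar.invC_E8 one_ne_zero isPhi_E8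
    (chain_rep hp CoxeterMatrix.E₈.toCoxeterSystem hA chain4_ok) wcneg eig4 hr
    (fun h => hr.one_lt.ne' (Nat.dvd_one.1 h)) h

/-- partial products of an element with characteristic polynomial divisible by the cyclotomic polynomial 5 -/
def chain5 : List (Fin 8 × Mat 8) := [
    (0, ![![0, 0, 1, 0, 0, 0, 0, 0], ![1, 1, 1, 1, 0, 0, 0, 0], ![0, 0, 0, 1, 0, 0, 0, 0],
      ![0, 0, 0, 0, 1, 0, 0, 0], ![-1, 0, -1, -1, -1, 0, 0, 0], ![1, 0, 1, 1, 1, 1, 0, 0],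
      ![0, 0, 0, 0, 0, 0, 1, 0], ![0, 0, 0, 0, 0, 0, 0, 1]]),
    (2, ![![1, 0, 1, 0, 0, 0, 0, 0], ![0, 1, 1, 1, 0, 0, 0, 0], ![0, 0, 0, 1, 0, 0, 0, 0],
      ![0, 0, 0, 0, 1, 0, 0, 0], ![0, 0, -1, -1, -1, 0, 0, 0], ![0, 0, 1, 1, 1, 1, 0, 0], ![0, 0, 0, 0, 0, 0, 1, 0],
      ![0, 0, 0, 0, 0, 0, 0, 1]]),
    (3, ![![1, 0, 0, 0, 0, 0, 0, 0], ![0, 1, 0, 1, 0, 0, 0, 0], ![0, 0, 1, 1, 0, 0, 0, 0],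
      ![0, 0, 0, 0, 1, 0, 0, 0], ![0, 0, 0, -1, -1, 0, 0, 0], ![0, 0, 0, 1, 1, 1, 0, 0], ![0, 0, 0, 0, 0, 0, 1, 0],
      ![0, 0, 0, 0, 0, 0, 0, 1]]),
    (4, ![![1, 0, 0, 0, 0, 0, 0, 0], ![0, 1, 0, 0, 0, 0, 0, 0], ![0, 0, 1, 0, 0, 0, 0, 0],
      ![0, 0, 0, 1, 1, 0, 0, 0], ![0, 0, 0, 0, -1, 0, 0, 0], ![0, 0, 0, 0, 1, 1, 0, 0], ![0, 0, 0, 0, 0, 0, 1, 0],
      ![0, 0, 0, 0, 0, 0, 0, 1]])]

theorem chain5_ok : ChainOK Am chain5 := by decide +kernel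

/-- coefficients of the eigenvector -/
def V5 : Fin 4 → Fin 8 → ℤ := ![![0, 0, 0, -1, 0, 0, 0, 0], ![0, 0, -1, -1, 0, 0, 0, 0],
    ![-1, 0, -1, -1, 0, 0, 0, 0], ![0, 0, 0, 0, 1, 0, 0, 0]]

/-- the functional -/
def U5 : Fin 8 → ℤ := ![0, 0, 1, -1, 0, 0, 0, 0]

theorem eig5 : EigOK (hd chain5) c5 V5 U5 := by decide +kernel

theorem conj5 {F : Type u} [Field F] [Finite F] {r : ℕ} (hr : r.Prime) (h : (r : ℤ) ∣ pv c5 (Nat.card F)) :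
    ∃ x u u' : ↥(chevE8.group F), orderOf x = r ∧ u * x * u⁻¹ = x ^ Nat.card F ∧ u' * x * u'⁻¹ = x⁻¹ := by
  have := finW
  exact conj_pow_inv hp CoxeterMatrix.E₈.toCoxeterSystem H129.TorusChar.invC_E8 one_ne_zero isPhi_E8
    (chain_rep hp CoxeterMatrix.E₈.toCoxeterSystem hA chain5_ok) wcneg eig5 hr
    (fun h => hr.one_lt.ne' (Nat.dvd_one.1 h)) h

/-- partial products of an element with characteristic polynomial divisible by the cyclotomic polynomial 6 -/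
def chain6 : List (Fin 8 × Mat 8) := [
    (1, ![![1, 0, 1, 0, 0, 0, 0, 0], ![0, 0, 1, 1, 0, 0, 0, 0], ![0, 1, 0, 1, 0, 0, 0, 0],
      ![0, 0, 0, 0, 1, 0, 0, 0], ![0, -1, -1, -1, -1, 0, 0, 0], ![0, 1, 1, 1, 1, 1, 0, 0],
      ![0, 0, 0, 0, 0, 0, 1, 0], ![0, 0, 0, 0, 0, 0, 0, 1]]),
    (2, ![![1, 0, 1, 0, 0, 0, 0, 0], ![0, 1, 1, 1, 0, 0, 0, 0], ![0, 0, 0, 1, 0, 0, 0, 0],
      ![0, 0, 0, 0, 1, 0, 0, 0], ![0, 0, -1, -1, -1, 0, 0, 0], ![0, 0, 1, 1, 1, 1, 0, 0], ![0, 0, 0, 0, 0, 0, 1, 0],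
      ![0, 0, 0, 0, 0, 0, 0, 1]]),
    (3, ![![1, 0, 0, 0, 0, 0, 0, 0], ![0, 1, 0, 1, 0, 0, 0, 0], ![0, 0, 1, 1, 0, 0, 0, 0],
      ![0, 0, 0, 0, 1, 0, 0, 0], ![0, 0, 0, -1, -1, 0, 0, 0], ![0, 0, 0, 1, 1, 1, 0, 0], ![0, 0, 0, 0, 0, 0, 1, 0],
      ![0, 0, 0, 0, 0, 0, 0, 1]]),
    (4, ![![1, 0, 0, 0, 0, 0, 0, 0], ![0, 1, 0, 0, 0, 0, 0, 0], ![0, 0, 1, 0, 0, 0, 0, 0],
      ![0, 0, 0, 1, 1, 0, 0, 0], ![0, 0, 0, 0, -1, 0, 0, 0], ![0, 0, 0, 0, 1, 1, 0, 0], ![0, 0, 0, 0, 0, 0, 1, 0],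
      ![0, 0, 0, 0, 0, 0, 0, 1]])]

theorem chain6_ok : ChainOK Am chain6 := by decide +kernel

/-- coefficients of the eigenvector -/
def V6 : Fin 2 → Fin 8 → ℤ := ![![0, -1, -1, -2, -1, 0, 0, 0], ![0, 0, 0, 1, 1, 0, 0, 0]]

/-- the functional -/
def U6 : Fin 8 → ℤ := ![0, -1, 0, 0, 0, 0, 0, 0]

theorem eig6 : EigOK (hd chain6) c6 V6 U6 := by decide +kernel

theorem conj6 {F : Type u} [Field F] [Finite F] {r : ℕ} (hr : r.Prime) (h : (r : ℤ) ∣ pv c6 (Nat.card F)) :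
    ∃ x u u' : ↥(chevE8.group F), orderOf x = r ∧ u * x * u⁻¹ = x ^ Nat.card F ∧ u' * x * u'⁻¹ = x⁻¹ := by
  have := finW
  exact conj_pow_inv hp CoxeterMatrix.E₈.toCoxeterSystem H129.TorusChar.invC_E8 one_ne_zero isPhi_E8
    (chain_rep hp CoxeterMatrix.E₈.toCoxeterSystem hA chain6_ok) wcneg eig6 hr
    (fun h => hr.one_lt.ne' (Nat.dvd_one.1 h)) h

/-- partial products of an element with characteristic polynomial divisible by the cyclotomic polynomial 7 -/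
def chain7 : List (Fin 8 × Mat 8) := [
    (0, ![![0, 0, 1, 0, 0, 0, 0, 0], ![1, 1, 1, 1, 0, 0, 0, 0], ![0, 0, 0, 1, 0, 0, 0, 0],
      ![0, 0, 0, 0, 1, 0, 0, 0], ![0, 0, 0, 0, 0, 1, 0, 0], ![0, 0, 0, 0, 0, 0, 1, 0],
      ![-1, 0, -1, -1, -1, -1, -1, 0], ![1, 0, 1, 1, 1, 1, 1, 1]]),
    (2, ![![1, 0, 1, 0, 0, 0, 0, 0], ![0, 1, 1, 1, 0, 0, 0, 0], ![0, 0, 0, 1, 0, 0, 0, 0],
      ![0, 0, 0, 0, 1, 0, 0, 0], ![0, 0, 0, 0, 0, 1, 0, 0], ![0, 0, 0, 0, 0, 0, 1, 0],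
      ![0, 0, -1, -1, -1, -1, -1, 0], ![0, 0, 1, 1, 1, 1, 1, 1]]),
    (3, ![![1, 0, 0, 0, 0, 0, 0, 0], ![0, 1, 0, 1, 0, 0, 0, 0], ![0, 0, 1, 1, 0, 0, 0, 0],
      ![0, 0, 0, 0, 1, 0, 0, 0], ![0, 0, 0, 0, 0, 1, 0, 0], ![0, 0, 0, 0, 0, 0, 1, 0],
      ![0, 0, 0, -1, -1, -1, -1, 0], ![0, 0, 0, 1, 1, 1, 1, 1]]),
    (4, ![![1, 0, 0, 0, 0, 0, 0, 0], ![0, 1, 0, 0, 0, 0, 0, 0], ![0, 0, 1, 0, 0, 0, 0, 0],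
      ![0, 0, 0, 1, 1, 0, 0, 0], ![0, 0, 0, 0, 0, 1, 0, 0], ![0, 0, 0, 0, 0, 0, 1, 0], ![0, 0, 0, 0, -1, -1, -1, 0],
      ![0, 0, 0, 0, 1, 1, 1, 1]]),
    (5, ![![1, 0, 0, 0, 0, 0, 0, 0], ![0, 1, 0, 0, 0, 0, 0, 0], ![0, 0, 1, 0, 0, 0, 0, 0],
      ![0, 0, 0, 1, 0, 0, 0, 0], ![0, 0, 0, 0, 1, 1, 0, 0], ![0, 0, 0, 0, 0, 0, 1, 0], ![0, 0, 0, 0, 0, -1, -1, 0],
      ![0, 0, 0, 0, 0, 1, 1, 1]]),
    (6, ![![1, 0, 0, 0, 0, 0, 0, 0], ![0, 1, 0, 0, 0, 0, 0, 0], ![0, 0, 1, 0, 0, 0, 0, 0],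
      ![0, 0, 0, 1, 0, 0, 0, 0], ![0, 0, 0, 0, 1, 0, 0, 0], ![0, 0, 0, 0, 0, 1, 1, 0], ![0, 0, 0, 0, 0, 0, -1, 0],
      ![0, 0, 0, 0, 0, 0, 1, 1]])]

theorem chain7_ok : ChainOK Am chain7 := by decide +kernel

/-- coefficients of the eigenvector -/
def V7 : Fin 6 → Fin 8 → ℤ := ![![0, 0, 0, 0, 0, -1, 0, 0], ![0, 0, 0, 0, -1, -1, 0, 0],
    ![0, 0, 0, -1, -1, -1, 0, 0], ![0, 0, -1, -1, -1, -1, 0, 0], ![-1, 0, -1, -1, -1, -1, 0, 0],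
    ![0, 0, 0, 0, 0, 0, 1, 0]]

/-- the functional -/
def U7 : Fin 8 → ℤ := ![0, 0, 0, 0, 1, -1, 0, 0]

theorem eig7 : EigOK (hd chain7) c7 V7 U7 := by decide +kernel

theorem conj7 {F : Type u} [Field F] [Finite F] {r : ℕ} (hr : r.Prime) (h : (r : ℤ) ∣ pv c7 (Nat.card F)) :
    ∃ x u u' : ↥(chevE8.group F), orderOf x = r ∧ u * x * u⁻¹ = x ^ Nat.card F ∧ u' * x * u'⁻¹ = x⁻¹ := by
  have := finW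
  exact conj_pow_inv hp CoxeterMatrix.E₈.toCoxeterSystem H129.TorusChar.invC_E8 one_ne_zero isPhi_E8
    (chain_rep hp CoxeterMatrix.E₈.toCoxeterSystem hA chain7_ok) wcneg eig7 hr
    (fun h => hr.one_lt.ne' (Nat.dvd_one.1 h)) h

/-- partial products of an element with characteristic polynomial divisible by the cyclotomic polynomial 8 -/
def chain8 : List (Fin 8 × Mat 8) := [
    (0, ![![0, 0, 1, 0, 0, 0, 0, 0], ![1, 0, 1, 1, 0, 0, 0, 0], ![0, 1, 0, 1, 0, 0, 0, 0],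
      ![0, 0, 0, 0, 1, 0, 0, 0], ![-1, -1, -1, -1, -1, 0, 0, 0], ![1, 1, 1, 1, 1, 1, 0, 0],
      ![0, 0, 0, 0, 0, 0, 1, 0], ![0, 0, 0, 0, 0, 0, 0, 1]]),
    (1, ![![1, 0, 1, 0, 0, 0, 0, 0], ![0, 0, 1, 1, 0, 0, 0, 0], ![0, 1, 0, 1, 0, 0, 0, 0],
      ![0, 0, 0, 0, 1, 0, 0, 0], ![0, -1, -1, -1, -1, 0, 0, 0], ![0, 1, 1, 1, 1, 1, 0, 0],
      ![0, 0, 0, 0, 0, 0, 1, 0], ![0, 0, 0, 0, 0, 0, 0, 1]]),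
    (2, ![![1, 0, 1, 0, 0, 0, 0, 0], ![0, 1, 1, 1, 0, 0, 0, 0], ![0, 0, 0, 1, 0, 0, 0, 0],
      ![0, 0, 0, 0, 1, 0, 0, 0], ![0, 0, -1, -1, -1, 0, 0, 0], ![0, 0, 1, 1, 1, 1, 0, 0], ![0, 0, 0, 0, 0, 0, 1, 0],
      ![0, 0, 0, 0, 0, 0, 0, 1]]),
    (3, ![![1, 0, 0, 0, 0, 0, 0, 0], ![0, 1, 0, 1, 0, 0, 0, 0], ![0, 0, 1, 1, 0, 0, 0, 0],
      ![0, 0, 0, 0, 1, 0, 0, 0], ![0, 0, 0, -1, -1, 0, 0, 0], ![0, 0, 0, 1, 1, 1, 0, 0], ![0, 0, 0, 0, 0, 0, 1, 0],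
      ![0, 0, 0, 0, 0, 0, 0, 1]]),
    (4, ![![1, 0, 0, 0, 0, 0, 0, 0], ![0, 1, 0, 0, 0, 0, 0, 0], ![0, 0, 1, 0, 0, 0, 0, 0],
      ![0, 0, 0, 1, 1, 0, 0, 0], ![0, 0, 0, 0, -1, 0, 0, 0], ![0, 0, 0, 0, 1, 1, 0, 0], ![0, 0, 0, 0, 0, 0, 1, 0],
      ![0, 0, 0, 0, 0, 0, 0, 1]])]

theorem chain8_ok : ChainOK Am chain8 := by decide +kernel

/-- coefficients of the eigenvector -/
def V8 : Fin 4 → Fin 8 → ℤ := ![![-1, 0, 0, 0, 0, 0, 0, 0], ![1, 0, 1, 1, 1, 0, 0, 0], ![0, 1, 0, 1, 0, 0, 0, 0],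
    ![0, 0, 1, 0, 0, 0, 0, 0]]

/-- the functional -/
def U8 : Fin 8 → ℤ := ![-1, -1, 0, 1, 0, 0, 0, 0]

theorem eig8 : EigOK (hd chain8) c8 V8 U8 := by decide +kernel

theorem conj8 {F : Type u} [Field F] [Finite F] {r : ℕ} (hr : r.Prime) (h : (r : ℤ) ∣ pv c8 (Nat.card F)) :
    ∃ x u u' : ↥(chevE8.group F), orderOf x = r ∧ u * x * u⁻¹ = x ^ Nat.card F ∧ u' * x * u'⁻¹ = x⁻¹ := by
  have := finW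
  exact conj_pow_inv hp CoxeterMatrix.E₈.toCoxeterSystem H129.TorusChar.invC_E8 one_ne_zero isPhi_E8
    (chain_rep hp CoxeterMatrix.E₈.toCoxeterSystem hA chain8_ok) wcneg eig8 hr
    (fun h => hr.one_lt.ne' (Nat.dvd_one.1 h)) h

/-- partial products of an element with characteristic polynomial divisible by the cyclotomic polynomial 9 -/
def chain9 : List (Fin 8 × Mat 8) := [
    (5, ![![-1, 0, -1, -1, -1, -1, 0, 0], ![0, 0, -1, 0, 0, 0, 0, 0], ![1, 1, 1, 1, 1, 1, 0, 0],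
      ![0, -1, 0, -1, -1, -1, 0, 0], ![0, 1, 1, 2, 1, 1, 0, 0], ![0, 0, 0, 0, 1, 0, 0, 0],
      ![0, 0, 0, 0, 0, 1, 1, 0], ![0, 0, 0, 0, 0, 0, 0, 1]]),
    (4, ![![-1, 0, -1, -1, -1, 0, 0, 0], ![0, 0, -1, 0, 0, 0, 0, 0], ![1, 1, 1, 1, 1, 0, 0, 0],
      ![0, -1, 0, -1, -1, 0, 0, 0], ![0, 1, 1, 2, 1, 0, 0, 0], ![0, 0, 0, 0, 1, 1, 0, 0], ![0, 0, 0, 0, 0, 0, 1, 0],
      ![0, 0, 0, 0, 0, 0, 0, 1]]),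
    (3, ![![-1, 0, -1, -1, 0, 0, 0, 0], ![0, 0, -1, 0, 0, 0, 0, 0], ![1, 1, 1, 1, 0, 0, 0, 0],
      ![0, -1, 0, -1, 0, 0, 0, 0], ![0, 1, 1, 2, 1, 0, 0, 0], ![0, 0, 0, 0, 0, 1, 0, 0], ![0, 0, 0, 0, 0, 0, 1, 0],
      ![0, 0, 0, 0, 0, 0, 0, 1]]),
    (2, ![![-1, 0, -1, 0, 0, 0, 0, 0], ![0, 0, -1, -1, 0, 0, 0, 0], ![1, 1, 1, 1, 0, 0, 0, 0],
      ![0, -1, 0, 0, 0, 0, 0, 0], ![0, 1, 1, 1, 1, 0, 0, 0], ![0, 0, 0, 0, 0, 1, 0, 0], ![0, 0, 0, 0, 0, 0, 1, 0],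
      ![0, 0, 0, 0, 0, 0, 0, 1]]),
    (1, ![![-1, 0, 0, 0, 0, 0, 0, 0], ![0, 0, 0, -1, 0, 0, 0, 0], ![1, 1, 1, 1, 0, 0, 0, 0],
      ![0, -1, 0, 0, 0, 0, 0, 0], ![0, 1, 0, 1, 1, 0, 0, 0], ![0, 0, 0, 0, 0, 1, 0, 0], ![0, 0, 0, 0, 0, 0, 1, 0],
      ![0, 0, 0, 0, 0, 0, 0, 1]]),
    (3, ![![-1, 0, 0, 0, 0, 0, 0, 0], ![0, -1, 0, -1, 0, 0, 0, 0], ![1, 0, 1, 1, 0, 0, 0, 0],
      ![0, 1, 0, 0, 0, 0, 0, 0], ![0, 0, 0, 1, 1, 0, 0, 0], ![0, 0, 0, 0, 0, 1, 0, 0], ![0, 0, 0, 0, 0, 0, 1, 0],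
      ![0, 0, 0, 0, 0, 0, 0, 1]]),
    (1, ![![-1, 0, 0, 0, 0, 0, 0, 0], ![0, -1, 0, 0, 0, 0, 0, 0], ![1, 0, 1, 0, 0, 0, 0, 0],
      ![0, 1, 0, 1, 0, 0, 0, 0], ![0, 0, 0, 0, 1, 0, 0, 0], ![0, 0, 0, 0, 0, 1, 0, 0], ![0, 0, 0, 0, 0, 0, 1, 0],
      ![0, 0, 0, 0, 0, 0, 0, 1]]),
    (0, ![![-1, 0, 0, 0, 0, 0, 0, 0], ![0, 1, 0, 0, 0, 0, 0, 0], ![1, 0, 1, 0, 0, 0, 0, 0],
      ![0, 0, 0, 1, 0, 0, 0, 0], ![0, 0, 0, 0, 1, 0, 0, 0], ![0, 0, 0, 0, 0, 1, 0, 0], ![0, 0, 0, 0, 0, 0, 1, 0],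
      ![0, 0, 0, 0, 0, 0, 0, 1]])]

theorem chain9_ok : ChainOK Am chain9 := by decide +kernel

/-- coefficients of the eigenvector -/
def V9 : Fin 6 → Fin 8 → ℤ := ![![1, 1, 1, 2, 1, 1, 0, 0], ![0, 1, 1, 1, 1, 0, 0, 0], ![1, 0, 1, 1, 1, 1, 0, 0],
    ![0, 1, 1, 2, 1, 1, 0, 0], ![0, 0, 0, 0, 1, 0, 0, 0], ![0, 0, 0, 0, 0, 1, 0, 0]]

/-- the functional -/
def U9 : Fin 8 → ℤ := ![1, 1, -1, 0, 0, 0, 0, 0]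

theorem eig9 : EigOK (hd chain9) c9 V9 U9 := by decide +kernel

theorem conj9 {F : Type u} [Field F] [Finite F] {r : ℕ} (hr : r.Prime) (h : (r : ℤ) ∣ pv c9 (Nat.card F)) :
    ∃ x u u' : ↥(chevE8.group F), orderOf x = r ∧ u * x * u⁻¹ = x ^ Nat.card F ∧ u' * x * u'⁻¹ = x⁻¹ := by
  have := finW
  exact conj_pow_inv hp CoxeterMatrix.E₈.toCoxeterSystem H129.TorusChar.invC_E8 one_ne_zero isPhi_E8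
    (chain_rep hp CoxeterMatrix.E₈.toCoxeterSystem hA chain9_ok) wcneg eig9 hr
    (fun h => hr.one_lt.ne' (Nat.dvd_one.1 h)) h

/-- partial products of an element with characteristic polynomial divisible by the cyclotomic polynomial 10 -/
def chain10 : List (Fin 8 × Mat 8) := [
    (1, ![![1, 0, 1, 0, 0, 0, 0, 0], ![0, 0, 1, 1, 0, 0, 0, 0], ![0, 1, 0, 1, 0, 0, 0, 0],
      ![0, 0, 0, 0, 1, 0, 0, 0], ![0, 0, 0, 0, 0, 1, 0, 0], ![0, 0, 0, 0, 0, 0, 1, 0],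
      ![0, -1, -1, -1, -1, -1, -1, 0], ![0, 1, 1, 1, 1, 1, 1, 1]]),
    (2, ![![1, 0, 1, 0, 0, 0, 0, 0], ![0, 1, 1, 1, 0, 0, 0, 0], ![0, 0, 0, 1, 0, 0, 0, 0],
      ![0, 0, 0, 0, 1, 0, 0, 0], ![0, 0, 0, 0, 0, 1, 0, 0], ![0, 0, 0, 0, 0, 0, 1, 0],
      ![0, 0, -1, -1, -1, -1, -1, 0], ![0, 0, 1, 1, 1, 1, 1, 1]]),
    (3, ![![1, 0, 0, 0, 0, 0, 0, 0], ![0, 1, 0, 1, 0, 0, 0, 0], ![0, 0, 1, 1, 0, 0, 0, 0],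
      ![0, 0, 0, 0, 1, 0, 0, 0], ![0, 0, 0, 0, 0, 1, 0, 0], ![0, 0, 0, 0, 0, 0, 1, 0],
      ![0, 0, 0, -1, -1, -1, -1, 0], ![0, 0, 0, 1, 1, 1, 1, 1]]),
    (4, ![![1, 0, 0, 0, 0, 0, 0, 0], ![0, 1, 0, 0, 0, 0, 0, 0], ![0, 0, 1, 0, 0, 0, 0, 0],
      ![0, 0, 0, 1, 1, 0, 0, 0], ![0, 0, 0, 0, 0, 1, 0, 0], ![0, 0, 0, 0, 0, 0, 1, 0], ![0, 0, 0, 0, -1, -1, -1, 0],
      ![0, 0, 0, 0, 1, 1, 1, 1]]),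
    (5, ![![1, 0, 0, 0, 0, 0, 0, 0], ![0, 1, 0, 0, 0, 0, 0, 0], ![0, 0, 1, 0, 0, 0, 0, 0],
      ![0, 0, 0, 1, 0, 0, 0, 0], ![0, 0, 0, 0, 1, 1, 0, 0], ![0, 0, 0, 0, 0, 0, 1, 0], ![0, 0, 0, 0, 0, -1, -1, 0],
      ![0, 0, 0, 0, 0, 1, 1, 1]]),
    (6, ![![1, 0, 0, 0, 0, 0, 0, 0], ![0, 1, 0, 0, 0, 0, 0, 0], ![0, 0, 1, 0, 0, 0, 0, 0],
      ![0, 0, 0, 1, 0, 0, 0, 0], ![0, 0, 0, 0, 1, 0, 0, 0], ![0, 0, 0, 0, 0, 1, 1, 0], ![0, 0, 0, 0, 0, 0, -1, 0],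
      ![0, 0, 0, 0, 0, 0, 1, 1]])]

theorem chain10_ok : ChainOK Am chain10 := by decide +kernel

/-- coefficients of the eigenvector -/
def V10 : Fin 4 → Fin 8 → ℤ := ![![0, 0, 0, 0, -1, -1, 0, 0], ![0, 0, 0, -1, 0, 1, 0, 0],
    ![0, -1, -1, -1, -1, -2, -1, 0], ![0, 0, 0, 0, 0, 1, 1, 0]]

/-- the functional -/
def U10 : Fin 8 → ℤ := ![0, 1, 0, 0, -1, 0, 0, 0]

theorem eig10 : EigOK (hd chain10) c10 V10 U10 := by decide +kernel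

theorem conj10 {F : Type u} [Field F] [Finite F] {r : ℕ} (hr : r.Prime) (h : (r : ℤ) ∣ pv c10 (Nat.card F)) :
    ∃ x u u' : ↥(chevE8.group F), orderOf x = r ∧ u * x * u⁻¹ = x ^ Nat.card F ∧ u' * x * u'⁻¹ = x⁻¹ := by
  have := finW
  exact conj_pow_inv hp CoxeterMatrix.E₈.toCoxeterSystem H129.TorusChar.invC_E8 one_ne_zero isPhi_E8
    (chain_rep hp CoxeterMatrix.E₈.toCoxeterSystem hA chain10_ok) wcneg eig10 hr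
    (fun h => hr.one_lt.ne' (Nat.dvd_one.1 h)) h

/-- partial products of an element with characteristic polynomial divisible by the cyclotomic polynomial 12 -/
def chain12 : List (Fin 8 × Mat 8) := [
    (0, ![![0, 0, 1, 0, 0, 0, 0, 0], ![1, 0, 1, 1, 0, 0, 0, 0], ![0, 1, 0, 1, 0, 0, 0, 0],
      ![0, 0, 0, 0, 1, 0, 0, 0], ![0, 0, 0, 0, 0, 1, 0, 0], ![-1, -1, -1, -1, -1, -1, 0, 0],
      ![1, 1, 1, 1, 1, 1, 1, 0], ![0, 0, 0, 0, 0, 0, 0, 1]]),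
    (1, ![![1, 0, 1, 0, 0, 0, 0, 0], ![0, 0, 1, 1, 0, 0, 0, 0], ![0, 1, 0, 1, 0, 0, 0, 0],
      ![0, 0, 0, 0, 1, 0, 0, 0], ![0, 0, 0, 0, 0, 1, 0, 0], ![0, -1, -1, -1, -1, -1, 0, 0],
      ![0, 1, 1, 1, 1, 1, 1, 0], ![0, 0, 0, 0, 0, 0, 0, 1]]),
    (2, ![![1, 0, 1, 0, 0, 0, 0, 0], ![0, 1, 1, 1, 0, 0, 0, 0], ![0, 0, 0, 1, 0, 0, 0, 0],
      ![0, 0, 0, 0, 1, 0, 0, 0], ![0, 0, 0, 0, 0, 1, 0, 0], ![0, 0, -1, -1, -1, -1, 0, 0],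
      ![0, 0, 1, 1, 1, 1, 1, 0], ![0, 0, 0, 0, 0, 0, 0, 1]]),
    (3, ![![1, 0, 0, 0, 0, 0, 0, 0], ![0, 1, 0, 1, 0, 0, 0, 0], ![0, 0, 1, 1, 0, 0, 0, 0],
      ![0, 0, 0, 0, 1, 0, 0, 0], ![0, 0, 0, 0, 0, 1, 0, 0], ![0, 0, 0, -1, -1, -1, 0, 0], ![0, 0, 0, 1, 1, 1, 1, 0],
      ![0, 0, 0, 0, 0, 0, 0, 1]]),
    (4, ![![1, 0, 0, 0, 0, 0, 0, 0], ![0, 1, 0, 0, 0, 0, 0, 0], ![0, 0, 1, 0, 0, 0, 0, 0],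
      ![0, 0, 0, 1, 1, 0, 0, 0], ![0, 0, 0, 0, 0, 1, 0, 0], ![0, 0, 0, 0, -1, -1, 0, 0], ![0, 0, 0, 0, 1, 1, 1, 0],
      ![0, 0, 0, 0, 0, 0, 0, 1]]),
    (5, ![![1, 0, 0, 0, 0, 0, 0, 0], ![0, 1, 0, 0, 0, 0, 0, 0], ![0, 0, 1, 0, 0, 0, 0, 0],
      ![0, 0, 0, 1, 0, 0, 0, 0], ![0, 0, 0, 0, 1, 1, 0, 0], ![0, 0, 0, 0, 0, -1, 0, 0], ![0, 0, 0, 0, 0, 1, 1, 0],
      ![0, 0, 0, 0, 0, 0, 0, 1]])]

theorem chain12_ok : ChainOK Am chain12 := by decide +kernel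

/-- coefficients of the eigenvector -/
def V12 : Fin 4 → Fin 8 → ℤ := ![![0, 1, 0, 1, 1, 1, 0, 0], ![0, 0, 1, 1, 1, 0, 0, 0], ![1, 0, 1, 1, 0, 0, 0, 0],
    ![0, 1, 0, 0, 0, 0, 0, 0]]

/-- the functional -/
def U12 : Fin 8 → ℤ := ![0, 0, -1, 1, 0, 0, 0, 0]

theorem eig12 : EigOK (hd chain12) c12 V12 U12 := by decide +kernel

theorem conj12 {F : Type u} [Field F] [Finite F] {r : ℕ} (hr : r.Prime) (h : (r : ℤ) ∣ pv c12 (Nat.card F)) :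
    ∃ x u u' : ↥(chevE8.group F), orderOf x = r ∧ u * x * u⁻¹ = x ^ Nat.card F ∧ u' * x * u'⁻¹ = x⁻¹ := by
  have := finW
  exact conj_pow_inv hp CoxeterMatrix.E₈.toCoxeterSystem H129.TorusChar.invC_E8 one_ne_zero isPhi_E8
    (chain_rep hp CoxeterMatrix.E₈.toCoxeterSystem hA chain12_ok) wcneg eig12 hr
    (fun h => hr.one_lt.ne' (Nat.dvd_one.1 h)) h

/-- partial products of an element with characteristic polynomial divisible by the cyclotomic polynomial 14 -/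
def chain14 : List (Fin 8 × Mat 8) := [
    (6, ![![0, 0, 1, 0, 0, 0, 0, 0], ![0, 0, 0, 0, 1, 0, 0, 0], ![1, 1, 1, 2, 1, 0, 0, 0],
      ![0, 0, 0, 0, 0, 1, 1, 0], ![-1, -1, -1, -1, -1, -1, -1, 0], ![0, 1, 0, 0, 0, 0, 0, 0],
      ![1, 0, 1, 1, 1, 1, 0, 0], ![0, 0, 0, 0, 0, 0, 1, 1]]),
    (0, ![![0, 0, 1, 0, 0, 0, 0, 0], ![0, 0, 0, 0, 1, 0, 0, 0], ![1, 1, 1, 2, 1, 0, 0, 0],
      ![0, 0, 0, 0, 0, 1, 0, 0], ![-1, -1, -1, -1, -1, -1, 0, 0], ![0, 1, 0, 0, 0, 0, 0, 0],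
      ![1, 0, 1, 1, 1, 1, 1, 0], ![0, 0, 0, 0, 0, 0, 0, 1]]),
    (2, ![![1, 0, 1, 0, 0, 0, 0, 0], ![0, 0, 0, 0, 1, 0, 0, 0], ![0, 1, 1, 2, 1, 0, 0, 0],
      ![0, 0, 0, 0, 0, 1, 0, 0], ![0, -1, -1, -1, -1, -1, 0, 0], ![0, 1, 0, 0, 0, 0, 0, 0],
      ![0, 0, 1, 1, 1, 1, 1, 0], ![0, 0, 0, 0, 0, 0, 0, 1]]),
    (3, ![![1, 0, 0, 0, 0, 0, 0, 0], ![0, 0, 0, 0, 1, 0, 0, 0], ![0, 1, 1, 2, 1, 0, 0, 0],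
      ![0, 0, 0, 0, 0, 1, 0, 0], ![0, -1, 0, -1, -1, -1, 0, 0], ![0, 1, 0, 0, 0, 0, 0, 0],
      ![0, 0, 0, 1, 1, 1, 1, 0], ![0, 0, 0, 0, 0, 0, 0, 1]]),
    (4, ![![1, 0, 0, 0, 0, 0, 0, 0], ![0, 0, 0, 1, 1, 0, 0, 0], ![0, 1, 1, 1, 1, 0, 0, 0],
      ![0, 0, 0, 0, 0, 1, 0, 0], ![0, -1, 0, -1, -1, -1, 0, 0], ![0, 1, 0, 1, 0, 0, 0, 0],
      ![0, 0, 0, 0, 1, 1, 1, 0], ![0, 0, 0, 0, 0, 0, 0, 1]]),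
    (1, ![![1, 0, 0, 0, 0, 0, 0, 0], ![0, 0, 0, 1, 0, 0, 0, 0], ![0, 1, 1, 1, 0, 0, 0, 0],
      ![0, 0, 0, 0, 1, 1, 0, 0], ![0, -1, 0, -1, -1, -1, 0, 0], ![0, 1, 0, 1, 1, 0, 0, 0],
      ![0, 0, 0, 0, 0, 1, 1, 0], ![0, 0, 0, 0, 0, 0, 0, 1]]),
    (5, ![![1, 0, 0, 0, 0, 0, 0, 0], ![0, 1, 0, 1, 0, 0, 0, 0], ![0, 0, 1, 1, 0, 0, 0, 0],
      ![0, 0, 0, 0, 1, 1, 0, 0], ![0, 0, 0, -1, -1, -1, 0, 0], ![0, 0, 0, 1, 1, 0, 0, 0], ![0, 0, 0, 0, 0, 1, 1, 0],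
      ![0, 0, 0, 0, 0, 0, 0, 1]]),
    (3, ![![1, 0, 0, 0, 0, 0, 0, 0], ![0, 1, 0, 1, 0, 0, 0, 0], ![0, 0, 1, 1, 0, 0, 0, 0],
      ![0, 0, 0, 0, 1, 0, 0, 0], ![0, 0, 0, -1, -1, 0, 0, 0], ![0, 0, 0, 1, 1, 1, 0, 0], ![0, 0, 0, 0, 0, 0, 1, 0],
      ![0, 0, 0, 0, 0, 0, 0, 1]]),
    (4, ![![1, 0, 0, 0, 0, 0, 0, 0], ![0, 1, 0, 0, 0, 0, 0, 0], ![0, 0, 1, 0, 0, 0, 0, 0],
      ![0, 0, 0, 1, 1, 0, 0, 0], ![0, 0, 0, 0, -1, 0, 0, 0], ![0, 0, 0, 0, 1, 1, 0, 0], ![0, 0, 0, 0, 0, 0, 1, 0],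
      ![0, 0, 0, 0, 0, 0, 0, 1]])]

theorem chain14_ok : ChainOK Am chain14 := by decide +kernel

/-- coefficients of the eigenvector -/
def V14 : Fin 6 → Fin 8 → ℤ := ![![0, 0, 0, -1, -1, -1, -1, 0], ![0, -1, -1, -1, 0, 1, 1, 0],
    ![-1, 0, -1, -1, -2, -2, -1, 0], ![0, -1, 0, 0, 1, 1, 0, 0], ![0, 1, 0, 0, 0, -1, 0, 0],
    ![0, 0, 0, 0, 0, 1, 0, 0]]

/-- the functional -/
def U14 : Fin 8 → ℤ := ![0, 0, 1, -1, 0, 0, 0, 0]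

theorem eig14 : EigOK (hd chain14) c14 V14 U14 := by decide +kernel

theorem conj14 {F : Type u} [Field F] [Finite F] {r : ℕ} (hr : r.Prime) (h : (r : ℤ) ∣ pv c14 (Nat.card F)) :
    ∃ x u u' : ↥(chevE8.group F), orderOf x = r ∧ u * x * u⁻¹ = x ^ Nat.card F ∧ u' * x * u'⁻¹ = x⁻¹ := by
  have := finW
  exact conj_pow_inv hp CoxeterMatrix.E₈.toCoxeterSystem H129.TorusChar.invC_E8 one_ne_zero isPhi_E8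
    (chain_rep hp CoxeterMatrix.E₈.toCoxeterSystem hA chain14_ok) wcneg eig14 hr
    (fun h => hr.one_lt.ne' (Nat.dvd_one.1 h)) h

theorem conj15 {F : Type u} [Field F] [Finite F] {r : ℕ} (hr : r.Prime) (h : (r : ℤ) ∣ pv c15 (Nat.card F)) :
    ∃ x u u' : ↥(chevE8.group F), orderOf x = r ∧ u * x * u⁻¹ = x ^ Nat.card F ∧ u' * x * u'⁻¹ = x⁻¹ := by
  have := finW
  exact conj_pow_inv hp CoxeterMatrix.E₈.toCoxeterSystem H129.TorusChar.invC_E8 one_ne_zero isPhi_E8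
    (chain_rep hp CoxeterMatrix.E₈.toCoxeterSystem hA chain15_ok) wcneg eig15 hr
    (fun h => hr.one_lt.ne' (Nat.dvd_one.1 h)) h

/-- partial products of an element with characteristic polynomial divisible by the cyclotomic polynomial 18 -/
def chain18 : List (Fin 8 × Mat 8) := [
    (0, ![![0, 0, 1, 0, 0, 0, 0, 0], ![1, 0, 1, 1, 0, 0, 0, 0], ![0, 1, 0, 1, 0, 0, 0, 0],
      ![0, 0, 0, 0, 1, 0, 0, 0], ![0, 0, 0, 0, 0, 1, 0, 0], ![0, 0, 0, 0, 0, 0, 1, 0],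
      ![-1, -1, -1, -1, -1, -1, -1, 0], ![1, 1, 1, 1, 1, 1, 1, 1]]),
    (1, ![![1, 0, 1, 0, 0, 0, 0, 0], ![0, 0, 1, 1, 0, 0, 0, 0], ![0, 1, 0, 1, 0, 0, 0, 0],
      ![0, 0, 0, 0, 1, 0, 0, 0], ![0, 0, 0, 0, 0, 1, 0, 0], ![0, 0, 0, 0, 0, 0, 1, 0],
      ![0, -1, -1, -1, -1, -1, -1, 0], ![0, 1, 1, 1, 1, 1, 1, 1]]),
    (2, ![![1, 0, 1, 0, 0, 0, 0, 0], ![0, 1, 1, 1, 0, 0, 0, 0], ![0, 0, 0, 1, 0, 0, 0, 0],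
      ![0, 0, 0, 0, 1, 0, 0, 0], ![0, 0, 0, 0, 0, 1, 0, 0], ![0, 0, 0, 0, 0, 0, 1, 0],
      ![0, 0, -1, -1, -1, -1, -1, 0], ![0, 0, 1, 1, 1, 1, 1, 1]]),
    (3, ![![1, 0, 0, 0, 0, 0, 0, 0], ![0, 1, 0, 1, 0, 0, 0, 0], ![0, 0, 1, 1, 0, 0, 0, 0],
      ![0, 0, 0, 0, 1, 0, 0, 0], ![0, 0, 0, 0, 0, 1, 0, 0], ![0, 0, 0, 0, 0, 0, 1, 0],
      ![0, 0, 0, -1, -1, -1, -1, 0], ![0, 0, 0, 1, 1, 1, 1, 1]]),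
    (4, ![![1, 0, 0, 0, 0, 0, 0, 0], ![0, 1, 0, 0, 0, 0, 0, 0], ![0, 0, 1, 0, 0, 0, 0, 0],
      ![0, 0, 0, 1, 1, 0, 0, 0], ![0, 0, 0, 0, 0, 1, 0, 0], ![0, 0, 0, 0, 0, 0, 1, 0], ![0, 0, 0, 0, -1, -1, -1, 0],
      ![0, 0, 0, 0, 1, 1, 1, 1]]),
    (5, ![![1, 0, 0, 0, 0, 0, 0, 0], ![0, 1, 0, 0, 0, 0, 0, 0], ![0, 0, 1, 0, 0, 0, 0, 0],
      ![0, 0, 0, 1, 0, 0, 0, 0], ![0, 0, 0, 0, 1, 1, 0, 0], ![0, 0, 0, 0, 0, 0, 1, 0], ![0, 0, 0, 0, 0, -1, -1, 0],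
      ![0, 0, 0, 0, 0, 1, 1, 1]]),
    (6, ![![1, 0, 0, 0, 0, 0, 0, 0], ![0, 1, 0, 0, 0, 0, 0, 0], ![0, 0, 1, 0, 0, 0, 0, 0],
      ![0, 0, 0, 1, 0, 0, 0, 0], ![0, 0, 0, 0, 1, 0, 0, 0], ![0, 0, 0, 0, 0, 1, 1, 0], ![0, 0, 0, 0, 0, 0, -1, 0],
      ![0, 0, 0, 0, 0, 0, 1, 1]])]

theorem chain18_ok : ChainOK Am chain18 := by decide +kernel

/-- coefficients of the eigenvector -/
def V18 : Fin 6 → Fin 8 → ℤ := ![![-1, 0, 0, 0, 0, 0, 0, 0], ![1, 0, 1, 1, 1, 1, 1, 0], ![0, 1, 0, 1, 1, 1, 0, 0],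
    ![1, 0, 1, 1, 1, 0, 0, 0], ![0, 1, 0, 1, 0, 0, 0, 0], ![0, 0, 1, 0, 0, 0, 0, 0]]

/-- the functional -/
def U18 : Fin 8 → ℤ := ![-1, -1, 0, 1, 0, 0, 0, 0]

theorem eig18 : EigOK (hd chain18) c18 V18 U18 := by decide +kernel

theorem conj18 {F : Type u} [Field F] [Finite F] {r : ℕ} (hr : r.Prime) (h : (r : ℤ) ∣ pv c18 (Nat.card F)) :
    ∃ x u u' : ↥(chevE8.group F), orderOf x = r ∧ u * x * u⁻¹ = x ^ Nat.card F ∧ u' * x * u'⁻¹ = x⁻¹ := by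
  have := finW
  exact conj_pow_inv hp CoxeterMatrix.E₈.toCoxeterSystem H129.TorusChar.invC_E8 one_ne_zero isPhi_E8
    (chain_rep hp CoxeterMatrix.E₈.toCoxeterSystem hA chain18_ok) wcneg eig18 hr
    (fun h => hr.one_lt.ne' (Nat.dvd_one.1 h)) h

theorem conj20 {F : Type u} [Field F] [Finite F] {r : ℕ} (hr : r.Prime) (h : (r : ℤ) ∣ pv c20 (Nat.card F)) :
    ∃ x u u' : ↥(chevE8.group F), orderOf x = r ∧ u * x * u⁻¹ = x ^ Nat.card F ∧ u' * x * u'⁻¹ = x⁻¹ := by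
  have := finW
  exact conj_pow_inv hp CoxeterMatrix.E₈.toCoxeterSystem H129.TorusChar.invC_E8 one_ne_zero isPhi_E8
    (chain_rep hp CoxeterMatrix.E₈.toCoxeterSystem hA chain20_ok) wcneg eig20 hr
    (fun h => hr.one_lt.ne' (Nat.dvd_one.1 h)) h

theorem conj24 {F : Type u} [Field F] [Finite F] {r : ℕ} (hr : r.Prime) (h : (r : ℤ) ∣ pv c24 (Nat.card F)) :
    ∃ x u u' : ↥(chevE8.group F), orderOf x = r ∧ u * x * u⁻¹ = x ^ Nat.card F ∧ u' * x * u'⁻¹ = x⁻¹ := by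
  have := finW
  exact conj_pow_inv hp CoxeterMatrix.E₈.toCoxeterSystem H129.TorusChar.invC_E8 one_ne_zero isPhi_E8
    (chain_rep hp CoxeterMatrix.E₈.toCoxeterSystem hA chain24_ok) wcneg eig24 hr
    (fun h => hr.one_lt.ne' (Nat.dvd_one.1 h)) h

theorem conj30 {F : Type u} [Field F] [Finite F] {r : ℕ} (hr : r.Prime) (h : (r : ℤ) ∣ pv c30 (Nat.card F)) :
    ∃ x u u' : ↥(chevE8.group F), orderOf x = r ∧ u * x * u⁻¹ = x ^ Nat.card F ∧ u' * x * u'⁻¹ = x⁻¹ := by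
  have := finW
  exact conj_pow_inv hp CoxeterMatrix.E₈.toCoxeterSystem H129.TorusChar.invC_E8 one_ne_zero isPhi_E8
    (chain_rep hp CoxeterMatrix.E₈.toCoxeterSystem hA chain30_ok) wcneg eig30 hr
    (fun h => hr.one_lt.ne' (Nat.dvd_one.1 h)) h

/-- **`x ~ x^q`, `x ~ x⁻¹`, `m` the order of `q` modulo `r`.** -/
theorem conj {F : Type u} [Field F] [Finite F] {r m : ℕ} (hr : r.Prime)
    (hm : orderOf ((Nat.card F : ℕ) : ZMod r) = m) (h : m ∈ [3, 4, 5, 6, 7, 8, 9, 10, 12, 14, 15, 18, 20, 24, 30]) :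
    ∃ x u u' : ↥(chevE8.group F), orderOf x = r ∧ u * x * u⁻¹ = x ^ Nat.card F ∧ u' * x * u'⁻¹ = x⁻¹ := by
  have : Fact r.Prime := ⟨hr⟩
  simp only [List.mem_cons, List.not_mem_nil, or_false] at h
  rcases h with rfl | rfl | rfl | rfl | rfl | rfl | rfl | rfl | rfl | rfl | rfl | rfl | rfl | rfl | rfl
  · exact conj3 hr (Ord.dvd3 hm)
  · exact conj4 hr (Ord.dvd4 hm)
  · exact conj5 hr (Ord.dvd5 hm)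
  · exact conj6 hr (Ord.dvd6 hm)
  · exact conj7 hr (Ord.dvd7 hm)
  · exact conj8 hr (Ord.dvd8 hm)
  · exact conj9 hr (Ord.dvd9 hm)
  · exact conj10 hr (Ord.dvd10 hm)
  · exact conj12 hr (Ord.dvd12 hm)
  · exact conj14 hr (Ord.dvd14 hm)
  · exact conj15 hr (Ord.dvd15 hm)
  · exact conj18 hr (Ord.dvd18 hm)
  · exact conj20 hr (Ord.dvd20 hm)
  · exact conj24 hr (Ord.dvd24 hm)
  · exact conj30 hr (Ord.dvd30 hm)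

end Cfsg.Agent.H559.ConjE8
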