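import Cfsg.Agent.H559.ExcJoint
import Cfsg.Agent.H493.PGE6T
import Cfsg.Agent.H493.PGD4T
import Cfsg.Agent.H493.PGF4T
import Cfsg.Agent.H493.PGSzRee

/-!
# `Exc` for the twisted exceptional groups (helper559, for S3624)
-/

set_option autoImplicit false
set_option linter.unusedSectionVars false

namespace Cfsg.Agent.H559.ExcJoint

open Cfsg Cfsg.Lie Cfsg.Lie.ChevalleyDatum Cfsg.Agent.H370.DP
open Cfsg.Agent.H129 Cfsg.Agent.H129.WData
open Cfsg.Agent.ChevalleyStructure Cfsg.Agent.ChevalleyStructure.CoxeterGeom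
  Cfsg.Agent.ChevalleyStructure.CoxeterGeomTypes
open Cfsg.Agent.Tits.Roots Cfsg.Agent.Nodes Cfsg.Agent.Nodes.Reps Cfsg.Agent.Nodes.RGDChev
  Cfsg.Agent.H129.TorusUntw Cfsg.Agent.BpExc.TowChev Cfsg.Agent.BpExc.Tow
open Cfsg.Agent.H493 Cfsg.Agent.H493.PGTorus Cfsg.Agent.H493.PGCyc

universe u

/-- transport -/
theorem exc_congr {S S' : Type*} [Group S] [Group S'] (e : S ≃* S') (h : Exc S) : Exc S' := by
  intro c T hc hT hcard
  obtain ⟨T', h1, h2, h3⟩ := h c T hc (fun r hr => by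
    rw [Nat.card_congr e.toEquiv]; exact hT r hr) hcard
  exact ⟨T', h1, h2, Ind.congr e h3⟩

/-- a prime larger than 31 does not divide a small number -/
theorem not_dvd_of_lt {r n : ℕ} (hr : 31 < r) (h0 : 0 < n) (hn : n ≤ 31) : ¬ r ∣ n := fun h => by
  have := Nat.le_of_dvd h0 h
  omega

/-! ### `²E₆(q)` -/

section TwE6

open Cfsg.Agent.H493.PGE6T Cfsg.Agent.H493.TwE6Alg

variable {K : Type u} [Field K] [Fintype K] {q : ℕ} (hq : IsPrimePow q) (hK : Fintype.card K = q ^ 2)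

include hq hK

theorem joint_2E6 {L : List (Fin 6 × Mat 6)} (hL : ChainOK PGE6T.Am L) {Th : Mat 6} (hTh : ∀ j, hd L (pi j) = Th j)
    {f : ℕ} {c : Fin (f + 1) → ℤ} {V : Fin (f + 1) → Fin 6 → ℤ} {U : Fin 6 → ℤ}
    (h : EigOK (fun i j => Th j i) c V U) (hc : c 0 = 1 ∨ c 0 = -1) {T : Finset ℕ}
    (hT : ∀ r ∈ T, r.Prime ∧ 31 < r ∧ (r : ℤ) ∣ pv c q) : ∃ x : ↥(twistedE6 K q), ∀ r ∈ T, r ∣ orderOf x := by
  have := PGE6.finW
  obtain ⟨p, e, hpF, hpk, he, hqe, hk⟩ := PGE6T.setup hq hK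
  have hqe' : (q : ℤ) = ((p ^ e : ℕ) : ℤ) := by rw [hqe]
  exact joint_tw RGDTwE6.hp CoxeterMatrix.E₆.toCoxeterSystem hk he isFrob_tau (fr_tau _)
    TorusChar.invC_E6 (by norm_num) (e0 := embT (algebraMap K (AlgebraicClosure K)) q) (d := Nat.gcd 3 (q + 1))
    (fun y hy => tau_pow _ hqe hq hK hy) (PGE6T.lin _ hL hTh) h hc
    (fun r hr => ⟨(hT r hr).1, not_dvd_of_lt (hT r hr).2.1 (Nat.gcd_pos_of_pos_left _ (by norm_num))
      ((Nat.gcd_le_left _ (by norm_num)).trans (by norm_num)), by rw [← hqe']; exact (hT r hr).2.2⟩)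

/-- **`²E₆(q)`** -/
theorem exc_tw_2E6 : Exc ↥(twistedE6 K q) := by
  let P : Fin 9 → ℕ → Prop := ![fun r => (r : ℤ) ∣ pv c1 q, fun r => (r : ℤ) ∣ pv c2 q, fun r => (r : ℤ) ∣ pv c3 q,
    fun r => (r : ℤ) ∣ pv c4 q, fun r => (r : ℤ) ∣ pv c6 q, fun r => (r : ℤ) ∣ pv c10 q, fun r => (r : ℤ) ∣ pv c8 q,
    fun r => (r : ℤ) ∣ pv c12 q, fun r => (r : ℤ) ∣ pv c18 q]
  obtain ⟨p, n, hp, hn, hpn⟩ := id hq
  refine exc_of_classes (m := 9) (by norm_num) p P ?_ ?_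
  · intro r hr _ hrG
    have h1 : r ∣ q ^ 36 * (q ^ 2 - 1) * (q ^ 5 + 1) * (q ^ 6 - 1) * (q ^ 8 - 1) * (q ^ 9 + 1) * (q ^ 12 - 1) := by
      rw [← Cfsg.Agent.S1066.result hq hK]
      exact hrG.mul_left _
    rcases PGE6T.cover hq.two_le hr h1 with (h | h | h | h | h | h | h) | h | h | h
    · left
      rw [← hpn] at h
      exact (Nat.prime_dvd_prime_iff_eq hr hp.nat_prime).1 (hr.dvd_of_dvd_pow h)
    · exact Or.inr ⟨0, h⟩
    · exact Or.inr ⟨1, h⟩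
    · exact Or.inr ⟨2, h⟩
    · exact Or.inr ⟨3, h⟩
    · exact Or.inr ⟨4, h⟩
    · exact Or.inr ⟨5, h⟩
    · exact Or.inr ⟨6, h⟩
    · exact Or.inr ⟨7, h⟩
    · exact Or.inr ⟨8, h⟩
  · intro i T hT
    fin_cases i
    · exact joint_2E6 hq hK chainA_ok hThA eigA_1 (by decide) hT
    · exact joint_2E6 hq hK chainA_ok hThA eigA_2 (by decide) hT
    · exact joint_2E6 hq hK chainB_ok hThB eigB_3 (by decide) hT
    · exact joint_2E6 hq hK chainC_ok hThC eigC_4 (by decide) hT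
    · exact joint_2E6 hq hK chainB_ok hThB eigB_6 (by decide) hT
    · exact joint_2E6 hq hK chainD_ok hThD eigD_10 (by decide) hT
    · exact joint_2E6 hq hK chainE_ok hThE eigE_8 (by decide) hT
    · exact joint_2E6 hq hK chainF_ok hThF eigF_12 (by decide) hT
    · exact joint_2E6 hq hK chainG_ok hThG eigG_18 (by decide) hT

end TwE6

theorem exc_2e6 {S : Type*} [Group S] [Finite S] (h : Lie.Iso2E6 S) : Exc S := by
  obtain ⟨K, _, _, q, hq, hK, ⟨e⟩⟩ := h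
  exact exc_congr e.symm (exc_tw_2E6 hq hK)

/-! ### `³D₄(q)` -/

section TwD4

open Cfsg.Agent.H493.PGD4T Cfsg.Agent.H129.TriD4

variable {K : Type u} [Field K] [Fintype K] {q : ℕ} (hq : IsPrimePow q) (hK : Fintype.card K = q ^ 3)

include hq hK

theorem joint_3D4 {L : List (Fin 4 × Mat 4)} (hL : ChainOK PGD4T.Am L) {Th : Mat 4} (hTh : ∀ j, hd L (pi j) = Th j)
    {f : ℕ} {c : Fin (f + 1) → ℤ} {V : Fin (f + 1) → Fin 4 → ℤ} {U : Fin 4 → ℤ}
    (h : EigOK (fun i j => Th j i) c V U) (hc : c 0 = 1 ∨ c 0 = -1) {T : Finset ℕ}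
    (hT : ∀ r ∈ T, r.Prime ∧ 31 < r ∧ (r : ℤ) ∣ pv c q) : ∃ x : ↥(twistedD4 K q), ∀ r ∈ T, r ∣ orderOf x := by
  have := PGD4T.finW
  obtain ⟨p, e, hpF, hpk, he, hqe, hk⟩ := PGD4T.setup hq hK
  have hqe' : (q : ℤ) = ((p ^ e : ℕ) : ℤ) := by rw [hqe]
  exact joint_tw RGDTwD4.hp coxeterD4.toCoxeterSystem hk he isFrob_tau (fr_tau _)
    TorusChar.invC_D4 (by norm_num) (d := 1)
    (fun y hy => by rw [pow_one]; exact tau_range (algebraMap K (AlgebraicClosure K)) hqe hq hK hy)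
    (PGD4T.lin _ hL hTh) h hc
    (fun r hr => ⟨(hT r hr).1, not_dvd_of_lt (hT r hr).2.1 (by norm_num) (by norm_num),
      by rw [← hqe']; exact (hT r hr).2.2⟩)

/-- **`³D₄(q)`** -/
theorem exc_tw_3D4 : Exc ↥(twistedD4 K q) := by
  let P : Fin 5 → ℕ → Prop := ![fun r => (r : ℤ) ∣ pv c1 q, fun r => (r : ℤ) ∣ pv c2 q, fun r => (r : ℤ) ∣ pv c3 q,
    fun r => (r : ℤ) ∣ pv c6 q, fun r => (r : ℤ) ∣ pv c12 q]
  obtain ⟨p, n, hp, hn, hpn⟩ := id hq
  refine exc_of_classes (m := 5) (by norm_num) p P ?_ ?_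
  · intro r hr _ hrG
    rw [Cfsg.Agent.S1067.result hq hK] at hrG
    rcases PGD4T.cover hq.two_le hr hrG with (h | h | h | h | h) | h
    · left
      rw [← hpn] at h
      exact (Nat.prime_dvd_prime_iff_eq hr hp.nat_prime).1 (hr.dvd_of_dvd_pow h)
    · exact Or.inr ⟨0, h⟩
    · exact Or.inr ⟨1, h⟩
    · exact Or.inr ⟨2, h⟩
    · exact Or.inr ⟨3, h⟩
    · exact Or.inr ⟨4, h⟩
  · intro i T hT
    fin_cases i
    · exact joint_3D4 hq hK chainA_ok hThA eigA_1 (by decide) hT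
    · exact joint_3D4 hq hK chainB_ok hThB eigB_2 (by decide) hT
    · exact joint_3D4 hq hK chainA_ok hThA eigA_3 (by decide) hT
    · exact joint_3D4 hq hK chainB_ok hThB eigB_6 (by decide) hT
    · exact joint_3D4 hq hK chainC_ok hThC eigC_12 (by decide) hT

end TwD4

theorem exc_3d4 {S : Type*} [Group S] [Finite S] (h : Lie.Iso3D4 S) : Exc S := by
  obtain ⟨K, _, _, q, hq, hK, ⟨e⟩⟩ := h
  exact exc_congr e.symm (exc_tw_3D4 hq hK)

/-! ### `²F₄(q)` -/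

/-- a product of commuting elements of different prime orders -/
theorem exists_prod_order {Y : Type*} [Group Y] (A : Subgroup Y) (hA : ∀ a ∈ A, ∀ b ∈ A, a * b = b * a) {T : Finset ℕ}
    (hp : ∀ r ∈ T, r.Prime) (h : ∀ r ∈ T, ∃ t ∈ A, orderOf t = r) : ∃ t ∈ A, orderOf t = ∏ r ∈ T, r := by
  classical
  induction T using Finset.induction_on with
  | empty => exact ⟨1, one_mem _, by rw [orderOf_one, Finset.prod_empty]⟩
  | insert r T hr ih =>
    obtain ⟨t, ht, ho⟩ := ih (fun s hs => hp s (Finset.mem_insert_of_mem hs))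
      (fun s hs => h s (Finset.mem_insert_of_mem hs))
    obtain ⟨s, hs, hos⟩ := h r (Finset.mem_insert_self _ _)
    refine ⟨s * t, mul_mem hs ht, ?_⟩
    rw [Finset.prod_insert hr, Commute.orderOf_mul_eq_mul_orderOf_of_coprime (hA s hs t ht), hos, ho]
    rw [hos, ho]
    refine Nat.Coprime.prod_right fun b hb => ?_
    refine (Nat.coprime_primes (hp r (Finset.mem_insert_self _ _)) (hp b (Finset.mem_insert_of_mem hb))).2 ?_
    rintro rfl
    exact hr hb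

section TwF4

open Cfsg.Agent.H493.PGF4T Cfsg.Agent.H493.F4Tor Cfsg.Agent.H493.F4End
open Cfsg.Agent.KFacts.RgdField Cfsg.Agent.KFacts.RgdChevCoord Cfsg.Agent.BpExc.TorCent Cfsg.Agent.BpExc.TorChev
open Cfsg.Agent.Nodes.BNOf Cfsg.Agent.BpExc.LangFr Cfsg.Agent.GpExc.Field

variable {K : Type u} [Field K] [Fintype K] {m : ℕ} (hK : Fintype.card K = 2 ^ (2 * m + 1))

include hK

theorem joint_2F4 {C : List (Fin 4 × Mat 4)} (hC : ChainOK PGF4T.Am C) {Th : Mat 4} (hTh : ∀ j, hd C (rv j) = Th j)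
    {F : ℤ → ℤ} {L : ℤ → Fin 4 → ℤ} {U : Fin 4 → ℤ} {G : ℤ → Fin 4 → ℤ} {c : ℤ} {H : ℤ → ℤ}
    (h : Cert Th F L U G c H) {T : Finset ℕ} (hT : ∀ r ∈ T, r.Prime ∧ 31 < r ∧ (r : ℤ) ∣ F (2 ^ m)) :
    ∃ x : ↥(twistedF4 K (2 ^ m)), ∀ r ∈ T, r ∣ orderOf x := by
  classical
  have : Fact (Nat.Prime 2) := ⟨Nat.prime_two⟩
  have hc2 : CharP K 2 := F4Fixed.charP_two hK
  obtain ⟨p, e, hpF, hpc, hpk, he, hpe, hk⟩ := exists_closure hK
  have hp2 : p = 2 := CharP.eq K hpc hc2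
  subst hp2
  let k := AlgebraicClosure K
  let f : K →+* k := algebraMap K k
  let cs := CoxeterMatrix.F₄.toCoxeterSystem
  have hN : NSys CoxeterMatrix.F₄ (TT chevF4 k) (nc F4Tor.hp k) := nsys_of_locFin F4Tor.hp cs hk 2
  obtain ⟨n, hn⟩ := exists_rp cs hN (cs.wordProd (C.map Prod.fst))
  obtain ⟨z, hz⟩ := F4Lang.lang_ste m n
  have hw : ∀ j, rep cs F4Tor.hp.isCartan (cs.wordProd (C.map Prod.fst)) (sr (rv j)) = Th j := fun j => by
    rw [H129.WData.chain_rep F4Tor.hp cs PGF4T.hA hC, hTh]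
  let A : Subgroup ↥(chevF4.group k) :=
    { carrier := {t | t ∈ TT chevF4 k ∧ n * ste k m t * n⁻¹ = t}
      one_mem' := ⟨one_mem _, by rw [map_one, mul_one, mul_inv_cancel]⟩
      mul_mem' := by
        rintro a b ⟨ha, ha'⟩ ⟨hb, hb'⟩
        refine ⟨mul_mem ha hb, ?_⟩
        rw [map_mul]
        calc n * (ste k m a * ste k m b) * n⁻¹ = (n * ste k m a * n⁻¹) * (n * ste k m b * n⁻¹) := by group
          _ = a * b := by rw [ha', hb']
      inv_mem' := by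
        rintro a ⟨ha, ha'⟩
        refine ⟨inv_mem ha, ?_⟩
        rw [map_inv]
        calc n * (ste k m a)⁻¹ * n⁻¹ = (n * ste k m a * n⁻¹)⁻¹ := by group
          _ = a⁻¹ := by rw [ha'] }
  obtain ⟨t, ⟨ht, h3⟩, h4⟩ := exists_prod_order A (fun a ha b hb => TT_comm F4Tor.hp a ha.1 b hb.1)
    (fun r hr => (hT r hr).1) (fun r hr => by
      obtain ⟨t, ht, h3, h4⟩ := F4Tor.exists_t cs hk hn hw m (hT r hr).1 (h.ne_two (hT r hr).1 (hT r hr).2.2)
        (h.hL (hT r hr).2.2) (h.hU (hT r hr).1 (hT r hr).2.2)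
      exact ⟨t, ⟨ht, h3⟩, h4⟩)
  have hfix : ste k m (z * t * z⁻¹) = z * t * z⁻¹ := by
    have h2 : ste k m z = z * n := by rw [hz]; group
    rw [map_mul, map_mul, map_inv, h2]
    calc z * n * ste k m t * (z * n)⁻¹ = z * (n * ste k m t * n⁻¹) * z⁻¹ := by group
      _ = _ := by rw [h3]
  obtain ⟨g, hg, hgm⟩ := exists_fin f hK hfix
  have ho : ∀ y : ↥(chevF4.group k), orderOf (z * y * z⁻¹) = orderOf y := fun y =>
    orderOf_injective (MulAut.conj z).toMonoidHom (MulAut.conj z).injective y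
  have hgo : orderOf (g : GL chevF4.Idx K) = ∏ r ∈ T, r := by
    rw [Subgroup.orderOf_coe, ← orderOf_injective (emb hD f) (emb_injective hD f) g, hg, ho, h4]
  refine ⟨⟨g, hgm⟩, fun r hr => ?_⟩
  rw [Subgroup.orderOf_mk, hgo]
  exact Finset.dvd_prod_of_mem _ hr

/-- **`²F₄(q)`** -/
theorem exc_tw_2F4 : Exc ↥(twistedF4 K (2 ^ m)) := by
  let P : Fin 7 → ℕ → Prop := ![fun r => (r : ℤ) ∣ f1 (2 ^ m), fun r => (r : ℤ) ∣ f2 (2 ^ m),
    fun r => (r : ℤ) ∣ fp (2 ^ m), fun r => (r : ℤ) ∣ fm (2 ^ m), fun r => (r : ℤ) ∣ f6 (2 ^ m),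
    fun r => (r : ℤ) ∣ fP (2 ^ m), fun r => (r : ℤ) ∣ fM (2 ^ m)]
  refine exc_of_classes (m := 7) (by norm_num) 2 P ?_ ?_
  · intro r hr _ hrG
    rw [Cfsg.Agent.S1068.result hK] at hrG
    rcases PGF4T.cover hr hrG with (h | h | h | h | h | h) | h | h
    · exact Or.inl h
    · exact Or.inr ⟨0, h⟩
    · exact Or.inr ⟨1, h⟩
    · exact Or.inr ⟨2, h⟩
    · exact Or.inr ⟨3, h⟩
    · exact Or.inr ⟨4, h⟩
    · exact Or.inr ⟨5, h⟩
    · exact Or.inr ⟨6, h⟩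
  · intro i T hT
    fin_cases i
    · exact joint_2F4 hK chainA_ok hThA certA_f1 hT
    · exact joint_2F4 hK chainA_ok hThA certA_f2 hT
    · exact joint_2F4 hK chainB_ok hThB certB_fp hT
    · exact joint_2F4 hK chainC_ok hThC certC_fm hT
    · exact joint_2F4 hK chainD_ok hThD certD_f6 hT
    · exact joint_2F4 hK chainEp_ok hThEp certEp_fP hT
    · exact joint_2F4 hK chainEm_ok hThEm certEm_fM hT

end TwF4

theorem exc_2f4 {S : Type*} [Group S] [Finite S] (h : Lie.Iso2F4 S) : Exc S := by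
  obtain ⟨K, _, _, m, hm, hK, ⟨e⟩⟩ := h
  exact exc_congr e.symm (exc_tw_2F4 hK)

/-! ### `Sz(q)`, `²G₂(q)` -/

theorem exc_sz {S : Type*} [Group S] [Finite S] (h : Lie.IsoSuzuki S) : Exc S := by
  obtain ⟨F, _, _, m, hm, hF, ⟨e⟩⟩ := h
  obtain ⟨e'⟩ := Cfsg.Agent.OddCyclic.ClaimC.SzIso.iso hm hF
  refine exc_congr (e'.trans e.symm) ?_
  let N : Fin 3 → ℕ := ![2 ^ (2 * m + 1) - 1, 2 ^ (2 * m + 1) + 2 ^ (m + 1) + 1, 2 ^ (2 * m + 1) - 2 ^ (m + 1) + 1]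
  refine exc_of_classes (m := 3) (by norm_num) 2
    (fun i r => r ∣ N i ∧ ∃ U : Subgroup ↥(Cfsg.Sz F m), IsCyclic U ∧ Nat.card U = N i) ?_ ?_
  · intro r hr _ hrG
    by_cases h2 : r = 2
    · exact Or.inl h2
    right
    have := Fact.mk hr
    obtain ⟨x, hx⟩ := exists_prime_orderOf_dvd_card' r hrG
    have hx1 : x ≠ 1 := by
      rintro rfl
      rw [orderOf_one] at hx
      exact hr.one_lt.ne hx
    obtain ⟨U, ⟨hU, hxU⟩, -⟩ := Cfsg.Agent.S2238.result hm hF x hx1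
    rcases hU with ⟨P, rfl⟩ | ⟨hc, hN⟩
    · exfalso
      obtain ⟨k, hk⟩ := P.isPGroup' ⟨x, hxU⟩
      have h3 : x ^ 2 ^ k = 1 := congrArg Subtype.val hk
      have h4 : r ∣ 2 ^ k := hx ▸ orderOf_dvd_of_pow_eq_one h3
      exact h2 ((Nat.prime_dvd_prime_iff_eq hr Nat.prime_two).1 (hr.dvd_of_dvd_pow h4))
    · have h5 : r ∣ Nat.card U := by
        rw [← hx, ← Subgroup.orderOf_mk x hxU]
        exact orderOf_dvd_natCard _
      rcases hN with hN | hN | hN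
      · exact ⟨0, h5.trans (dvd_of_eq hN), U, hc, hN⟩
      · exact ⟨1, h5.trans (dvd_of_eq hN), U, hc, hN⟩
      · exact ⟨2, h5.trans (dvd_of_eq hN), U, hc, hN⟩
  · intro i T hT
    rcases T.eq_empty_or_nonempty with rfl | ⟨s, hs⟩
    · exact ⟨1, fun r hr => absurd hr (Finset.notMem_empty _)⟩
    obtain ⟨-, -, -, U, hU, hc⟩ := hT s hs
    obtain ⟨u, hu⟩ := hU.exists_generator
    refine ⟨u, fun r hr => ?_⟩
    rw [Subgroup.orderOf_coe, orderOf_eq_card_of_forall_mem_zpowers hu, hc]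
    exact (hT r hr).2.2.1

theorem exc_ree {S : Type*} [Group S] [Finite S] (h : Lie.IsoRee S) : Exc S := by
  obtain ⟨K, _, _, m, hm, hK, ⟨e⟩⟩ := h
  refine exc_congr e.symm ?_
  have : Finite ↥(Cfsg.Lie.twistedG2 K (3 ^ m)) := inferInstance
  have h1 := fun d => Cfsg.Agent.S1159.result hm hK d
  let N : Fin 4 → ℕ := ![3 ^ (2 * m + 1) - 1, (3 ^ (2 * m + 1) + 1) / 2, 3 ^ (2 * m + 1) - 3 ^ (m + 1) + 1,
    3 ^ (2 * m + 1) + 3 ^ (m + 1) + 1]
  have hN : ∀ i, ∃ g : ↥(Cfsg.Lie.twistedG2 K (3 ^ m)), orderOf g = N i := by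
    intro i
    rw [h1]
    fin_cases i
    · exact Or.inr (Or.inr (Or.inl dvd_rfl))
    · exact Or.inr (Or.inr (Or.inr (Or.inl dvd_rfl)))
    · exact Or.inr (Or.inr (Or.inr (Or.inr (Or.inl dvd_rfl))))
    · exact Or.inr (Or.inr (Or.inr (Or.inr (Or.inr dvd_rfl))))
  refine exc_of_classes (m := 4) (by norm_num) 3 (fun i r => r ∣ N i) ?_ ?_
  · intro r hr h31 hrG
    have := Fact.mk hr
    obtain ⟨x, hx⟩ := exists_prime_orderOf_dvd_card' r hrG
    rcases (h1 r).1 ⟨x, hx⟩ with h | h | h | h | h | h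
    · exact absurd h (not_dvd_of_lt h31 (by norm_num) (by norm_num))
    · exact absurd h (not_dvd_of_lt h31 (by norm_num) (by norm_num))
    · exact Or.inr ⟨0, h⟩
    · exact Or.inr ⟨1, h⟩
    · exact Or.inr ⟨2, h⟩
    · exact Or.inr ⟨3, h⟩
  · intro i T hT
    obtain ⟨g, hg⟩ := hN i
    exact ⟨g, fun r hr => by rw [hg]; exact (hT r hr).2.2⟩

end Cfsg.Agent.H559.ExcJoint
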