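import Cfsg.Agent.H559.ExcTw
import Cfsg.Agent.H493.PGG2
import Cfsg.Agent.H493.PGF4
import Cfsg.Agent.H493.PGE6
import Cfsg.Agent.S1059
import Cfsg.Agent.S1062
import Cfsg.Agent.S1063

/-!
# `Exc` for `G₂(q)`, `F₄(q)`, `E₆(q)` (helper559, for S3624)
-/

set_option autoImplicit false
set_option linter.unusedSectionVars false

namespace Cfsg.Agent.H559.ExcJoint

open Cfsg Cfsg.Lie Cfsg.Lie.ChevalleyDatum Cfsg.Agent.H370.DP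
open Cfsg.Agent.H129 Cfsg.Agent.H129.WData
open Cfsg.Agent.ChevalleyStructure.CoxeterGeomTypes Cfsg.Agent.Nodes.RGDChev
open Cfsg.Agent.H493 Cfsg.Agent.H493.PGTorus Cfsg.Agent.H493.PGCyc

universe u

/-! ### `G2` -/

namespace G2X

/-- partial products -/
def chain1 : List (Fin 2 × Mat 2) := []

theorem chain1_ok : ChainOK PGG2.Am chain1 := by decide +kernel

/-- the eigenvector -/
def V1 : Fin 1 → Fin 2 → ℤ := ![![-1, -1]]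

theorem eig1 : EigOK (hd chain1) c1 V1 ![-1, 0] := by decide +kernel

/-- partial products -/
def chain2 : List (Fin 2 × Mat 2) := [(0, ![![-1, 0], ![3, 1]])]

theorem chain2_ok : ChainOK PGG2.Am chain2 := by decide +kernel

/-- the eigenvector -/
def V2 : Fin 1 → Fin 2 → ℤ := ![![-1, 0]]

theorem eig2 : EigOK (hd chain2) c2 V2 ![-1, -1] := by decide +kernel

theorem joint {F : Type u} [Field F] [Finite F] {L : List (Fin 2 × Mat 2)} (hL : ChainOK PGG2.Am L)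
    {f : ℕ} {c : Fin (f + 1) → ℤ} {V : Fin (f + 1) → Fin 2 → ℤ} {U : Fin 2 → ℤ}
    (h : EigOK (hd L) c V U) {T : Finset ℕ} (hT : ∀ r ∈ T, r.Prime ∧ 31 < r ∧ (r : ℤ) ∣ pv c (Nat.card F)) :
    ∃ x : ↥(chevG2.group F), ∀ r ∈ T, r ∣ orderOf x := by
  have := PGG2.finW
  exact joint_untw PGG2.hp CoxeterMatrix.G₂.toCoxeterSystem H129.TorusChar.invC_G2 one_ne_zero
    (chain_rep PGG2.hp CoxeterMatrix.G₂.toCoxeterSystem PGG2.hA hL) h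
    (fun r hr => ⟨(hT r hr).1, not_dvd_of_lt (hT r hr).2.1 (by norm_num) (by norm_num), (hT r hr).2.2⟩)

/-- divisors of the order -/
theorem cover {q r : ℕ} (hq : 2 ≤ q) (hr : r.Prime)
    (h : r ∣ q ^ 6 * (q ^ 2 - 1) * (q ^ 6 - 1)) :
    r ∣ q ∨ (r : ℤ) ∣ pv c1 q ∨ (r : ℤ) ∣ pv c2 q ∨ (r : ℤ) ∣ pv c3 q ∨ (r : ℤ) ∣ pv c6 q := by
  have h2 : 1 ≤ q ^ 2 := Nat.one_le_pow _ _ (by omega)
  have h6 : 1 ≤ q ^ 6 := Nat.one_le_pow _ _ (by omega)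
  have hr' : Prime (r : ℤ) := Nat.prime_iff_prime_int.1 hr
  have h1 := Int.natCast_dvd_natCast.2 h
  push_cast [Nat.cast_sub h2, Nat.cast_sub h6] at h1
  have e : (q : ℤ) ^ 6 * ((q : ℤ) ^ 2 - 1) * ((q : ℤ) ^ 6 - 1) =
      (q : ℤ) ^ 6 * (pv c1 q * pv c2 q) * (pv c1 q * pv c2 q * pv c3 q * pv c6 q) := by
    rw [pv_c1, pv_c2, pv_c3, pv_c6]; ring
  rw [e] at h1
  simp only [hr'.dvd_mul] at h1
  by_cases h0 : (r : ℤ) ∣ (q : ℤ) ^ 6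
  · exact Or.inl (Int.natCast_dvd_natCast.1 (hr'.dvd_of_dvd_pow h0))
  · tauto

theorem exc (F : Type u) [Field F] [Fintype F] : Exc ↥(chevG2.group F) := by
  let P : Fin 4 → ℕ → Prop := ![fun r => (r : ℤ) ∣ pv c1 (Nat.card F), fun r => (r : ℤ) ∣ pv c2 (Nat.card F), fun r => (r : ℤ) ∣ pv c3 (Nat.card F), fun r => (r : ℤ) ∣ pv c6 (Nat.card F)]
  have hq := Finite.one_lt_card (α := F)
  obtain ⟨p, n, hp, hn, hpn⟩ := FiniteField.isPrimePow_card F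
  rw [← Nat.card_eq_fintype_card] at hpn
  refine exc_of_classes (m := 4) (by norm_num) p P ?_ ?_
  · intro r hr _ hrG
    have h1 : r ∣ Nat.card F ^ 6 * (Nat.card F ^ 2 - 1) * (Nat.card F ^ 6 - 1) := by
      rw [← Cfsg.Agent.S1059.result (F := F) Nat.card_eq_fintype_card.symm]
      exact hrG
    rcases cover hq hr h1 with h | h | h | h | h
    · left
      rw [← hpn] at h
      exact (Nat.prime_dvd_prime_iff_eq hr hp.nat_prime).1 (hr.dvd_of_dvd_pow h)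
    · exact Or.inr ⟨0, h⟩
    · exact Or.inr ⟨1, h⟩
    · exact Or.inr ⟨2, h⟩
    · exact Or.inr ⟨3, h⟩
  · intro i T hT
    fin_cases i
    · exact joint chain1_ok eig1 hT
    · exact joint chain2_ok eig2 hT
    · exact joint PGG2.chain3_ok PGG2.eig3 hT
    · exact joint PGG2.chain6_ok PGG2.eig6 hT

end G2X

/-! ### `F4` -/

namespace F4X

/-- partial products -/
def chain1 : List (Fin 4 × Mat 4) := []

theorem chain1_ok : ChainOK PGF4.Am chain1 := by decide +kernel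

/-- the eigenvector -/
def V1 : Fin 1 → Fin 4 → ℤ := ![![-1, -1, -1, -1]]

theorem eig1 : EigOK (hd chain1) c1 V1 ![-1, -1, 0, 1] := by decide +kernel

/-- partial products -/
def chain2 : List (Fin 4 × Mat 4) := [(0, ![![-1, 0, 0, 0], ![1, 1, 0, 0], ![0, 0, 1, 0], ![0, 0, 0, 1]])]

theorem chain2_ok : ChainOK PGF4.Am chain2 := by decide +kernel

/-- the eigenvector -/
def V2 : Fin 1 → Fin 4 → ℤ := ![![-1, 0, 0, 0]]

theorem eig2 : EigOK (hd chain2) c2 V2 ![-1, -1, -1, -1] := by decide +kernel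

/-- partial products -/
def chain3 : List (Fin 4 × Mat 4) := [(1, ![![-1, -1, 0, 0], ![1, 0, 0, 0], ![0, 2, 1, 0], ![0, 0, 0, 1]]),
    (0, ![![-1, 0, 0, 0], ![1, 1, 0, 0], ![0, 0, 1, 0], ![0, 0, 0, 1]])]

theorem chain3_ok : ChainOK PGF4.Am chain3 := by decide +kernel

/-- the eigenvector -/
def V3 : Fin 2 → Fin 4 → ℤ := ![![-1, 0, 0, 0], ![-1, -1, 0, 0]]

theorem eig3 : EigOK (hd chain3) c3 V3 ![-1, 1, -1, -1] := by decide +kernel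

/-- partial products -/
def chain4 : List (Fin 4 × Mat 4) := [(2, ![![1, 1, 1, 0], ![0, -1, -1, 0], ![0, 2, 1, 0], ![0, 0, 1, 1]]),
    (1, ![![1, 1, 0, 0], ![0, -1, 0, 0], ![0, 2, 1, 0], ![0, 0, 0, 1]])]

theorem chain4_ok : ChainOK PGF4.Am chain4 := by decide +kernel

/-- the eigenvector -/
def V4 : Fin 2 → Fin 4 → ℤ := ![![0, -1, 0, 0], ![0, -1, -1, 0]]

theorem eig4 : EigOK (hd chain4) c4 V4 ![-1, -1, 1, -1] := by decide +kernel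

/-- partial products -/
def chain6 : List (Fin 4 × Mat 4) := [(2, ![![-1, -1, -1, 0], ![1, 0, 0, 0], ![0, 2, 1, 0], ![0, 0, 1, 1]]),
    (1, ![![-1, -1, 0, 0], ![1, 0, 0, 0], ![0, 2, 1, 0], ![0, 0, 0, 1]]),
    (0, ![![-1, 0, 0, 0], ![1, 1, 0, 0], ![0, 0, 1, 0], ![0, 0, 0, 1]])]

theorem chain6_ok : ChainOK PGF4.Am chain6 := by decide +kernel

/-- the eigenvector -/
def V6 : Fin 2 → Fin 4 → ℤ := ![![1, 2, 1, 0], ![-1, -1, 0, 0]]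

theorem eig6 : EigOK (hd chain6) c6 V6 ![-1, 1, 0, -1] := by decide +kernel

theorem joint {F : Type u} [Field F] [Finite F] {L : List (Fin 4 × Mat 4)} (hL : ChainOK PGF4.Am L)
    {f : ℕ} {c : Fin (f + 1) → ℤ} {V : Fin (f + 1) → Fin 4 → ℤ} {U : Fin 4 → ℤ}
    (h : EigOK (hd L) c V U) {T : Finset ℕ} (hT : ∀ r ∈ T, r.Prime ∧ 31 < r ∧ (r : ℤ) ∣ pv c (Nat.card F)) :
    ∃ x : ↥(chevF4.group F), ∀ r ∈ T, r ∣ orderOf x := by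
  have := PGF4.finW
  exact joint_untw PGF4.hp CoxeterMatrix.F₄.toCoxeterSystem H129.TorusChar.invC_F4 one_ne_zero
    (chain_rep PGF4.hp CoxeterMatrix.F₄.toCoxeterSystem PGF4.hA hL) h
    (fun r hr => ⟨(hT r hr).1, not_dvd_of_lt (hT r hr).2.1 (by norm_num) (by norm_num), (hT r hr).2.2⟩)

/-- divisors of the order -/
theorem cover {q r : ℕ} (hq : 2 ≤ q) (hr : r.Prime)
    (h : r ∣ q ^ 24 * (q ^ 2 - 1) * (q ^ 6 - 1) * (q ^ 8 - 1) * (q ^ 12 - 1)) :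
    r ∣ q ∨ (r : ℤ) ∣ pv c1 q ∨ (r : ℤ) ∣ pv c2 q ∨ (r : ℤ) ∣ pv c3 q ∨ (r : ℤ) ∣ pv c4 q ∨ (r : ℤ) ∣ pv c6 q ∨ (r : ℤ) ∣ pv c8 q ∨ (r : ℤ) ∣ pv c12 q := by
  have h2 : 1 ≤ q ^ 2 := Nat.one_le_pow _ _ (by omega)
  have h6 : 1 ≤ q ^ 6 := Nat.one_le_pow _ _ (by omega)
  have h8 : 1 ≤ q ^ 8 := Nat.one_le_pow _ _ (by omega)
  have h12 : 1 ≤ q ^ 12 := Nat.one_le_pow _ _ (by omega)
  have hr' : Prime (r : ℤ) := Nat.prime_iff_prime_int.1 hr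
  have h1 := Int.natCast_dvd_natCast.2 h
  push_cast [Nat.cast_sub h2, Nat.cast_sub h6, Nat.cast_sub h8, Nat.cast_sub h12] at h1
  have e : (q : ℤ) ^ 24 * ((q : ℤ) ^ 2 - 1) * ((q : ℤ) ^ 6 - 1) * ((q : ℤ) ^ 8 - 1) * ((q : ℤ) ^ 12 - 1) =
      (q : ℤ) ^ 24 * (pv c1 q * pv c2 q) * (pv c1 q * pv c2 q * pv c3 q * pv c6 q) * (pv c1 q * pv c2 q * pv c4 q * pv c8 q) * (pv c1 q * pv c2 q * pv c3 q * pv c4 q * pv c6 q * pv c12 q) := by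
    rw [pv_c1, pv_c2, pv_c3, pv_c4, pv_c6, pv_c8, pv_c12]; ring
  rw [e] at h1
  simp only [hr'.dvd_mul] at h1
  by_cases h0 : (r : ℤ) ∣ (q : ℤ) ^ 24
  · exact Or.inl (Int.natCast_dvd_natCast.1 (hr'.dvd_of_dvd_pow h0))
  · tauto

theorem exc (F : Type u) [Field F] [Fintype F] : Exc ↥(chevF4.group F) := by
  let P : Fin 7 → ℕ → Prop := ![fun r => (r : ℤ) ∣ pv c1 (Nat.card F), fun r => (r : ℤ) ∣ pv c2 (Nat.card F), fun r => (r : ℤ) ∣ pv c3 (Nat.card F), fun r => (r : ℤ) ∣ pv c4 (Nat.card F), fun r => (r : ℤ) ∣ pv c6 (Nat.card F), fun r => (r : ℤ) ∣ pv c8 (Nat.card F), fun r => (r : ℤ) ∣ pv c12 (Nat.card F)]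
  have hq := Finite.one_lt_card (α := F)
  obtain ⟨p, n, hp, hn, hpn⟩ := FiniteField.isPrimePow_card F
  rw [← Nat.card_eq_fintype_card] at hpn
  refine exc_of_classes (m := 7) (by norm_num) p P ?_ ?_
  · intro r hr _ hrG
    have h1 : r ∣ Nat.card F ^ 24 * (Nat.card F ^ 2 - 1) * (Nat.card F ^ 6 - 1) * (Nat.card F ^ 8 - 1) * (Nat.card F ^ 12 - 1) := by
      rw [← Cfsg.Agent.S1062.result (F := F) Nat.card_eq_fintype_card.symm]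
      exact hrG
    rcases cover hq hr h1 with h | h | h | h | h | h | h | h
    · left
      rw [← hpn] at h
      exact (Nat.prime_dvd_prime_iff_eq hr hp.nat_prime).1 (hr.dvd_of_dvd_pow h)
    · exact Or.inr ⟨0, h⟩
    · exact Or.inr ⟨1, h⟩
    · exact Or.inr ⟨2, h⟩
    · exact Or.inr ⟨3, h⟩
    · exact Or.inr ⟨4, h⟩
    · exact Or.inr ⟨5, h⟩
    · exact Or.inr ⟨6, h⟩
  · intro i T hT
    fin_cases i
    · exact joint chain1_ok eig1 hT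
    · exact joint chain2_ok eig2 hT
    · exact joint chain3_ok eig3 hT
    · exact joint chain4_ok eig4 hT
    · exact joint chain6_ok eig6 hT
    · exact joint PGF4.chain8_ok PGF4.eig8 hT
    · exact joint PGF4.chain12_ok PGF4.eig12 hT

end F4X

/-! ### `E6` -/

namespace E6X

/-- partial products -/
def chain1 : List (Fin 6 × Mat 6) := []

theorem chain1_ok : ChainOK PGE6.Am chain1 := by decide +kernel

/-- the eigenvector -/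
def V1 : Fin 1 → Fin 6 → ℤ := ![![-1, -1, -1, -1, -1, -1]]

theorem eig1 : EigOK (hd chain1) c1 V1 ![-1, -1, -1, 0, 1, 1] := by decide +kernel

/-- partial products -/
def chain2 : List (Fin 6 × Mat 6) := [(0, ![![-1, 0, 0, 0, 0, 0], ![0, 1, 0, 0, 0, 0], ![1, 0, 1, 0, 0, 0], ![0, 0, 0, 1, 0, 0], ![0, 0, 0, 0, 1, 0], ![0, 0, 0, 0, 0, 1]])]

theorem chain2_ok : ChainOK PGE6.Am chain2 := by decide +kernel

/-- the eigenvector -/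
def V2 : Fin 1 → Fin 6 → ℤ := ![![-1, 0, 0, 0, 0, 0]]

theorem eig2 : EigOK (hd chain2) c2 V2 ![-1, -1, -1, -1, -1, -1] := by decide +kernel

/-- partial products -/
def chain3 : List (Fin 6 × Mat 6) := [(2, ![![-1, 0, -1, 0, 0, 0], ![0, 1, 0, 0, 0, 0], ![1, 0, 0, 0, 0, 0], ![0, 0, 1, 1, 0, 0], ![0, 0, 0, 0, 1, 0], ![0, 0, 0, 0, 0, 1]]),
    (0, ![![-1, 0, 0, 0, 0, 0], ![0, 1, 0, 0, 0, 0], ![1, 0, 1, 0, 0, 0], ![0, 0, 0, 1, 0, 0], ![0, 0, 0, 0, 1, 0], ![0, 0, 0, 0, 0, 1]])]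

theorem chain3_ok : ChainOK PGE6.Am chain3 := by decide +kernel

/-- the eigenvector -/
def V3 : Fin 2 → Fin 6 → ℤ := ![![-1, 0, 0, 0, 0, 0], ![-1, 0, -1, 0, 0, 0]]

theorem eig3 : EigOK (hd chain3) c3 V3 ![-1, -1, 1, -1, -1, -1] := by decide +kernel

/-- partial products -/
def chain4 : List (Fin 6 × Mat 6) := [(3, ![![-1, 0, -1, -1, 0, 0], ![0, 1, 0, 1, 0, 0], ![1, 0, 0, 0, 0, 0], ![0, 0, 1, 0, 0, 0], ![0, 0, 0, 1, 1, 0], ![0, 0, 0, 0, 0, 1]]),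
    (2, ![![-1, 0, -1, 0, 0, 0], ![0, 1, 0, 0, 0, 0], ![1, 0, 0, 0, 0, 0], ![0, 0, 1, 1, 0, 0], ![0, 0, 0, 0, 1, 0], ![0, 0, 0, 0, 0, 1]]),
    (0, ![![-1, 0, 0, 0, 0, 0], ![0, 1, 0, 0, 0, 0], ![1, 0, 1, 0, 0, 0], ![0, 0, 0, 1, 0, 0], ![0, 0, 0, 0, 1, 0], ![0, 0, 0, 0, 0, 1]])]

theorem chain4_ok : ChainOK PGE6.Am chain4 := by decide +kernel

/-- the eigenvector -/
def V4 : Fin 2 → Fin 6 → ℤ := ![![0, 0, 1, 1, 0, 0], ![-1, 0, -1, 0, 0, 0]]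

theorem eig4 : EigOK (hd chain4) c4 V4 ![-1, -1, 1, 0, -1, -1] := by decide +kernel

/-- partial products -/
def chain5 : List (Fin 6 × Mat 6) := [(3, ![![-1, 0, -1, -1, 0, 0], ![0, -1, 0, -1, 0, 0], ![1, 0, 0, 0, 0, 0], ![0, 1, 1, 1, 0, 0], ![0, 0, 0, 1, 1, 0], ![0, 0, 0, 0, 0, 1]]),
    (2, ![![-1, 0, -1, 0, 0, 0], ![0, -1, 0, 0, 0, 0], ![1, 0, 0, 0, 0, 0], ![0, 1, 1, 1, 0, 0], ![0, 0, 0, 0, 1, 0], ![0, 0, 0, 0, 0, 1]]),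
    (1, ![![-1, 0, 0, 0, 0, 0], ![0, -1, 0, 0, 0, 0], ![1, 0, 1, 0, 0, 0], ![0, 1, 0, 1, 0, 0], ![0, 0, 0, 0, 1, 0], ![0, 0, 0, 0, 0, 1]]),
    (0, ![![-1, 0, 0, 0, 0, 0], ![0, 1, 0, 0, 0, 0], ![1, 0, 1, 0, 0, 0], ![0, 0, 0, 1, 0, 0], ![0, 0, 0, 0, 1, 0], ![0, 0, 0, 0, 0, 1]])]

theorem chain5_ok : ChainOK PGE6.Am chain5 := by decide +kernel

/-- the eigenvector -/
def V5 : Fin 4 → Fin 6 → ℤ := ![![0, 0, 1, 1, 0, 0], ![-1, 0, 0, 1, 0, 0], ![-1, -1, -1, 0, 0, 0], ![-1, -1, -1, -1, 0, 0]]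

theorem eig5 : EigOK (hd chain5) c5 V5 ![0, -1, 1, 0, -1, -1] := by decide +kernel

/-- partial products -/
def chain6 : List (Fin 6 × Mat 6) := [(4, ![![1, 0, 1, 1, 1, 0], ![0, -1, 0, -1, -1, 0], ![0, 0, -1, -1, -1, 0], ![0, 1, 1, 1, 1, 0], ![0, 0, 0, 1, 0, 0], ![0, 0, 0, 0, 1, 1]]),
    (3, ![![1, 0, 1, 1, 0, 0], ![0, -1, 0, -1, 0, 0], ![0, 0, -1, -1, 0, 0], ![0, 1, 1, 1, 0, 0], ![0, 0, 0, 1, 1, 0], ![0, 0, 0, 0, 0, 1]]),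
    (2, ![![1, 0, 1, 0, 0, 0], ![0, -1, 0, 0, 0, 0], ![0, 0, -1, 0, 0, 0], ![0, 1, 1, 1, 0, 0], ![0, 0, 0, 0, 1, 0], ![0, 0, 0, 0, 0, 1]]),
    (1, ![![1, 0, 0, 0, 0, 0], ![0, -1, 0, 0, 0, 0], ![0, 0, 1, 0, 0, 0], ![0, 1, 0, 1, 0, 0], ![0, 0, 0, 0, 1, 0], ![0, 0, 0, 0, 0, 1]])]

theorem chain6_ok : ChainOK PGE6.Am chain6 := by decide +kernel

/-- the eigenvector -/
def V6 : Fin 2 → Fin 6 → ℤ := ![![0, 1, 1, 2, 1, 0], ![0, -1, -1, -1, 0, 0]]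

theorem eig6 : EigOK (hd chain6) c6 V6 ![-1, -1, 0, 1, 0, -1] := by decide +kernel

theorem joint {F : Type u} [Field F] [Finite F] {L : List (Fin 6 × Mat 6)} (hL : ChainOK PGE6.Am L)
    {f : ℕ} {c : Fin (f + 1) → ℤ} {V : Fin (f + 1) → Fin 6 → ℤ} {U : Fin 6 → ℤ}
    (h : EigOK (hd L) c V U) {T : Finset ℕ} (hT : ∀ r ∈ T, r.Prime ∧ 31 < r ∧ (r : ℤ) ∣ pv c (Nat.card F)) :
    ∃ x : ↥(chevE6.group F), ∀ r ∈ T, r ∣ orderOf x := by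
  have := PGE6.finW
  exact joint_untw PGE6.hp CoxeterMatrix.E₆.toCoxeterSystem H129.TorusChar.invC_E6 (by norm_num)
    (chain_rep PGE6.hp CoxeterMatrix.E₆.toCoxeterSystem PGE6.hA hL) h
    (fun r hr => ⟨(hT r hr).1, not_dvd_of_lt (hT r hr).2.1 (by norm_num) (by norm_num), (hT r hr).2.2⟩)

/-- divisors of the order -/
theorem cover {q r : ℕ} (hq : 2 ≤ q) (hr : r.Prime)
    (h : r ∣ q ^ 36 * (q ^ 2 - 1) * (q ^ 5 - 1) * (q ^ 6 - 1) * (q ^ 8 - 1) * (q ^ 9 - 1) * (q ^ 12 - 1)) :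
    r ∣ q ∨ (r : ℤ) ∣ pv c1 q ∨ (r : ℤ) ∣ pv c2 q ∨ (r : ℤ) ∣ pv c3 q ∨ (r : ℤ) ∣ pv c4 q ∨ (r : ℤ) ∣ pv c5 q ∨ (r : ℤ) ∣ pv c6 q ∨ (r : ℤ) ∣ pv c8 q ∨ (r : ℤ) ∣ pv c9 q ∨ (r : ℤ) ∣ pv c12 q := by
  have h2 : 1 ≤ q ^ 2 := Nat.one_le_pow _ _ (by omega)
  have h5 : 1 ≤ q ^ 5 := Nat.one_le_pow _ _ (by omega)
  have h6 : 1 ≤ q ^ 6 := Nat.one_le_pow _ _ (by omega)
  have h8 : 1 ≤ q ^ 8 := Nat.one_le_pow _ _ (by omega)
  have h9 : 1 ≤ q ^ 9 := Nat.one_le_pow _ _ (by omega)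
  have h12 : 1 ≤ q ^ 12 := Nat.one_le_pow _ _ (by omega)
  have hr' : Prime (r : ℤ) := Nat.prime_iff_prime_int.1 hr
  have h1 := Int.natCast_dvd_natCast.2 h
  push_cast [Nat.cast_sub h2, Nat.cast_sub h5, Nat.cast_sub h6, Nat.cast_sub h8, Nat.cast_sub h9, Nat.cast_sub h12] at h1
  have e : (q : ℤ) ^ 36 * ((q : ℤ) ^ 2 - 1) * ((q : ℤ) ^ 5 - 1) * ((q : ℤ) ^ 6 - 1) * ((q : ℤ) ^ 8 - 1) * ((q : ℤ) ^ 9 - 1) * ((q : ℤ) ^ 12 - 1) =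
      (q : ℤ) ^ 36 * (pv c1 q * pv c2 q) * (pv c1 q * pv c5 q) * (pv c1 q * pv c2 q * pv c3 q * pv c6 q) * (pv c1 q * pv c2 q * pv c4 q * pv c8 q) * (pv c1 q * pv c3 q * pv c9 q) * (pv c1 q * pv c2 q * pv c3 q * pv c4 q * pv c6 q * pv c12 q) := by
    rw [pv_c1, pv_c2, pv_c3, pv_c4, pv_c5, pv_c6, pv_c8, pv_c9, pv_c12]; ring
  rw [e] at h1
  simp only [hr'.dvd_mul] at h1
  by_cases h0 : (r : ℤ) ∣ (q : ℤ) ^ 36
  · exact Or.inl (Int.natCast_dvd_natCast.1 (hr'.dvd_of_dvd_pow h0))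
  · tauto

theorem exc (F : Type u) [Field F] [Fintype F] : Exc ↥(chevE6.group F) := by
  let P : Fin 9 → ℕ → Prop := ![fun r => (r : ℤ) ∣ pv c1 (Nat.card F), fun r => (r : ℤ) ∣ pv c2 (Nat.card F), fun r => (r : ℤ) ∣ pv c3 (Nat.card F), fun r => (r : ℤ) ∣ pv c4 (Nat.card F), fun r => (r : ℤ) ∣ pv c5 (Nat.card F), fun r => (r : ℤ) ∣ pv c6 (Nat.card F), fun r => (r : ℤ) ∣ pv c8 (Nat.card F), fun r => (r : ℤ) ∣ pv c9 (Nat.card F), fun r => (r : ℤ) ∣ pv c12 (Nat.card F)]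
  have hq := Finite.one_lt_card (α := F)
  obtain ⟨p, n, hp, hn, hpn⟩ := FiniteField.isPrimePow_card F
  rw [← Nat.card_eq_fintype_card] at hpn
  refine exc_of_classes (m := 9) (by norm_num) p P ?_ ?_
  · intro r hr _ hrG
    have h1 : r ∣ Nat.card F ^ 36 * (Nat.card F ^ 2 - 1) * (Nat.card F ^ 5 - 1) * (Nat.card F ^ 6 - 1) * (Nat.card F ^ 8 - 1) * (Nat.card F ^ 9 - 1) * (Nat.card F ^ 12 - 1) := by
      rw [← Cfsg.Agent.S1063.result (F := F) Nat.card_eq_fintype_card.symm]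
      exact hrG.mul_left _
    rcases cover hq hr h1 with h | h | h | h | h | h | h | h | h | h
    · left
      rw [← hpn] at h
      exact (Nat.prime_dvd_prime_iff_eq hr hp.nat_prime).1 (hr.dvd_of_dvd_pow h)
    · exact Or.inr ⟨0, h⟩
    · exact Or.inr ⟨1, h⟩
    · exact Or.inr ⟨2, h⟩
    · exact Or.inr ⟨3, h⟩
    · exact Or.inr ⟨4, h⟩
    · exact Or.inr ⟨5, h⟩
    · exact Or.inr ⟨6, h⟩
    · exact Or.inr ⟨7, h⟩
    · exact Or.inr ⟨8, h⟩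
  · intro i T hT
    fin_cases i
    · exact joint chain1_ok eig1 hT
    · exact joint chain2_ok eig2 hT
    · exact joint chain3_ok eig3 hT
    · exact joint chain4_ok eig4 hT
    · exact joint chain5_ok eig5 hT
    · exact joint chain6_ok eig6 hT
    · exact joint PGE6.chain8_ok PGE6.eig8 hT
    · exact joint PGE6.chain9_ok PGE6.eig9 hT
    · exact joint PGE6.chain12_ok PGE6.eig12 hT

end E6X

theorem exc_g2 {S : Type*} [Group S] [Finite S] (h : Lie.IsoChevG2 S) : Exc S := by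
  obtain ⟨F, _, _, -, ⟨e⟩⟩ := h
  exact exc_congr e.symm (G2X.exc F)

theorem exc_f4 {S : Type*} [Group S] [Finite S] (h : Lie.IsoF4 S) : Exc S := by
  obtain ⟨F, _, _, ⟨e⟩⟩ := h
  exact exc_congr e.symm (F4X.exc F)

theorem exc_e6 {S : Type*} [Group S] [Finite S] (h : Lie.IsoChevE6 S) : Exc S := by
  obtain ⟨F, _, _, ⟨e⟩⟩ := h
  exact exc_congr e.symm (E6X.exc F)

end Cfsg.Agent.H559.ExcJoint
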