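import Mathlib
import Cfsg.Agent.H584.NC.Basic
import Cfsg.Agent.OddHalf.LongSL.Abs
import Cfsg.Agent.Cit.LongAbs
import Cfsg.Agent.PLocal.SubnormalCore
import Cfsg.Agent.SignalizersComponents.CoprimeBasic
import Cfsg.Agent.ClassicalGeometry.QuatPair
import Cfsg.Agent.Lib.Cores
import Cfsg.Agent.PLocal.PConstrained

/-!
# The local condition `Loc S` excludes long `SL₂(q)`, `q` odd (helper559, for S4386)

* `exists_ikx` : the relations of `SL₂(3)` in `SL₂(F)`, `F` of odd characteristic;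
* `core_ne`, `core_three` : a subnormal `SL₂(q)` of `X` and an element `z` commuting with a quaternion subgroup
  (`q ≠ 3`), respectively with `O₂(X)` (`q = 3`): `C(z)` is not `2`-nilpotent;
* `not_long` : the statement.
-/

set_option autoImplicit false

namespace Cfsg.Agent.H559.NotLong

open Subgroup Cfsg Cfsg.Agent.H584.NC Cfsg.Agent.Cit.LongAbs Cfsg.Agent.Cit.LongSL3
  Cfsg.Agent.SignalizersComponents Cfsg.Agent.SignalizersComponents.Components

universe u

/-! ### the quaternion group in `SL₂(F)` -/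

section sl

variable {F : Type*} [Field F]

theorem entry (p q : Matrix.SpecialLinearGroup (Fin 2) F) (r s : Fin 2) :
    (p * q).1 r s = p.1 r 0 * q.1 0 s + p.1 r 1 * q.1 1 s := by
  change (p.1 * q.1) r s = _
  rw [Matrix.mul_apply, Fin.sum_univ_two]

theorem ext2 {p q : Matrix.SpecialLinearGroup (Fin 2) F} (h1 : p.1 0 0 = q.1 0 0) (h2 : p.1 0 1 = q.1 0 1)
    (h3 : p.1 1 0 = q.1 1 0) (h4 : p.1 1 1 = q.1 1 1) : p = q := by
  apply Subtype.ext
  ext r s
  fin_cases r <;> fin_cases s <;> assumption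

theorem neg_entry (p : Matrix.SpecialLinearGroup (Fin 2) F) (r s : Fin 2) : (-p).1 r s = - p.1 r s := rfl

theorem one00 : (1 : Matrix.SpecialLinearGroup (Fin 2) F).1 0 0 = 1 := rfl
theorem one01 : (1 : Matrix.SpecialLinearGroup (Fin 2) F).1 0 1 = 0 := rfl
theorem one10 : (1 : Matrix.SpecialLinearGroup (Fin 2) F).1 1 0 = 0 := rfl
theorem one11 : (1 : Matrix.SpecialLinearGroup (Fin 2) F).1 1 1 = 1 := rfl

/-- elements `i, k, x` of `SL₂(F)` with the relations of `SL₂(3)` -/
theorem exists_ikx (h2 : (2 : F) ≠ 0) {a b : F} (hab : a ^ 2 + b ^ 2 = -1) :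
    ∃ i k x : Matrix.SpecialLinearGroup (Fin 2) F, i * i = -1 ∧ k * k = -1 ∧ i * k = -(k * i) ∧ x * x * x = 1 ∧
      x * i = k * x ∧ x * k = i * k * x ∧
      ∀ g : Matrix.SpecialLinearGroup (Fin 2) F, g * i = i * g → g * k = k * g → g = 1 ∨ g = -1 := by
  obtain ⟨h, hh⟩ : ∃ h : F, 2 * h = 1 := ⟨2⁻¹, mul_inv_cancel₀ h2⟩
  obtain ⟨i, i00, i01, i10, i11⟩ : ∃ i : Matrix.SpecialLinearGroup (Fin 2) F, i.1 0 0 = 0 ∧ i.1 0 1 = 1 ∧
      i.1 1 0 = -1 ∧ i.1 1 1 = 0 := ⟨⟨!![0, 1; -1, 0], by simp [Matrix.det_fin_two]⟩, rfl, rfl, rfl, rfl⟩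
  obtain ⟨k, k00, k01, k10, k11⟩ : ∃ i : Matrix.SpecialLinearGroup (Fin 2) F, i.1 0 0 = a ∧ i.1 0 1 = b ∧
      i.1 1 0 = b ∧ i.1 1 1 = -a := ⟨⟨!![a, b; b, -a], by
    simp only [Matrix.det_fin_two, Matrix.of_apply, Matrix.cons_val', Matrix.cons_val_zero, Matrix.cons_val_one,
      Matrix.cons_val_fin_one]
    linear_combination -hab⟩, rfl, rfl, rfl, rfl⟩
  obtain ⟨x, x00, x01, x10, x11⟩ : ∃ i : Matrix.SpecialLinearGroup (Fin 2) F, i.1 0 0 = -(1 + a + b) * h ∧
      i.1 0 1 = -(1 + b - a) * h ∧ i.1 1 0 = -(-1 + b - a) * h ∧ i.1 1 1 = -(1 - a - b) * h :=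
    ⟨⟨!![-(1 + a + b) * h, -(1 + b - a) * h; -(-1 + b - a) * h, -(1 - a - b) * h], by
      simp only [Matrix.det_fin_two, Matrix.of_apply, Matrix.cons_val', Matrix.cons_val_zero, Matrix.cons_val_one,
        Matrix.cons_val_fin_one]
      linear_combination (-2 * h ^ 2) * hab + (2 * h + 1) * hh⟩, rfl, rfl, rfl, rfl⟩
  have ht : x.1 0 0 + x.1 1 1 = -1 := by
    rw [x00, x11]
    linear_combination -hh
  have hd : x.1 0 0 * x.1 1 1 - x.1 0 1 * x.1 1 0 = 1 := by
    have := x.2
    rwa [Matrix.det_fin_two] at this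
  refine ⟨i, k, x, ?_, ?_, ?_, ?_, ?_, ?_, ?_⟩
  · apply ext2 <;> rw [entry, neg_entry] <;> simp only [one00, one01, one10, one11, i00, i01, i10, i11] <;> ring
  · apply ext2 <;> rw [entry, neg_entry] <;> simp only [one00, one01, one10, one11, k00, k01, k10, k11]
    · linear_combination hab
    · ring
    · ring
    · linear_combination hab
  · apply ext2 <;> rw [entry, neg_entry, entry] <;> simp only [i00, i01, i10, i11, k00, k01, k10, k11] <;> ring
  · apply ext2 <;> rw [entry, entry, entry] <;> simp only [one00, one01, one10, one11]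
    · linear_combination (x.1 0 0 ^ 2 + x.1 0 1 * x.1 1 0 - x.1 0 0) * ht + (1 - x.1 0 0) * hd
    · linear_combination (x.1 0 1 * (x.1 0 0 + x.1 1 1) - x.1 0 1) * ht - x.1 0 1 * hd
    · linear_combination (x.1 1 0 * (x.1 0 0 + x.1 1 1) - x.1 1 0) * ht - x.1 1 0 * hd
    · linear_combination (x.1 1 1 ^ 2 + x.1 0 1 * x.1 1 0 - x.1 1 1) * ht + (1 - x.1 1 1) * hd
  · apply ext2 <;> rw [entry, entry] <;>
      simp only [i00, i01, i10, i11, k00, k01, k10, k11, x00, x01, x10, x11]
    · linear_combination h * hab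
    · linear_combination -h * hab
    · linear_combination h * hab
    · linear_combination h * hab
  · apply ext2 <;> rw [entry, entry, entry, entry] <;>
      simp only [i00, i01, i10, i11, k00, k01, k10, k11, x00, x01, x10, x11] <;> ring
  · intro g h1 h3
    have e1 : ∀ r s, (g * i).1 r s = (i * g).1 r s := fun r s => by rw [h1]
    have e3 : ∀ r s, (g * k).1 r s = (k * g).1 r s := fun r s => by rw [h3]
    have f1 := e1 0 0
    have f2 := e1 0 1
    have f3 := e3 0 0
    have f4 := e3 0 1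
    simp only [entry, i00, i01, i10, i11, k00, k01, k10, k11] at f1 f2 f3 f4
    have hdet : g.1 0 0 * g.1 1 1 - g.1 0 1 * g.1 1 0 = 1 := by
      have := g.2
      rwa [Matrix.det_fin_two] at this
    have g10 : g.1 1 0 = - g.1 0 1 := by linear_combination -f1
    have g11 : g.1 1 1 = g.1 0 0 := by linear_combination -f2
    rw [g10] at f3
    rw [g11] at f4
    have hqb : g.1 0 1 * b = 0 := by
      have : 2 * (g.1 0 1 * b) = 0 := by linear_combination f3
      exact (mul_eq_zero.1 this).resolve_left h2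
    have hqa : g.1 0 1 * a = 0 := by
      have : 2 * (g.1 0 1 * a) = 0 := by linear_combination -f4
      exact (mul_eq_zero.1 this).resolve_left h2
    have hq : g.1 0 1 = 0 := by
      have : g.1 0 1 * (a ^ 2 + b ^ 2) = 0 := by linear_combination a * hqa + b * hqb
      rw [hab] at this
      simpa using this
    rw [hq, g11, zero_mul, sub_zero] at hdet
    have hp : (g.1 0 0 - 1) * (g.1 0 0 + 1) = 0 := by linear_combination hdet
    rcases mul_eq_zero.1 hp with h5 | h5
    · left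
      apply ext2
      · rw [one00]; linear_combination h5
      · rw [one01, hq]
      · rw [one10, g10, hq, neg_zero]
      · rw [one11, g11]; linear_combination h5
    · right
      apply ext2 <;> rw [neg_entry]
      · rw [one00]; linear_combination h5
      · rw [one01, hq, neg_zero]
      · rw [one10, g10, hq]
      · rw [one11, g11]; linear_combination h5
end sl

/-! ### the case `q ≠ 3` -/

section ne

variable {X : Type u} [Group X] [Finite X]

set_option linter.unusedSectionVars false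

theorem isPGroup_ik {i k m : X} (hi : i * i = m) (hk : k * k = m) (hm : m * m = 1) (hmi : m * i = i * m)
    (hik : i * k = m * (k * i)) : IsPGroup 2 (zpowers i ⊔ zpowers k : Subgroup X) := by
  have h4 : ∀ a : X, a * a = m → IsPGroup 2 (zpowers a) := by
    intro a ha
    rintro ⟨g, hg⟩
    obtain ⟨n, rfl⟩ := mem_zpowers_iff.1 hg
    refine ⟨2, Subtype.ext ?_⟩
    change (a ^ n) ^ 2 ^ 2 = 1
    have h1 : a ^ (4 : ℤ) = 1 := by
      have : a ^ (4 : ℤ) = (a * a) * (a * a) := by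
        rw [show (4 : ℤ) = 1 + 1 + 1 + 1 by norm_num, zpow_add, zpow_add, zpow_add, zpow_one]
        simp only [mul_assoc]
      rw [this, ha, hm]
    rw [← zpow_natCast, ← zpow_mul, mul_comm, zpow_mul]
    norm_num [h1]
  refine IsPGroup.to_sup_of_normal_left' (h4 i hi) (h4 k hk) ?_
  rw [zpowers_le, mem_normalizer_iff]
  have hinv : k * i * k⁻¹ = i⁻¹ := by
    have h1 : k * i = m * (i * k) := by
      rw [hik, ← mul_assoc, hm, one_mul]
    rw [h1]
    have h2 : m * (i * k) * k⁻¹ = m * i := by group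
    rw [h2]
    rw [eq_inv_iff_mul_eq_one, mul_assoc, hi, hm]
  have hz : ∀ n : ℤ, k * i ^ n * k⁻¹ = i ^ (-n) := by
    intro n
    rw [zpow_neg, ← inv_zpow, ← hinv, conj_zpow]
  have hinv' : k⁻¹ * i * k = i⁻¹ := by
    have h1 : i * k = k * i⁻¹ := by
      rw [← hinv]
      have h3 : k * (k * i * k⁻¹) = (k * k) * i * k⁻¹ := by group
      rw [h3, hk, hmi, mul_assoc, ← hk]
      group
    rw [mul_assoc, h1, inv_mul_cancel_left]
  intro g
  constructor
  · intro hg
    obtain ⟨n, rfl⟩ := mem_zpowers_iff.1 hg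
    exact mem_zpowers_iff.2 ⟨-n, (hz n).symm⟩
  · intro hg
    obtain ⟨n, hn⟩ := mem_zpowers_iff.1 hg
    have h1 : g = k⁻¹ * (k * g * k⁻¹) * k := by group
    rw [h1, ← hn]
    have h2 : k⁻¹ * i ^ n * k = (k⁻¹ * i * k) ^ n := by
      have := conj_zpow (a := k⁻¹) (b := i) (i := n)
      rw [inv_inv] at this
      exact this.symm
    rw [h2, hinv']
    exact mem_zpowers_iff.2 ⟨-n, by rw [zpow_neg, inv_zpow]⟩

/-- **`q ≠ 3`**: an element commuting with the quaternion group has a centralizer which is not `2`-nilpotent. -/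
theorem core_ne {J : Subgroup X} {F : Type} [Field F] [Fintype F] (ho : Odd (Fintype.card F))
    (h3 : Fintype.card F ≠ 3) (hJ : J.IsSubnormal) (e : J ≃* Matrix.SpecialLinearGroup (Fin 2) F)
    {i k x : Matrix.SpecialLinearGroup (Fin 2) F} (hi : i * i = -1) (hk : k * k = -1) (hik : i * k = -(k * i))
    (hx : x * x * x = 1) (hxi : x * i = k * x) (hxk : x * k = i * k * x)
    (hc : ∀ g : Matrix.SpecialLinearGroup (Fin 2) F, g * i = i * g → g * k = k * g → g = 1 ∨ g = -1)
    {z : X} (hzi : z * (e.symm i : X) = (e.symm i : X) * z) (hzk : z * (e.symm k : X) = (e.symm k : X) * z) :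
    ¬ NC (centralizer ({z} : Set X)) := by
  intro hNC
  have h2 : (2 : F) ≠ 0 := Cfsg.Agent.OddHalf.LongSL.two_ne_of_odd ho
  have hm1 : (-1 : Matrix.SpecialLinearGroup (Fin 2) F) ≠ 1 := Cfsg.Agent.OddHalf.LongSL.neg_one_ne h2
  have hcomp : IsComponent J := ⟨hJ, ComponentNormalize.quasisimple_congr e.symm (quasisimple_SL2 ho h3)⟩
  have hco : ∀ g h : Matrix.SpecialLinearGroup (Fin 2) F, ((e.symm (g * h) : J) : X) = e.symm g * e.symm h := by
    intro g h
    rw [map_mul]; rfl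
  have hik' : i * k ≠ k * i := by
    intro h
    rw [h] at hik
    have h4 : (-1 : Matrix.SpecialLinearGroup (Fin 2) F) * (k * i) = 1 * (k * i) := by
      rw [neg_one_mul, one_mul]; exact hik.symm
    exact hm1 (mul_right_cancel h4)
  -- `z` normalises `J`
  have hzJ : J.map (MulAut.conj z).toMonoidHom = J := by
    by_contra hne
    have hcomp' := isComponent_conj z hcomp
    have h4 := component_commutator_eq_bot_of_ne hcomp' hcomp hne
    have h5 : ((e.symm i : J) : X) ∈ J.map (MulAut.conj z).toMonoidHom := by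
      refine ⟨(e.symm i : X), (e.symm i).2, ?_⟩
      change z * (e.symm i : X) * z⁻¹ = _
      rw [hzi, mul_inv_cancel_right]
    have h6 := (commutator_eq_bot_iff_le_centralizer.1 h4) h5
    have h7 := mem_centralizer_iff.1 h6 _ (e.symm k).2
    apply hik'
    apply e.symm.injective
    apply Subtype.ext
    rw [hco, hco]
    exact h7.symm
  -- `z` commutes with `x`
  set xx : X := ((e.symm x : J) : X) with hxx
  have hxJ : xx ∈ J := (e.symm x).2
  have hzx : z * xx * z⁻¹ ∈ J := by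
    have : z * xx * z⁻¹ ∈ J.map (MulAut.conj z).toMonoidHom := ⟨xx, hxJ, rfl⟩
    rwa [hzJ] at this
  set c : J := ⟨z * xx * z⁻¹, hzx⟩ * (e.symm x)⁻¹ with hcdef
  have hcX : (c : X) = z * xx * z⁻¹ * xx⁻¹ := rfl
  have e1 : xx * (e.symm i : X) * xx⁻¹ = e.symm k := by
    rw [hxx, ← hco, hxi, hco]; group
  have e2 : xx * (e.symm k : X) * xx⁻¹ = (e.symm i : X) * e.symm k := by
    rw [hxx, ← hco, hxk, hco, hco]; group
  have hx3 : xx * xx * xx = 1 := by
    rw [hxx, ← hco, ← hco, hx, map_one]; rfl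
  have hci : ∀ y : X, z * y = y * z → z * (xx⁻¹ * y * xx) = (xx⁻¹ * y * xx) * z →
      (c : X) * y = y * c := by
    intro y hy hy'
    have h4 : z⁻¹ * (xx⁻¹ * y * xx) * z = xx⁻¹ * y * xx := by
      rw [mul_assoc, ← hy', inv_mul_cancel_left]
    have h4' : z⁻¹ * (xx⁻¹ * y * xx) = (xx⁻¹ * y * xx) * z⁻¹ := by
      rw [eq_mul_inv_iff_mul_eq]; exact h4
    rw [hcX]
    calc z * xx * z⁻¹ * xx⁻¹ * y = z * xx * (z⁻¹ * (xx⁻¹ * y * xx)) * xx⁻¹ := by group
      _ = z * xx * ((xx⁻¹ * y * xx) * z⁻¹) * xx⁻¹ := by rw [h4']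
      _ = (z * y) * xx * z⁻¹ * xx⁻¹ := by group
      _ = y * z * xx * z⁻¹ * xx⁻¹ := by rw [hy]
      _ = _ := by group
  -- the conjugates of `i`, `k` under `x⁻¹`
  have f1 : xx⁻¹ * (e.symm k : X) * xx = e.symm i := by
    rw [← e1]; group
  have f2 : xx⁻¹ * (e.symm i : X) * xx = (e.symm k : X) * ((e.symm i : X))⁻¹ := by
    have h4 : (e.symm i : X) = (xx * (e.symm k : X) * xx⁻¹) * (e.symm k : X)⁻¹ := by rw [e2]; group
    have h5 : xx⁻¹ * (e.symm i : X) * xx = (e.symm k : X) * (xx⁻¹ * (e.symm k : X) * xx)⁻¹ := by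
      conv_lhs => rw [h4]
      group
    rw [h5, f1]
  have g1 : (c : X) * e.symm i = e.symm i * c := by
    apply hci _ hzi
    rw [f2]
    have h4 : Commute z ((e.symm k : X) * ((e.symm i : X))⁻¹) :=
      (show Commute z (e.symm k : X) from hzk).mul_right (show Commute z (e.symm i : X) from hzi).inv_right
    exact h4
  have g2 : (c : X) * e.symm k = e.symm k * c := by
    apply hci _ hzk
    rw [f1]
    exact hzi
  have hcc := hc (e c) (by
    apply e.symm.injective
    apply Subtype.ext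
    rw [hco, hco, e.symm_apply_apply]
    exact g1) (by
    apply e.symm.injective
    apply Subtype.ext
    rw [hco, hco, e.symm_apply_apply]
    exact g2)
  have hzxc : z * xx = xx * z := by
    rcases hcc with h4 | h4
    · have h5 : c = 1 := by rw [← e.symm_apply_apply c, h4, map_one]
      have h6 : z * xx * z⁻¹ * xx⁻¹ = 1 := by rw [← hcX, h5]; rfl
      rw [mul_inv_eq_one, mul_inv_eq_iff_eq_mul] at h6
      exact h6
    · exfalso
      have h5 : (c : X) = e.symm (-1) := by rw [← h4, e.symm_apply_apply]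
      set mm : X := ((e.symm (-1 : Matrix.SpecialLinearGroup (Fin 2) F) : J) : X) with hmm
      have h6 : z * xx * z⁻¹ = mm * xx := by rw [← h5, hcX]; group
      have h7 : mm * xx = xx * mm := by
        rw [hmm, hxx, ← hco, ← hco, neg_one_mul, mul_neg_one]
      have h8 : mm * mm = 1 := by
        rw [hmm, ← hco, neg_one_mul, neg_neg, map_one]; rfl
      have h9 : (z * xx * z⁻¹) * (z * xx * z⁻¹) * (z * xx * z⁻¹) = 1 := by
        have : (z * xx * z⁻¹) * (z * xx * z⁻¹) * (z * xx * z⁻¹) = z * (xx * xx * xx) * z⁻¹ := by group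
        rw [this, hx3]; group
      rw [h6] at h9
      have h10 : mm * xx * (mm * xx) * (mm * xx) = mm := by
        have : mm * xx * (mm * xx) * (mm * xx) = mm * (xx * mm) * xx * (mm * xx) := by group
        rw [this, ← h7]
        have : mm * (mm * xx) * xx * (mm * xx) = (mm * mm) * xx * xx * (mm * xx) := by group
        rw [this, h8, one_mul, h7]
        have : xx * xx * (xx * mm) = (xx * xx * xx) * mm := by group
        rw [this, hx3, one_mul]
      rw [h10] at h9
      apply hm1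
      apply e.symm.injective
      rw [map_one]
      exact Subtype.ext h9
  -- the contradiction
  have hmm1 : (e.symm (-1 : Matrix.SpecialLinearGroup (Fin 2) F) : X) * e.symm (-1) = 1 := by
    rw [← hco, neg_one_mul, neg_neg, map_one]; rfl
  have hp : IsPGroup 2 (zpowers (e.symm i : X) ⊔ zpowers (e.symm k : X) : Subgroup X) := by
    refine isPGroup_ik (m := e.symm (-1)) ?_ ?_ hmm1 ?_ ?_
    · rw [← hco, hi]
    · rw [← hco, hk]
    · rw [← hco, ← hco, neg_one_mul, mul_neg_one]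
    · rw [← hco, ← hco, ← hco, hik, neg_one_mul]
  have hY : (zpowers (e.symm i : X) ⊔ zpowers (e.symm k : X) : Subgroup X) ≤ centralizer ({z} : Set X) := by
    rw [sup_le_iff, zpowers_le, zpowers_le, mem_centralizer_singleton_iff, mem_centralizer_singleton_iff]
    exact ⟨hzi.symm, hzk.symm⟩
  have hxo : ¬ 2 ∣ orderOf xx := by
    have h4 : orderOf xx ∣ 3 := orderOf_dvd_of_pow_eq_one (by rw [pow_succ, sq]; exact hx3)
    intro h5
    have := h5.trans h4
    omega
  have hfin := hNC.comm' hY hp (x := xx) (mem_centralizer_singleton_iff.2 hzxc.symm) hxo (by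
    have h4 : (zpowers (e.symm i : X) ⊔ zpowers (e.symm k : X) : Subgroup X) ≤
        (zpowers (e.symm i : X) ⊔ zpowers (e.symm k : X) : Subgroup X).comap (MulAut.conj xx).toMonoidHom := by
      rw [sup_le_iff, zpowers_le, zpowers_le, mem_comap, mem_comap]
      constructor
      · change xx * (e.symm i : X) * xx⁻¹ ∈ _
        rw [e1]
        exact mem_sup_right (mem_zpowers _)
      · change xx * (e.symm k : X) * xx⁻¹ ∈ _
        rw [e2]
        exact mul_mem (mem_sup_left (mem_zpowers _)) (mem_sup_right (mem_zpowers _))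
    exact fun y hy => h4 hy) (mem_sup_left (mem_zpowers (e.symm i : X)))
  have h4 : (e.symm i : X) = e.symm k := by
    rw [← e1, hfin, mul_inv_cancel_right]
  have h5 : i = k := e.symm.injective (Subtype.ext h4)
  exact hik' (by rw [h5])

end ne

/-! ### the case `q = 3` -/

section three

variable {X : Type u} [Group X] [Finite X]

set_option linter.unusedSectionVars false

theorem sl3_a : ∀ u : S3, (∀ y : S3, y * y * (y * y) = 1 → u * y = y * u) → u * u = 1 := by
  decide +kernel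

theorem core_three {J : Subgroup X} (hJ : J.IsSubnormal) (e : J ≃* S3) {z : X} (hz2 : z * z = 1)
    (hz : ∀ y ∈ pCore 2 X, z * y = y * z) : ¬ NC (centralizer ({z} : Set X)) := by
  intro hNC
  have f3 : Fact (Nat.Prime 3) := ⟨by norm_num⟩
  obtain ⟨c, hcJ, hc3, hc1⟩ := exists_three e
  have hYp : IsPGroup 2 (QQ4 J) := by
    rintro ⟨y, hy⟩
    refine ⟨2, Subtype.ext ?_⟩
    change y ^ 2 ^ 2 = 1
    have := ((mem_QQ4 e).1 hy).2
    rw [← this]
    simp only [pow_succ, pow_zero, one_mul, mul_assoc, Nat.reduceMul]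
  have hYn : ∀ g ∈ J, ∀ y ∈ QQ4 J, g * y * g⁻¹ ∈ QQ4 J := by
    intro g hg y hy
    rw [mem_QQ4 e] at hy ⊢
    refine ⟨J.mul_mem (J.mul_mem hg hy.1) (J.inv_mem hg), ?_⟩
    have : g * y * g⁻¹ * (g * y * g⁻¹) * (g * y * g⁻¹ * (g * y * g⁻¹)) = g * (y * y * (y * y)) * g⁻¹ := by group
    rw [this, hy.2]
    group
  have hYs : (QQ4 J).IsSubnormal := by
    refine IsSubnormal.step _ J (QQ4_le e) hJ ⟨fun y hy g => ?_⟩
    rw [mem_subgroupOf] at hy ⊢
    exact hYn g g.2 y hy
  have hYc : QQ4 J ≤ pCore 2 X := Cfsg.Agent.PLocal.SubnormalCore.le_pCore_of_isSubnormal hYs hYp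
  set C0 : Subgroup X := centralizer (pCore 2 X : Set X) with hC0
  have hC0n : C0.Normal := inferInstance
  have hC0Y : ∀ u ∈ C0, ∀ y ∈ QQ4 J, u * y = y * u := fun u hu y hy => (mem_centralizer_iff.1 hu y (hYc hy)).symm
  have hzC : z ∈ C0 := by
    rw [hC0, mem_centralizer_iff]
    intro y hy
    exact (hz y hy).symm
  set Y0 : Subgroup X := C0 ⊔ zpowers c with hY0
  have hcY0 : c ∈ Y0 := mem_sup_right (mem_zpowers c)
  -- `J ∩ Y₀` commutes with `c`
  have hJY : ∀ g ∈ J, g ∈ Y0 → g * c = c * g := by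
    intro g hgJ hgY
    rw [hY0, mem_sup_of_normal_left] at hgY
    obtain ⟨u, hu, w, hw, hg⟩ := hgY
    obtain ⟨n, rfl⟩ := mem_zpowers_iff.1 hw
    have huJ : u ∈ J := by
      have : u = g * (c ^ n)⁻¹ := by rw [← hg]; group
      rw [this]
      exact J.mul_mem hgJ (J.inv_mem (J.zpow_mem hcJ n))
    have h1 : e ⟨u, huJ⟩ * e ⟨u, huJ⟩ = 1 := by
      apply sl3_a
      intro y hy
      have h2 : ((e.symm y : J) : X) ∈ QQ4 J := by
        rw [mem_QQ4 e]
        refine ⟨(e.symm y).2, ?_⟩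
        have h3 : e.symm y * e.symm y * (e.symm y * e.symm y) = 1 := by
          rw [← map_mul, ← map_mul, hy, map_one]
        exact congrArg Subtype.val h3
      have h3 := hC0Y u hu _ h2
      have h4 : (⟨u, huJ⟩ : J) * e.symm y = e.symm y * ⟨u, huJ⟩ := Subtype.ext h3
      have h5 := congrArg e h4
      rwa [map_mul, map_mul, e.apply_symm_apply] at h5
    have h2 : u * c = c * u := by
      have h3 := sl3_fact9 _ (e ⟨c, hcJ⟩) h1
      rw [← map_mul, ← map_mul] at h3
      exact congrArg Subtype.val (e.injective h3)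
    rw [← hg, mul_assoc, ← mul_assoc c u, ← h2, mul_assoc]
    congr 1
    rw [← zpow_add_one, ← zpow_one_add, add_comm]
  have hsub1 : ((J.subgroupOf Y0)).IsSubnormal := hJ.subgroupOf
  have hsub : ((zpowers c).subgroupOf Y0).IsSubnormal := by
    refine IsSubnormal.step _ (J.subgroupOf Y0) ?_ hsub1 ⟨fun y hy g => ?_⟩
    · intro y hy
      rw [mem_subgroupOf] at hy ⊢
      exact (zpowers_le.2 hcJ) hy
    · rw [mem_subgroupOf, mem_subgroupOf] at hy ⊢
      obtain ⟨n, hn⟩ := mem_zpowers_iff.1 hy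
      have hgJ : ((g : Y0) : X) ∈ J := mem_subgroupOf.1 g.2
      have h1 : Commute ((g : Y0) : X) c := hJY _ hgJ (g : Y0).2
      refine mem_zpowers_iff.2 ⟨n, ?_⟩
      change c ^ n = ((g : Y0) : X) * ((y : Y0) : X) * ((g : Y0) : X)⁻¹
      rw [← hn, (h1.zpow_right n).eq, mul_inv_cancel_right]
  have hcp : IsPGroup 3 ((zpowers c).subgroupOf Y0) := by
    refine IsPGroup.comap_of_injective ?_ Y0.subtype Y0.subtype_injective
    exact IsPGroup.of_card (n := 1) (by
      rw [Nat.card_zpowers, pow_one]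
      exact orderOf_eq_prime (by rw [pow_succ, sq]; exact hc3) hc1)
  have hcore := Cfsg.Agent.PLocal.SubnormalCore.le_pCore_of_isSubnormal hsub hcp
  have hcE : (⟨c, hcY0⟩ : Y0) ∈ pCore 3 Y0 := hcore (mem_subgroupOf.2 (mem_zpowers c))
  have hEp : IsPGroup 3 (pCore 3 Y0) := Cfsg.Agent.PLocal.PConstrained.isPGroup_pCore 3 Y0
  have hEn : (pCore 3 Y0).Normal := inferInstance
  set E3 : Subgroup X := (pCore 3 Y0).map Y0.subtype with hE3
  have hE3p : IsPGroup 3 E3 := hEp.map _
  have hzY : z ∈ Y0 := mem_sup_left hzC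
  have hE3n : ∀ g ∈ Y0, ∀ d ∈ E3, g * d * g⁻¹ ∈ E3 := by
    rintro g hg _ ⟨d, hd, rfl⟩
    exact ⟨⟨g, hg⟩ * d * ⟨g, hg⟩⁻¹, hEn.conj_mem d hd ⟨g, hg⟩, rfl⟩
  have hcE3 : c ∈ E3 := ⟨⟨c, hcY0⟩, hcE, rfl⟩
  have hD3p : IsPGroup 3 (E3 ⊓ C0 : Subgroup X) := hE3p.to_le inf_le_left
  have f2 : Fact (Nat.Prime 2) := ⟨Nat.prime_two⟩
  obtain ⟨d, hd, hzd⟩ := Cfsg.Agent.SignalizersComponents.CoprimeBasic.exists_fixed_in_coset_of_pow (p := 2) z 1
    (by rw [pow_one, sq, hz2]) (E3 ⊓ C0) (by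
      obtain ⟨n, hn⟩ := IsPGroup.iff_card.1 hD3p
      rw [hn]
      intro h
      have := (Nat.prime_dvd_prime_iff_eq Nat.prime_two f3.out).1 (Nat.prime_two.dvd_of_dvd_pow h)
      omega) (fun d hd => ⟨hE3n z hzY d hd.1, hC0n.conj_mem d hd.2 z⟩) c (by
      refine ⟨E3.mul_mem (E3.inv_mem hcE3) (hE3n z hzY c hcE3), ?_⟩
      have : c⁻¹ * (z * c * z⁻¹) = (c⁻¹ * z * c⁻¹⁻¹) * z⁻¹ := by group
      rw [this]
      exact C0.mul_mem (hC0n.conj_mem z hzC c⁻¹) (C0.inv_mem hzC))
  have hodd : ¬ 2 ∣ orderOf (c * d) := by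
    obtain ⟨n, hn⟩ := (IsPGroup.iff_orderOf.1 hE3p) ⟨c * d, E3.mul_mem hcE3 hd.1⟩
    rw [Subgroup.orderOf_mk] at hn
    rw [hn]
    intro h
    have := (Nat.prime_dvd_prime_iff_eq Nat.prime_two f3.out).1 (Nat.prime_two.dvd_of_dvd_pow h)
    omega
  have hconj : ∀ y ∈ QQ4 J, c * d * y * (c * d)⁻¹ = c * y * c⁻¹ := by
    intro y hy
    have h1 := hC0Y d hd.2 y hy
    have h2 : c * d * y * (c * d)⁻¹ = c * (d * y) * d⁻¹ * c⁻¹ := by group
    rw [h2, h1]
    group
  have hfin : ∀ y ∈ QQ4 J, c * y = y * c := by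
    intro y hy
    have h1 := hNC.comm' (Y := QQ4 J) (fun w hw => mem_centralizer_singleton_iff.2 (hz w (hYc hw)).symm) hYp
      (x := c * d) (mem_centralizer_singleton_iff.2 hzd.symm) hodd
      (fun w hw => by rw [hconj w hw]; exact hYn c hcJ w hw) hy
    have h2 := hconj y hy
    rw [h1, mul_inv_cancel_right, eq_comm, mul_inv_eq_iff_eq_mul] at h2
    exact h2
  obtain ⟨a, ha, b, hb, hab⟩ := nonabelian e
  have htriv : ∀ y ∈ QQ4 J, y = 1 := by
    intro y hy
    obtain ⟨u, hu, v, hv, h1⟩ := exists_comm e hcJ hc3 hc1 hy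
    have h2 : u * c * u⁻¹ * c⁻¹ = 1 := by rw [← hfin u hu]; group
    have h3 : v * c * v⁻¹ * c⁻¹ = 1 := by rw [← hfin v hv]; group
    rw [h1, h2, h3, one_mul]
  exact hab (by rw [htriv a ha, htriv b hb])

end three

/-! ### the statement -/

theorem not_long {S : Type u} [Group S] [Finite S] (h : Loc S) {q : ℕ} :
    ¬ Cfsg.Agent.OddHalf.LongSL.HasLong q S := by
  rintro ⟨j, J, hj, hjJ, hJD, hsub, F, i1, i2, hF, ho, ⟨e⟩⟩
  rw [← hF] at ho
  have f2 : Fact (Nat.Prime 2) := ⟨Nat.prime_two⟩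
  set D : Subgroup S := centralizer ({j} : Set S) with hD
  -- an involution commuting with a given Sylow `2`-subgroup of `D`
  have hP : ∀ P : Sylow 2 D, ∃ z : D, z * z = 1 ∧ (∀ y ∈ P, z * y = y * z) ∧ NC (centralizer ({z} : Set D)) := by
    intro P
    obtain ⟨z0, Q, hz0, hz0Q, hcomm, hNC⟩ := h.exists_z
    obtain ⟨Q', hQ'⟩ := (P.isPGroup'.map D.subtype).exists_le_sylow
    obtain ⟨g, hg⟩ := MulAction.exists_smul_eq S Q Q'
    have hjP : (⟨j, hJD hjJ⟩ : D) ∈ (P : Subgroup D) := by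
      have h1 : zpowers (⟨j, hJD hjJ⟩ : D) ≤ pCore 2 D := by
        apply Cfsg.Agent.PLocal.SubnormalCore.le_pCore_of_isSubnormal
        · have hn : (zpowers (⟨j, hJD hjJ⟩ : D)).Normal := by
            refine ⟨fun x hx g => ?_⟩
            obtain ⟨n, rfl⟩ := mem_zpowers_iff.1 hx
            have h2 : Commute g (⟨j, hJD hjJ⟩ : D) := Subtype.ext (mem_centralizer_singleton_iff.1 g.2)
            rw [(h2.zpow_right n).eq, mul_inv_cancel_right]
            exact mem_zpowers_iff.2 ⟨n, rfl⟩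
          exact hn.isSubnormal
        · exact IsPGroup.of_card (n := 1) (by rw [Nat.card_zpowers, Subgroup.orderOf_mk, hj, pow_one])
      exact Cfsg.Agent.Lib.Cores.pCore_le_sylow P (h1 (mem_zpowers _))
    have hQcomm : ∀ y ∈ Q', (g * z0 * g⁻¹) * y = y * (g * z0 * g⁻¹) := by
      intro y hy
      have h1 : g⁻¹ * y * g ∈ Q := by
        have h2 : y ∈ (Q' : Subgroup S) := hy
        rw [← hg, Sylow.coe_subgroup_smul, Subgroup.mem_pointwise_smul_iff_inv_smul_mem] at h2
        have h3 : ((MulAut.conj g)⁻¹ • y : S) = g⁻¹ * y * g := by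
          change (MulAut.conj g)⁻¹ y = _
          rw [← map_inv, MulAut.conj_apply, inv_inv]
        rw [h3] at h2
        exact h2
      have h2 := hcomm _ h1
      calc (g * z0 * g⁻¹) * y = g * (z0 * (g⁻¹ * y * g)) * g⁻¹ := by group
        _ = g * ((g⁻¹ * y * g) * z0) * g⁻¹ := by rw [h2]
        _ = _ := by group
    have hzD : g * z0 * g⁻¹ ∈ D := by
      rw [hD, mem_centralizer_singleton_iff]
      exact hQcomm j (hQ' ⟨⟨j, hJD hjJ⟩, hjP, rfl⟩)
    have hNC' : NC (centralizer ({g * z0 * g⁻¹} : Set S)) := by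
      have h1 : (centralizer ({z0} : Set S)).map (MulAut.conj g).toMonoidHom = centralizer ({g * z0 * g⁻¹} : Set S) := by
        ext y
        rw [mem_map_equiv, mem_centralizer_singleton_iff, mem_centralizer_singleton_iff]
        change (MulAut.conj g).symm y * z0 = z0 * (MulAut.conj g).symm y ↔ _
        rw [MulAut.conj_symm_apply]
        constructor
        · intro h2
          calc y * (g * z0 * g⁻¹) = g * ((g⁻¹ * y * g) * z0) * g⁻¹ := by group
            _ = g * (z0 * (g⁻¹ * y * g)) * g⁻¹ := by rw [h2]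
            _ = _ := by group
        · intro h2
          calc g⁻¹ * y * g * z0 = g⁻¹ * (y * (g * z0 * g⁻¹)) * g := by group
            _ = g⁻¹ * (g * z0 * g⁻¹ * y) * g := by rw [h2]
            _ = _ := by group
      rw [← h1]
      exact (NC.congr ((centralizer ({z0} : Set S)).equivMapOfInjective _ (MulAut.conj g).injective)).1 hNC
    refine ⟨⟨g * z0 * g⁻¹, hzD⟩, ?_, ?_, ?_⟩
    · apply Subtype.ext
      change g * z0 * g⁻¹ * (g * z0 * g⁻¹) = 1
      have h1 : z0 * z0 = 1 := by rw [← sq, ← hz0, pow_orderOf_eq_one]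
      have h2 : g * z0 * g⁻¹ * (g * z0 * g⁻¹) = g * (z0 * z0) * g⁻¹ := by group
      rw [h2, h1]
      group
    · intro y hy
      exact Subtype.ext (hQcomm y (hQ' ⟨y, hy, rfl⟩))
    · let f : ↥(centralizer ({(⟨g * z0 * g⁻¹, hzD⟩ : D)} : Set D)) →* ↥(centralizer ({g * z0 * g⁻¹} : Set S)) :=
        (D.subtype.comp (centralizer ({(⟨g * z0 * g⁻¹, hzD⟩ : D)} : Set D)).subtype).codRestrict _ (by
          rintro ⟨x, hx⟩
          rw [mem_centralizer_singleton_iff] at hx ⊢
          exact congrArg Subtype.val hx)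
      refine NC.of_injective f ?_ hNC'
      intro a b hab
      apply Subtype.ext
      apply Subtype.ext
      exact congrArg (fun x : ↥(centralizer ({g * z0 * g⁻¹} : Set S)) => (x : S)) hab
  set e' : J.subgroupOf D ≃* Matrix.SpecialLinearGroup (Fin 2) F := (subgroupOfEquivOfLe hJD).trans e with he'
  by_cases h3 : Fintype.card F = 3
  · obtain ⟨f⟩ := equiv_S3 h3
    obtain ⟨z, hz2, hz, hNC⟩ := hP default
    exact core_three hsub (e'.trans f) hz2
      (fun y hy => hz y (Cfsg.Agent.Lib.Cores.pCore_le_sylow (default : Sylow 2 D) hy)) hNC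
  · have h2 : (2 : F) ≠ 0 := Cfsg.Agent.OddHalf.LongSL.two_ne_of_odd ho
    obtain ⟨a, b, hab⟩ := Cfsg.Agent.ClassicalGeometry.QuatPair.exists_sq_add_sq_eq_neg_one h2
    obtain ⟨i, k, x, hi, hk, hik, hx, hxi, hxk, hc⟩ := exists_ikx h2 hab
    have hco : ∀ g h : Matrix.SpecialLinearGroup (Fin 2) F,
        ((e'.symm (g * h) : J.subgroupOf D) : D) = e'.symm g * e'.symm h := by
      intro g h
      rw [map_mul]; rfl
    have hp : IsPGroup 2 (zpowers (e'.symm i : D) ⊔ zpowers (e'.symm k : D) : Subgroup D) := by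
      refine isPGroup_ik (m := e'.symm (-1)) ?_ ?_ ?_ ?_ ?_
      · rw [← hco, hi]
      · rw [← hco, hk]
      · rw [← hco, neg_one_mul, neg_neg, map_one]; rfl
      · rw [← hco, ← hco, neg_one_mul, mul_neg_one]
      · rw [← hco, ← hco, ← hco, hik, neg_one_mul]
    obtain ⟨P, hP1⟩ := hp.exists_le_sylow
    obtain ⟨z, hz2, hz, hNC⟩ := hP P
    exact core_ne ho h3 hsub e' hi hk hik hx hxi hxk hc (hz _ (hP1 (mem_sup_left (mem_zpowers _))))
      (hz _ (hP1 (mem_sup_right (mem_zpowers _)))) hNC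

end Cfsg.Agent.H559.NotLong
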