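import Cfsg.Agent.H436.KFourEx
import Cfsg.Agent.H436.PslTwo

/-!
# Known simple groups all of whose prime divisors are small (helper559)

`smooth_list` : `S` a named nonabelian known simple group (`H436.IsNamed`), all prime divisors of `|S|` in the list
`ps` of primes, all of them `≤ B`, `N` a prime outside `ps`: then the name is in the explicit finite list
`(cand ps B N).filter (sm ps ∘ ordN)`, which `decide` can evaluate.

`eleven` : the instance `B = 11` (all prime divisors `≤ 11`).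
-/

set_option autoImplicit false

namespace Cfsg.Agent.H559.PrimesLe

open Cfsg Cfsg.Agent.OrdDiv Cfsg.Agent.H436

universe u

theorem ble_of {a b : ℕ} (h : a ≤ b) : Nat.ble a b = true := by rw [Nat.ble_eq]; exact h

theorem beq_of {a b : ℕ} (h : a = b) : Nat.beq a b = true := by rw [Nat.beq_eq]; exact h

/-! ### primitive primes are large -/

theorem Prim.pow {p f e r : ℕ} (hf : 0 < f) (h : Prim p (f * e) r) : Prim (p ^ f) e r where
  prime := h.prime
  dvd_iff m := by
    rw [← pow_mul, h.dvd_iff]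
    exact ⟨fun hd => Nat.dvd_of_mul_dvd_mul_left hf hd, fun hd => Nat.mul_dvd_mul_left f hd⟩
  not_dvd hd := h.not_dvd (h.prime.dvd_of_dvd_pow hd)

/-- a primitive prime for the exponent `e` is `≥ e + 1` -/
theorem Prim.lt {q e r : ℕ} (h : Prim q e r) : e + 1 ≤ r := by
  have : Fact r.Prime := ⟨h.prime⟩
  have h1 : r ∣ q ^ (r - 1) - 1 := by
    have h2 : (q : ZMod r) ≠ 0 := by
      intro h0
      exact h.not_dvd ((ZMod.natCast_eq_zero_iff q r).1 h0)
    have h3 := ZMod.pow_card_sub_one_eq_one h2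
    have hq : 1 ≤ q ^ (r - 1) := Nat.one_le_pow _ _ (Nat.pos_of_ne_zero (by
      rintro rfl
      exact h.not_dvd (dvd_zero r)))
    rw [← ZMod.natCast_eq_zero_iff, Nat.cast_sub hq, Nat.cast_pow, h3, Nat.cast_one, sub_self]
  have h2 := (h.dvd_iff (r - 1)).1 h1
  have h3 := Nat.le_of_dvd (by have := h.prime.two_le; omega) h2
  have := h.prime.two_le
  omega

/-- bound for the exponent -/
theorem bound {p f e c B : ℕ} (hp : p.Prime) (hB : 7 ≤ B)
    (hd : ∀ r, Prim p (f * e) r → r ∣ c) (hc : ∀ r, r.Prime → r ∣ c → r ≤ B) : f * e ≤ B - 1 := by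
  by_cases h3 : 3 ≤ f * e
  · by_cases h6 : p = 2 ∧ f * e = 6
    · omega
    · obtain ⟨r, hr⟩ := exists_prim hp.two_le h3 h6
      have h1 := hc r hr.prime (hd r hr)
      have h2 := Prim.lt hr
      omega
  · omega

/-! ### smoothness of explicit numbers -/

/-- `N` divides a power of the product of `ps` -/
def sm (ps : List ℕ) (N : ℕ) : Bool := Nat.beq (ps.prod ^ (Nat.log2 N + 1) % N) 0

theorem sm_of {ps : List ℕ} {N : ℕ} (hN : N ≠ 0) (h : ∀ r, r.Prime → r ∣ N → r ∈ ps) : sm ps N = true := by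
  unfold sm
  rw [Nat.beq_eq]
  apply Nat.mod_eq_zero_of_dvd
  rw [Nat.dvd_iff_prime_pow_dvd_dvd]
  intro p k hp hk
  rcases Nat.eq_zero_or_pos k with rfl | hk0
  · rw [pow_zero]; exact one_dvd _
  have h1 : p ∣ ps.prod := List.dvd_prod (h p hp ((dvd_pow_self p hk0.ne').trans hk))
  have h2 : k ≤ Nat.log2 N + 1 := by
    have h3 : 2 ^ k ≤ N := (Nat.pow_le_pow_left hp.two_le k).trans (Nat.le_of_dvd (Nat.pos_of_ne_zero hN) hk)
    have h4 := (Nat.le_log2 hN).2 h3
    omega
  exact (pow_dvd_pow_of_dvd h1 k).trans (pow_dvd_pow _ h2)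

/-! ### the candidates -/

/-- candidates in the families for `q = p ^ f` -/
def candQ (B p f : ℕ) : List Grp :=
  let q := p ^ f
  ((List.range (B + 1)).filter fun n => Nat.ble 2 n && Nat.ble (f * n) (B - 1)).map (fun n => Grp.psl n q) ++
  (((List.range (B + 1)).filter fun n => Nat.ble 2 n && Nat.ble (f * (2 * n)) (B - 1)).map fun n => Grp.psp n q) ++
  (((List.range (B + 1)).filter fun n => Nat.ble 3 n && Nat.ble (f * (2 * n)) (B - 1)).map fun n => Grp.oodd n q) ++
  (((List.range (B + 1)).filter fun n => Nat.ble 4 n && Nat.ble (f * (2 * (n - 1))) (B - 1)).map fun n =>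
    Grp.oplus n q) ++
  (((List.range (B + 1)).filter fun n => Nat.ble 4 n && Nat.ble (f * (2 * (n - 1))) (B - 1)).map fun n =>
    Grp.ominus n q) ++
  (((List.range (B + 1)).filter fun n => Nat.ble 3 n && Nat.ble (f * (2 * (n - 1))) (B - 1)).map fun n =>
    Grp.psu n q) ++
  (if Nat.ble (f * 6) (B - 1) then [Grp.g2 q] else []) ++
  (if Nat.ble (f * 12) (B - 1) then [Grp.f4 q, Grp.e6 q, Grp.te6 q, Grp.td4 q] else []) ++
  (if Nat.ble (f * 18) (B - 1) then [Grp.e7 q] else []) ++
  (if Nat.ble (f * 30) (B - 1) then [Grp.e8 q] else []) ++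
  (if Nat.beq p 2 && Nat.beq (f % 2) 1 && Nat.ble 3 f && Nat.ble (f * 4) (B - 1) then [Grp.sz q] else []) ++
  (if Nat.beq p 3 && Nat.beq (f % 2) 1 && Nat.ble 3 f && Nat.ble (f * 6) (B - 1) then [Grp.ree q] else []) ++
  (if Nat.beq p 2 && Nat.beq (f % 2) 1 && Nat.ble 3 f && Nat.ble (f * 12) (B - 1) then [Grp.tf4 q] else [])

/-- all candidates -/
def cand (ps : List ℕ) (B N : ℕ) : List Grp :=
  ((List.range N).filter fun n => Nat.ble 5 n).map Grp.alt ++
  spor.map (fun x => x.1) ++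
  (ps.flatMap fun p => ((List.range B).filter fun f => Nat.ble 1 f).flatMap fun f => candQ B p f)

theorem mem_cand_of {ps : List ℕ} {B N p f : ℕ} (hp : p ∈ ps) (hf : 1 ≤ f) (hfB : f ≤ B - 1) (hB : 7 ≤ B) {g : Grp}
    (hg : g ∈ candQ B p f) : g ∈ cand ps B N := by
  unfold cand
  rw [List.mem_append]
  right
  rw [List.mem_flatMap]
  refine ⟨p, hp, ?_⟩
  rw [List.mem_flatMap]
  refine ⟨f, ?_, hg⟩
  rw [List.mem_filter]
  exact ⟨List.mem_range.2 (by omega), ble_of hf⟩

theorem f_le {f e B : ℕ} (he : 1 ≤ e) (h : f * e ≤ B - 1) : f ≤ B - 1 :=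
  (Nat.le_mul_of_pos_right f he).trans h

theorem n_lt {f n B : ℕ} (hf : 1 ≤ f) (hB : 1 ≤ B) (h : f * n ≤ B - 1) : n < B + 1 := by
  have := (Nat.le_mul_of_pos_left n hf).trans h
  omega

/-- `psu n q`: a primitive prime of `q ^ (2 (n - 1)) - 1` (`n` even) or `q ^ (2 n) - 1` (`n` odd) divides the order;
in both cases one of `q ^ e - 1` with `e ≥ 2 (n - 1)` -/
theorem psu_bound {p f n c B : ℕ} (hp : p.Prime) (hf : 1 ≤ f) (hn : 3 ≤ n) (hB : 7 ≤ B)
    (he : den (.psu n (p ^ f)) * c = num (.psu n (p ^ f))) (hc : ∀ r, r.Prime → r ∣ c → r ≤ B) :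
    f * (2 * (n - 1)) ≤ B - 1 := by
  have hUe : ∀ q m : ℕ, m % 2 = 0 → fU q m = q ^ (m + 1) + 1 := by
    intro q m hm
    unfold fU
    rw [if_pos (beq_of hm)]
  rcases Nat.mod_two_eq_zero_or_one n with h2 | h2
  · refine bound (c := c) hp hB (fun r hr => ?_) hc
    refine psu_prim_aux (i := n - 2) (e := 2 * (n - 1)) (by omega) (by omega) he (Prim.pow hf hr) ?_
    rw [hUe _ _ (by omega), show n - 2 + 1 = n - 1 by omega]
    refine (Prim.pow hf hr).dvd_add dvd_rfl ?_
    intro hd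
    have := Nat.le_of_dvd (by omega) hd
    omega
  · have h3 : f * (2 * n) ≤ B - 1 := by
      refine bound (c := c) hp hB (fun r hr => ?_) hc
      refine psu_prim_aux (i := n - 1) (e := 2 * n) (by omega) (by omega) he (Prim.pow hf hr) ?_
      rw [hUe _ _ (by omega), show n - 1 + 1 = n by omega]
      refine (Prim.pow hf hr).dvd_add dvd_rfl ?_
      intro hd
      have := Nat.le_of_dvd (by omega) hd
      omega
    exact (Nat.mul_le_mul_left f (by omega)).trans h3

theorem psl_bound {p f n c B : ℕ} (hp : p.Prime) (hf : 1 ≤ f) (hn : 2 ≤ n) (hB : 7 ≤ B)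
    (he : den (.psl n (p ^ f)) * c = num (.psl n (p ^ f))) (hc : ∀ r, r.Prime → r ∣ c → r ≤ B) :
    f * n ≤ B - 1 := by
  rcases Nat.lt_or_ge n 3 with h3 | h3
  · obtain rfl : n = 2 := by omega
    by_cases h2f : f * 2 < 3
    · omega
    have hq2 : 2 ≤ p ^ f := by
      calc 2 ≤ p := hp.two_le
        _ = p ^ 1 := (pow_one p).symm
        _ ≤ p ^ f := Nat.pow_le_pow_right hp.pos hf
    refine bound (c := c) hp hB (fun r hr => ?_) hc
    have h1 : r ∣ p ^ f * ((p ^ f) ^ 2 - 1) := hr.dvd_mq (by rw [mul_comm])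
    rw [← psl_two_eq hq2 he] at h1
    refine (hr.prime.dvd_mul.1 h1).resolve_left ?_
    intro h4
    have h5 := (Nat.prime_dvd_prime_iff_eq hr.prime Nat.prime_two).1 (h4.trans (Nat.gcd_dvd_left _ _))
    have h6 := Prim.lt hr
    omega
  · exact bound (c := c) hp hB (fun r hr => psl_prim le_rfl h3 he (Prim.pow hf hr)) hc

/-- **Names of simple groups whose order has only prime divisors in `ps`.** -/
theorem mem_cand {S : Type u} [Group S] [Finite S] {g : Grp} (h : IsNamed g S) {ps : List ℕ} {B N : ℕ} (hB : 7 ≤ B)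
    (hps : ∀ p ∈ ps, p ≤ B) (hN : N.Prime) (hNps : N ∉ ps) (hS : ∀ r, r.Prime → r ∣ Nat.card S → r ∈ ps) :
    g ∈ cand ps B N := by
  have hc : Nat.card S ≠ 0 := Nat.card_pos.ne'
  have he := h.eq
  have hg := h.cond
  have hle : ∀ r, r.Prime → r ∣ Nat.card S → r ≤ B := fun r hr hd => hps r (hS r hr hd)
  have hspor : ∀ x : Grp × ℕ, x ∈ spor → x.1 = g → g ∈ cand ps B N := by
    rintro x hx rfl
    unfold cand
    rw [List.mem_append, List.mem_append]
    exact Or.inl (Or.inr (List.mem_map.2 ⟨x, hx, rfl⟩))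
  -- the characteristic divides the order
  have hmq : ∀ p f : ℕ, p.Prime → 1 ≤ f → (p ^ f) * ((p ^ f) ^ 2 - 1) ∣ Nat.card S → p ∈ ps := fun p f hp hf hd =>
    hS p hp (((dvd_pow_self p (by omega)).trans (Dvd.intro _ rfl)).trans hd)
  have hpr : ∀ q : ℕ, IsPrimePow q → ∃ p f : ℕ, p.Prime ∧ 1 ≤ f ∧ q = p ^ f := by
    intro q hq
    obtain ⟨p, f, hp, hf, rfl⟩ := (isPrimePow_nat_iff q).1 hq
    exact ⟨p, f, hp, hf, rfl⟩
  -- exceptional groups
  have key : ∀ (p f e : ℕ), p.Prime → 1 ≤ f → 1 ≤ e → (∀ r, Prim (p ^ f) e r → r ∣ Nat.card S) → f * e ≤ B - 1 :=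
    fun p f e hp hf he' hd => bound (c := Nat.card S) hp hB (fun r hr => hd r (Prim.pow hf hr)) hle
  cases g with
  | alt n =>
    have hn : 5 ≤ n := hg
    have h1 : 2 * Nat.card S = n.factorial := he
    have h2 : n < N := by
      by_contra hlt
      have h3 : N ∣ 2 * Nat.card S := h1 ▸ Nat.dvd_factorial hN.pos (by omega)
      rcases hN.dvd_mul.1 h3 with h4 | h4
      · have h5 := (Nat.prime_dvd_prime_iff_eq hN Nat.prime_two).1 h4
        apply hNps
        rw [h5]
        refine hS 2 Nat.prime_two ?_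
        have h6 : 4 ∣ n.factorial := (show 4 ∣ Nat.factorial 4 by decide).trans
          (Nat.factorial_dvd_factorial (by omega))
        rw [← h1] at h6
        omega
      · exact hNps (hS N hN h4)
    unfold cand
    rw [List.mem_append, List.mem_append]
    refine Or.inl (Or.inl (List.mem_map.2 ⟨n, List.mem_filter.2 ⟨List.mem_range.2 h2, ble_of hn⟩, rfl⟩))
  | psl n q =>
    obtain ⟨hn, -, hq⟩ := hg
    obtain ⟨p, f, hp, hf, rfl⟩ := hpr q hq
    have hb := psl_bound hp hf hn hB he hle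
    have hpps : p ∈ ps := by
      rcases Nat.lt_or_ge n 3 with h3 | h3
      · obtain rfl : n = 2 := by omega
        have h5 := psl_two_factors hq.two_le he
        have h6 : p ∈ (p ^ f * ((p ^ f) ^ 2 - 1)).primeFactors :=
          Nat.mem_primeFactors.2 ⟨hp, (dvd_pow_self p (by omega)).mul_right _, mq_ne_zero hq.two_le⟩
        rw [← h5] at h6
        exact hS p hp (Nat.dvd_of_mem_primeFactors h6)
      · exact hmq p f hp hf (psl_mq h3 hq.two_le he)
    refine mem_cand_of hpps hf (f_le (by omega) hb) hB ?_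
    unfold candQ
    simp only [List.mem_append, List.mem_map, List.mem_filter, List.mem_range, Bool.and_eq_true, Nat.ble_eq]
    iterate 12 left
    exact ⟨n, ⟨n_lt hf (by omega) hb, hn, hb⟩, rfl⟩
  | psp n q =>
    obtain ⟨hn, -, hq⟩ := hg
    obtain ⟨p, f, hp, hf, rfl⟩ := hpr q hq
    have hb := key p f (2 * n) hp hf (by omega) fun r hr =>
      psp_prim n (by omega) le_rfl dvd_rfl (by omega) he hr
    refine mem_cand_of (hmq p f hp hf (psp_mq hn he)) hf (f_le (by omega) hb) hB ?_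
    unfold candQ
    simp only [List.mem_append, List.mem_map, List.mem_filter, List.mem_range, Bool.and_eq_true, Nat.ble_eq]
    iterate 11 left
    right
    have := n_lt hf (by omega) hb
    exact ⟨n, ⟨by omega, hn, hb⟩, rfl⟩
  | oodd n q =>
    obtain ⟨hn, ho, hq⟩ := hg
    obtain ⟨p, f, hp, hf, rfl⟩ := hpr q hq
    have hb := key p f (2 * n) hp hf (by omega) fun r hr =>
      oodd_prim n (by omega) le_rfl dvd_rfl (by omega) he hr
    refine mem_cand_of (hmq p f hp hf (oodd_mq (by omega) ho he)) hf (f_le (by omega) hb) hB ?_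
    unfold candQ
    simp only [List.mem_append, List.mem_map, List.mem_filter, List.mem_range, Bool.and_eq_true, Nat.ble_eq]
    iterate 10 left
    right
    have := n_lt hf (by omega) hb
    exact ⟨n, ⟨by omega, hn, hb⟩, rfl⟩
  | oplus n q =>
    obtain ⟨hn, hq⟩ := hg
    obtain ⟨p, f, hp, hf, rfl⟩ := hpr q hq
    have hb := key p f (2 * (n - 1)) hp hf (by omega) fun r hr =>
      oplus_prim (n - 1) (by omega) le_rfl dvd_rfl (by omega) he hr
    refine mem_cand_of (hmq p f hp hf (oplus_mq hn he)) hf (f_le (by omega) hb) hB ?_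
    unfold candQ
    simp only [List.mem_append, List.mem_map, List.mem_filter, List.mem_range, Bool.and_eq_true, Nat.ble_eq]
    iterate 9 left
    right
    have := n_lt hf (by omega) hb
    exact ⟨n, ⟨by omega, hn, hb⟩, rfl⟩
  | ominus n q =>
    obtain ⟨hn, hq⟩ := hg
    obtain ⟨p, f, hp, hf, rfl⟩ := hpr q hq
    have hb := key p f (2 * (n - 1)) hp hf (by omega) fun r hr =>
      ominus_prim (n - 1) (by omega) le_rfl dvd_rfl (by omega) he hr
    refine mem_cand_of (hmq p f hp hf (ominus_mq hn he)) hf (f_le (by omega) hb) hB ?_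
    unfold candQ
    simp only [List.mem_append, List.mem_map, List.mem_filter, List.mem_range, Bool.and_eq_true, Nat.ble_eq]
    iterate 8 left
    right
    have := n_lt hf (by omega) hb
    exact ⟨n, ⟨by omega, hn, hb⟩, rfl⟩
  | psu n q =>
    obtain ⟨hn, -, hq⟩ := hg
    obtain ⟨p, f, hp, hf, rfl⟩ := hpr q hq
    have hb := psu_bound hp hf hn hB he hle
    refine mem_cand_of (hmq p f hp hf (psu_mq hn he)) hf (f_le (by omega) hb) hB ?_
    unfold candQ
    simp only [List.mem_append, List.mem_map, List.mem_filter, List.mem_range, Bool.and_eq_true, Nat.ble_eq]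
    iterate 7 left
    right
    have := n_lt hf (by omega) hb
    exact ⟨n, ⟨by omega, hn, hb⟩, rfl⟩
  | g2 q =>
    obtain ⟨hq3, hq⟩ := hg
    obtain ⟨p, f, hp, hf, rfl⟩ := hpr q hq
    have h1 : 1 * Nat.card S = (p ^ f) ^ 6 * (((p ^ f) ^ 2 - 1) * ((p ^ f) ^ 6 - 1)) := he
    have hm : p ^ f * ((p ^ f) ^ 2 - 1) ∣ Nat.card S := mq_dvd (B := 1) h1 one_pos (dvd_pow_self _ (by norm_num))
      (by rw [mul_one]; exact Dvd.intro _ rfl) dvd_rfl
    have hb := key p f 6 hp hf (by norm_num) fun r hr => by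
      rw [one_mul] at h1; rw [h1]
      exact ((hr.dvd dvd_rfl).mul_left _).mul_left _
    refine mem_cand_of (hmq p f hp hf hm) hf (f_le (by omega) hb) hB ?_
    unfold candQ
    simp only [List.mem_append]
    iterate 6 left
    right
    rw [if_pos (ble_of hb)]
    exact List.mem_singleton.2 rfl
  | f4 q =>
    obtain ⟨p, f, hp, hf, rfl⟩ := hpr q hg
    have h1 : 1 * Nat.card S = (p ^ f) ^ 24 * (((p ^ f) ^ 2 - 1) * ((p ^ f) ^ 6 - 1) * ((p ^ f) ^ 8 - 1) *
      ((p ^ f) ^ 12 - 1)) := he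
    have hm : p ^ f * ((p ^ f) ^ 2 - 1) ∣ Nat.card S := mq_dvd (B := 1) h1 one_pos (dvd_pow_self _ (by norm_num))
      (by rw [mul_one]; exact (((dvd_refl _).mul_right _).mul_right _).mul_right _) dvd_rfl
    have hb := key p f 12 hp hf (by norm_num) fun r hr => by
      rw [one_mul] at h1; rw [h1]
      exact ((hr.dvd dvd_rfl).mul_left _).mul_left _
    refine mem_cand_of (hmq p f hp hf hm) hf (f_le (by omega) hb) hB ?_
    unfold candQ
    simp only [List.mem_append]
    iterate 5 left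
    right
    rw [if_pos (ble_of hb)]
    simp
  | e6 q =>
    obtain ⟨p, f, hp, hf, rfl⟩ := hpr q hg
    have h1 : Nat.gcd 3 (p ^ f - 1) * Nat.card S =
      (p ^ f) ^ 36 * (((p ^ f) ^ 2 - 1) * ((p ^ f) ^ 5 - 1) * ((p ^ f) ^ 6 - 1) * ((p ^ f) ^ 8 - 1) *
        ((p ^ f) ^ 9 - 1) * ((p ^ f) ^ 12 - 1)) := he
    have hm : p ^ f * ((p ^ f) ^ 2 - 1) ∣ Nat.card S :=
      mq_dvd (B := (p ^ f) ^ 5 - 1) h1 (Nat.gcd_pos_of_pos_left _ (by norm_num))
        (dvd_pow_self _ (by norm_num)) ((((dvd_refl _).mul_right _).mul_right _).mul_right _ |>.mul_right _)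
        ((Nat.gcd_dvd_right _ _).trans (sub_dvd_pow_sub _ 5))
    have hb := key p f 12 hp hf (by norm_num) fun r hr =>
      hr.dvd_of_eq h1 (((hr.dvd (m := 12) (by norm_num)).mul_left _).mul_left _) (hr.not_dvd_gcd_sub (by norm_num))
    refine mem_cand_of (hmq p f hp hf hm) hf (f_le (by omega) hb) hB ?_
    unfold candQ
    simp only [List.mem_append]
    iterate 5 left
    right
    rw [if_pos (ble_of hb)]
    simp
  | e7 q =>
    obtain ⟨p, f, hp, hf, rfl⟩ := hpr q hg
    have h1 : Nat.gcd 2 (p ^ f - 1) * Nat.card S =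
      (p ^ f) ^ 63 * (((p ^ f) ^ 2 - 1) * ((p ^ f) ^ 6 - 1) * ((p ^ f) ^ 8 - 1) * ((p ^ f) ^ 10 - 1) *
        ((p ^ f) ^ 12 - 1) * ((p ^ f) ^ 14 - 1) * ((p ^ f) ^ 18 - 1)) := he
    have hm : p ^ f * ((p ^ f) ^ 2 - 1) ∣ Nat.card S :=
      mq_dvd (B := (p ^ f) ^ 6 - 1) h1 (Nat.gcd_pos_of_pos_left _ (by norm_num))
        (dvd_pow_self _ (by norm_num))
        (((((dvd_refl _).mul_right _).mul_right _).mul_right _ |>.mul_right _).mul_right _)
        ((Nat.gcd_dvd_right _ _).trans (sub_dvd_pow_sub _ 6))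
    have hb := key p f 18 hp hf (by norm_num) fun r hr =>
      hr.dvd_of_eq h1 (((hr.dvd (m := 18) (by norm_num)).mul_left _).mul_left _) (hr.not_dvd_gcd_sub (by norm_num))
    refine mem_cand_of (hmq p f hp hf hm) hf (f_le (by omega) hb) hB ?_
    unfold candQ
    simp only [List.mem_append]
    iterate 4 left
    right
    rw [if_pos (ble_of hb)]
    exact List.mem_singleton.2 rfl
  | e8 q =>
    obtain ⟨p, f, hp, hf, rfl⟩ := hpr q hg
    have h1 : 1 * Nat.card S =
      (p ^ f) ^ 120 * (((p ^ f) ^ 2 - 1) * ((p ^ f) ^ 8 - 1) * ((p ^ f) ^ 12 - 1) * ((p ^ f) ^ 14 - 1) *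
        ((p ^ f) ^ 18 - 1) * ((p ^ f) ^ 20 - 1) * ((p ^ f) ^ 24 - 1) * ((p ^ f) ^ 30 - 1)) := he
    have hm : p ^ f * ((p ^ f) ^ 2 - 1) ∣ Nat.card S :=
      mq_dvd (B := 1) h1 one_pos (dvd_pow_self _ (by norm_num))
        (by rw [mul_one]; exact ((((((dvd_refl _).mul_right _).mul_right _).mul_right _).mul_right _).mul_right
          _).mul_right _ |>.mul_right _) dvd_rfl
    have hb := key p f 30 hp hf (by norm_num) fun r hr => by
      rw [one_mul] at h1; rw [h1]
      exact ((hr.dvd dvd_rfl).mul_left _).mul_left _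
    refine mem_cand_of (hmq p f hp hf hm) hf (f_le (by omega) hb) hB ?_
    unfold candQ
    simp only [List.mem_append]
    iterate 3 left
    right
    rw [if_pos (ble_of hb)]
    exact List.mem_singleton.2 rfl
  | te6 q =>
    obtain ⟨p, f, hp, hf, rfl⟩ := hpr q hg
    have h1 : Nat.gcd 3 (p ^ f + 1) * Nat.card S =
      (p ^ f) ^ 36 * (((p ^ f) ^ 2 - 1) * ((p ^ f) ^ 5 + 1) * ((p ^ f) ^ 6 - 1) * ((p ^ f) ^ 8 - 1) *
        ((p ^ f) ^ 9 + 1) * ((p ^ f) ^ 12 - 1)) := he
    have hm : p ^ f * ((p ^ f) ^ 2 - 1) ∣ Nat.card S :=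
      mq_dvd (B := (p ^ f) ^ 5 + 1) h1 (Nat.gcd_pos_of_pos_left _ (by norm_num))
        (dvd_pow_self _ (by norm_num)) ((((dvd_refl _).mul_right _).mul_right _).mul_right _ |>.mul_right _)
        ((Nat.gcd_dvd_right _ _).trans (add_dvd_pow_add _ (by decide)))
    have hb := key p f 12 hp hf (by norm_num) fun r hr =>
      hr.dvd_of_eq h1 (((hr.dvd (m := 12) (by norm_num)).mul_left _).mul_left _) (hr.not_dvd_gcd_add (by norm_num))
    refine mem_cand_of (hmq p f hp hf hm) hf (f_le (by omega) hb) hB ?_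
    unfold candQ
    simp only [List.mem_append]
    iterate 5 left
    right
    rw [if_pos (ble_of hb)]
    simp
  | td4 q =>
    obtain ⟨p, f, hp, hf, rfl⟩ := hpr q hg
    have h1 : 1 * Nat.card S = (p ^ f) ^ 12 * (((p ^ f) ^ 2 - 1) * ((p ^ f) ^ 6 - 1) *
      ((p ^ f) ^ 8 + (p ^ f) ^ 4 + 1)) := he
    have hm : p ^ f * ((p ^ f) ^ 2 - 1) ∣ Nat.card S := mq_dvd (B := 1) h1 one_pos (dvd_pow_self _ (by norm_num))
      (by rw [mul_one]; exact ((dvd_refl _).mul_right _).mul_right _) dvd_rfl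
    have hb := key p f 12 hp hf (by norm_num) fun r hr => by
      rw [one_mul] at h1; rw [h1]
      generalize p ^ f = q at hr ⊢
      have h2 : q ^ 12 - 1 = (q ^ 4 - 1) * (q ^ 8 + q ^ 4 + 1) := by
        have hq1 : 1 ≤ q := Nat.pos_of_ne_zero (by rintro rfl; exact hr.not_dvd (dvd_zero r))
        obtain ⟨k, hk⟩ : ∃ k, q ^ 4 = k + 1 := ⟨q ^ 4 - 1, by have := Nat.one_le_pow 4 q hq1; omega⟩
        have h3 : q ^ 12 = (q ^ 4) ^ 3 := by ring
        have h5 : q ^ 8 = (q ^ 4) ^ 2 := by ring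
        rw [h3, h5, hk, Nat.add_sub_cancel]
        have : (k + 1) ^ 3 = k * ((k + 1) ^ 2 + (k + 1) + 1) + 1 := by ring
        rw [this, Nat.add_sub_cancel]
      have h3 := hr.dvd (m := 12) dvd_rfl
      rw [h2] at h3
      exact (((hr.prime.dvd_mul.1 h3).resolve_left (hr.not_dvd_sub (by norm_num))).mul_left _).mul_left _
    refine mem_cand_of (hmq p f hp hf hm) hf (f_le (by omega) hb) hB ?_
    unfold candQ
    simp only [List.mem_append]
    iterate 5 left
    right
    rw [if_pos (ble_of hb)]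
    simp
  | sz q =>
    obtain ⟨m, hm1, rfl⟩ := hg
    have h1 : 1 * Nat.card S = (2 ^ (2 * m + 1)) ^ 2 * ((2 ^ (2 * m + 1) - 1) * ((2 ^ (2 * m + 1)) ^ 2 + 1)) := he
    rw [one_mul] at h1
    have h2 : 2 ∈ ps := hS 2 Nat.prime_two (by
      rw [h1]
      exact (((dvd_pow_self 2 (by omega)).trans (dvd_pow_self _ (by norm_num)))).mul_right _)
    have hb := key 2 (2 * m + 1) 4 Nat.prime_two (by omega) (by norm_num) fun r hr => by
      rw [h1]
      exact ((hr.dvd_add (m := 2) (by norm_num) (by norm_num)).mul_left _).mul_left _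
    refine mem_cand_of h2 (f := 2 * m + 1) (by omega) (f_le (by omega) hb) hB ?_
    unfold candQ
    simp only [List.mem_append]
    iterate 2 left
    right
    rw [if_pos]
    · exact List.mem_singleton.2 rfl
    · simp only [Bool.and_eq_true, Nat.beq_eq, Nat.ble_eq]
      exact ⟨⟨⟨trivial, by omega⟩, by omega⟩, hb⟩
  | ree q =>
    obtain ⟨m, hm1, rfl⟩ := hg
    have h1 : 1 * Nat.card S = (3 ^ (2 * m + 1)) ^ 3 * ((3 ^ (2 * m + 1) - 1) * ((3 ^ (2 * m + 1)) ^ 3 + 1)) := he
    rw [one_mul] at h1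
    have h2 : 3 ∈ ps := hS 3 Nat.prime_three (by
      rw [h1]
      exact (((dvd_pow_self 3 (by omega)).trans (dvd_pow_self _ (by norm_num)))).mul_right _)
    have hb := key 3 (2 * m + 1) 6 Nat.prime_three (by omega) (by norm_num) fun r hr => by
      rw [h1]
      exact ((hr.dvd_add (m := 3) (by norm_num) (by norm_num)).mul_left _).mul_left _
    refine mem_cand_of h2 (f := 2 * m + 1) (by omega) (f_le (by omega) hb) hB ?_
    unfold candQ
    simp only [List.mem_append]
    left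
    right
    rw [if_pos]
    · exact List.mem_singleton.2 rfl
    · simp only [Bool.and_eq_true, Nat.beq_eq, Nat.ble_eq]
      exact ⟨⟨⟨trivial, by omega⟩, by omega⟩, hb⟩
  | tf4 q =>
    obtain ⟨m, hm1, rfl⟩ := hg
    have h1 : 1 * Nat.card S = (2 ^ (2 * m + 1)) ^ 12 * ((2 ^ (2 * m + 1) - 1) * ((2 ^ (2 * m + 1)) ^ 3 + 1) *
      ((2 ^ (2 * m + 1)) ^ 4 - 1) * ((2 ^ (2 * m + 1)) ^ 6 + 1)) := he
    rw [one_mul] at h1
    have h2 : 2 ∈ ps := hS 2 Nat.prime_two (by
      rw [h1]
      exact (((dvd_pow_self 2 (by omega)).trans (dvd_pow_self _ (by norm_num)))).mul_right _)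
    have hb := key 2 (2 * m + 1) 12 Nat.prime_two (by omega) (by norm_num) fun r hr => by
      rw [h1]
      exact ((hr.dvd_add (m := 6) (by norm_num) (by norm_num)).mul_left _).mul_left _
    refine mem_cand_of h2 (f := 2 * m + 1) (by omega) (f_le (by omega) hb) hB ?_
    unfold candQ
    simp only [List.mem_append]
    right
    rw [if_pos]
    · exact List.mem_singleton.2 rfl
    · simp only [Bool.and_eq_true, Nat.beq_eq, Nat.ble_eq]
      exact ⟨⟨⟨trivial, by omega⟩, by omega⟩, hb⟩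
  | tits => exact hspor (.tits, 17971200) (by decide) rfl
  | m11 => exact hspor (.m11, 7920) (by decide) rfl
  | m12 => exact hspor (.m12, 95040) (by decide) rfl
  | m22 => exact hspor (.m22, 443520) (by decide) rfl
  | m23 => exact hspor (.m23, 10200960) (by decide) rfl
  | m24 => exact hspor (.m24, 244823040) (by decide) rfl
  | j1 => exact hspor (.j1, 175560) (by decide) rfl
  | j2 => exact hspor (.j2, 604800) (by decide) rfl
  | j3 => exact hspor (.j3, 50232960) (by decide) rfl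
  | j4 => exact hspor (.j4, 86775571046077562880) (by decide) rfl
  | co1 => exact hspor (.co1, 4157776806543360000) (by decide) rfl
  | co2 => exact hspor (.co2, 42305421312000) (by decide) rfl
  | co3 => exact hspor (.co3, 495766656000) (by decide) rfl
  | mcl => exact hspor (.mcl, 898128000) (by decide) rfl
  | hs => exact hspor (.hs, 44352000) (by decide) rfl
  | suz => exact hspor (.suz, 448345497600) (by decide) rfl
  | he => exact hspor (.he, 4030387200) (by decide) rfl
  | ru => exact hspor (.ru, 145926144000) (by decide) rfl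
  | on => exact hspor (.on, 460815505920) (by decide) rfl
  | ly => exact hspor (.ly, 51765179004000000) (by decide) rfl
  | fi22 => exact hspor (.fi22, 64561751654400) (by decide) rfl
  | fi23 => exact hspor (.fi23, 4089470473293004800) (by decide) rfl
  | fi24 => exact hspor (.fi24, 1255205709190661721292800) (by decide) rfl
  | hn => exact hspor (.hn, 273030912000000) (by decide) rfl
  | th => exact hspor (.th, 90745943887872000) (by decide) rfl
  | b => exact hspor (.b, 4154781481226426191177580544000000) (by decide) rfl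
  | m => exact hspor (.m, 808017424794512875886459904961710757005754368000000000) (by decide) rfl

/-- **The list.** -/
theorem smooth_list {S : Type u} [Group S] [Finite S] {g : Grp} (h : IsNamed g S) {ps : List ℕ} {B N : ℕ}
    (hB : 7 ≤ B) (hps : ∀ p ∈ ps, p ≤ B) (hN : N.Prime) (hNps : N ∉ ps)
    (hS : ∀ r, r.Prime → r ∣ Nat.card S → r ∈ ps) :
    g ∈ (cand ps B N).filter fun g => sm ps (ordN g) := by
  rw [List.mem_filter]
  refine ⟨mem_cand h hB hps hN hNps hS, ?_⟩
  rw [← h.ord]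
  exact sm_of Nat.card_pos.ne' hS

end Cfsg.Agent.H559.PrimesLe
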