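import Cfsg.Agent.H559.ChevConjX
import Cfsg.Agent.H493.PGE6

/-!
# Elements of order `r` with `x ~ x^q` in `E6(q)` (helper559)

`conj` : `r` a prime, `m` the order of `q` modulo `r`, `m ∈ [3, 4, 5, 6, 8, 9, 12]`.
-/

set_option autoImplicit false

namespace Cfsg.Agent.H559.ConjE6

open CoxeterSystem Cfsg Cfsg.Lie Cfsg.Lie.ChevalleyDatum
open Cfsg.Agent.ChevalleyStructure.CoxeterGeom Cfsg.Agent.ChevalleyStructure.CoxeterGeomTypes
open Cfsg.Agent.Tits.Roots Cfsg.Agent.Tits.Core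
open Cfsg.Agent.H129.WData Cfsg.Agent.Nodes.RGDChev
open Cfsg.Agent.H493.PGTorus Cfsg.Agent.H493.PGCyc Cfsg.Agent.H493.PGE6 Cfsg.Agent.H559.ChevConjX

universe u

/-- partial products of an element with characteristic polynomial divisible by the cyclotomic polynomial 3 -/
def chain3 : List (Fin 6 × Mat 6) := [
    (0, ![![0, 0, 1, 0, 0, 0], ![0, 1, 0, 0, 0, 0], ![-1, 0, -1, 0, 0, 0], ![1, 0, 1, 1, 0, 0], ![0, 0, 0, 0, 1, 0],
      ![0, 0, 0, 0, 0, 1]]),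
    (2, ![![1, 0, 1, 0, 0, 0], ![0, 1, 0, 0, 0, 0], ![0, 0, -1, 0, 0, 0], ![0, 0, 1, 1, 0, 0], ![0, 0, 0, 0, 1, 0],
      ![0, 0, 0, 0, 0, 1]])]

theorem chain3_ok : ChainOK Am chain3 := by decide +kernel

/-- coefficients of the eigenvector -/
def V3 : Fin 2 → Fin 6 → ℤ := ![![-1, 0, 0, 0, 0, 0], ![0, 0, 1, 0, 0, 0]]

/-- the functional -/
def U3 : Fin 6 → ℤ := ![-1, 0, 0, 0, 0, 0]

theorem eig3 : EigOK (hd chain3) c3 V3 U3 := by decide +kernel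

theorem conj3 {F : Type u} [Field F] [Finite F] {r : ℕ} (hr : r.Prime) (hrd : ¬ r ∣ 3) (h : (r : ℤ) ∣ pv c3 (Nat.card F)) :
    ∃ x u : ↥(chevE6.group F), orderOf x = r ∧ u * x * u⁻¹ = x ^ Nat.card F := by
  have := finW
  exact conj_pow hp CoxeterMatrix.E₆.toCoxeterSystem H129.TorusChar.invC_E6 three_ne_zero H129.PhiE.isPhi_E6
    (chain_rep hp CoxeterMatrix.E₆.toCoxeterSystem hA chain3_ok) eig3 hr hrd h

/-- partial products of an element with characteristic polynomial divisible by the cyclotomic polynomial 4 -/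
def chain4 : List (Fin 6 × Mat 6) := [
    (0, ![![0, 0, 1, 0, 0, 0], ![1, 1, 1, 1, 0, 0], ![0, 0, 0, 1, 0, 0], ![-1, 0, -1, -1, 0, 0],
      ![1, 0, 1, 1, 1, 0], ![0, 0, 0, 0, 0, 1]]),
    (2, ![![1, 0, 1, 0, 0, 0], ![0, 1, 1, 1, 0, 0], ![0, 0, 0, 1, 0, 0], ![0, 0, -1, -1, 0, 0], ![0, 0, 1, 1, 1, 0],
      ![0, 0, 0, 0, 0, 1]]),
    (3, ![![1, 0, 0, 0, 0, 0], ![0, 1, 0, 1, 0, 0], ![0, 0, 1, 1, 0, 0], ![0, 0, 0, -1, 0, 0], ![0, 0, 0, 1, 1, 0],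
      ![0, 0, 0, 0, 0, 1]])]

theorem chain4_ok : ChainOK Am chain4 := by decide +kernel

/-- coefficients of the eigenvector -/
def V4 : Fin 2 → Fin 6 → ℤ := ![![0, 0, 1, 1, 0, 0], ![1, 0, 1, 0, 0, 0]]

/-- the functional -/
def U4 : Fin 6 → ℤ := ![-1, 0, 1, 0, 0, 0]

theorem eig4 : EigOK (hd chain4) c4 V4 U4 := by decide +kernel

theorem conj4 {F : Type u} [Field F] [Finite F] {r : ℕ} (hr : r.Prime) (hrd : ¬ r ∣ 3) (h : (r : ℤ) ∣ pv c4 (Nat.card F)) :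
    ∃ x u : ↥(chevE6.group F), orderOf x = r ∧ u * x * u⁻¹ = x ^ Nat.card F := by
  have := finW
  exact conj_pow hp CoxeterMatrix.E₆.toCoxeterSystem H129.TorusChar.invC_E6 three_ne_zero H129.PhiE.isPhi_E6
    (chain_rep hp CoxeterMatrix.E₆.toCoxeterSystem hA chain4_ok) eig4 hr hrd h

/-- partial products of an element with characteristic polynomial divisible by the cyclotomic polynomial 5 -/
def chain5 : List (Fin 6 × Mat 6) := [
    (0, ![![0, 0, 1, 0, 0, 0], ![1, 1, 1, 1, 0, 0], ![0, 0, 0, 1, 0, 0], ![0, 0, 0, 0, 1, 0],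
      ![-1, 0, -1, -1, -1, 0], ![1, 0, 1, 1, 1, 1]]),
    (2, ![![1, 0, 1, 0, 0, 0], ![0, 1, 1, 1, 0, 0], ![0, 0, 0, 1, 0, 0], ![0, 0, 0, 0, 1, 0],
      ![0, 0, -1, -1, -1, 0], ![0, 0, 1, 1, 1, 1]]),
    (3, ![![1, 0, 0, 0, 0, 0], ![0, 1, 0, 1, 0, 0], ![0, 0, 1, 1, 0, 0], ![0, 0, 0, 0, 1, 0], ![0, 0, 0, -1, -1, 0],
      ![0, 0, 0, 1, 1, 1]]),
    (4, ![![1, 0, 0, 0, 0, 0], ![0, 1, 0, 0, 0, 0], ![0, 0, 1, 0, 0, 0], ![0, 0, 0, 1, 1, 0], ![0, 0, 0, 0, -1, 0],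
      ![0, 0, 0, 0, 1, 1]])]

theorem chain5_ok : ChainOK Am chain5 := by decide +kernel

/-- coefficients of the eigenvector -/
def V5 : Fin 4 → Fin 6 → ℤ := ![![0, 0, 0, -1, 0, 0], ![0, 0, -1, -1, 0, 0], ![-1, 0, -1, -1, 0, 0],
    ![0, 0, 0, 0, 1, 0]]

/-- the functional -/
def U5 : Fin 6 → ℤ := ![0, 0, 1, -1, 0, 0]

theorem eig5 : EigOK (hd chain5) c5 V5 U5 := by decide +kernel

theorem conj5 {F : Type u} [Field F] [Finite F] {r : ℕ} (hr : r.Prime) (hrd : ¬ r ∣ 3) (h : (r : ℤ) ∣ pv c5 (Nat.card F)) :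
    ∃ x u : ↥(chevE6.group F), orderOf x = r ∧ u * x * u⁻¹ = x ^ Nat.card F := by
  have := finW
  exact conj_pow hp CoxeterMatrix.E₆.toCoxeterSystem H129.TorusChar.invC_E6 three_ne_zero H129.PhiE.isPhi_E6
    (chain_rep hp CoxeterMatrix.E₆.toCoxeterSystem hA chain5_ok) eig5 hr hrd h

/-- partial products of an element with characteristic polynomial divisible by the cyclotomic polynomial 6 -/
def chain6 : List (Fin 6 × Mat 6) := [
    (1, ![![1, 0, 1, 0, 0, 0], ![0, 0, 1, 1, 0, 0], ![0, 1, 0, 1, 0, 0], ![0, 0, 0, 0, 1, 0],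
      ![0, -1, -1, -1, -1, 0], ![0, 1, 1, 1, 1, 1]]),
    (2, ![![1, 0, 1, 0, 0, 0], ![0, 1, 1, 1, 0, 0], ![0, 0, 0, 1, 0, 0], ![0, 0, 0, 0, 1, 0],
      ![0, 0, -1, -1, -1, 0], ![0, 0, 1, 1, 1, 1]]),
    (3, ![![1, 0, 0, 0, 0, 0], ![0, 1, 0, 1, 0, 0], ![0, 0, 1, 1, 0, 0], ![0, 0, 0, 0, 1, 0], ![0, 0, 0, -1, -1, 0],
      ![0, 0, 0, 1, 1, 1]]),
    (4, ![![1, 0, 0, 0, 0, 0], ![0, 1, 0, 0, 0, 0], ![0, 0, 1, 0, 0, 0], ![0, 0, 0, 1, 1, 0], ![0, 0, 0, 0, -1, 0],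
      ![0, 0, 0, 0, 1, 1]])]

theorem chain6_ok : ChainOK Am chain6 := by decide +kernel

/-- coefficients of the eigenvector -/
def V6 : Fin 2 → Fin 6 → ℤ := ![![0, -1, -1, -2, -1, 0], ![0, 0, 0, 1, 1, 0]]

/-- the functional -/
def U6 : Fin 6 → ℤ := ![0, -1, 0, 0, 0, 0]

theorem eig6 : EigOK (hd chain6) c6 V6 U6 := by decide +kernel

theorem conj6 {F : Type u} [Field F] [Finite F] {r : ℕ} (hr : r.Prime) (hrd : ¬ r ∣ 3) (h : (r : ℤ) ∣ pv c6 (Nat.card F)) :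
    ∃ x u : ↥(chevE6.group F), orderOf x = r ∧ u * x * u⁻¹ = x ^ Nat.card F := by
  have := finW
  exact conj_pow hp CoxeterMatrix.E₆.toCoxeterSystem H129.TorusChar.invC_E6 three_ne_zero H129.PhiE.isPhi_E6
    (chain_rep hp CoxeterMatrix.E₆.toCoxeterSystem hA chain6_ok) eig6 hr hrd h

theorem conj8 {F : Type u} [Field F] [Finite F] {r : ℕ} (hr : r.Prime) (hrd : ¬ r ∣ 3) (h : (r : ℤ) ∣ pv c8 (Nat.card F)) :
    ∃ x u : ↥(chevE6.group F), orderOf x = r ∧ u * x * u⁻¹ = x ^ Nat.card F := by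
  have := finW
  exact conj_pow hp CoxeterMatrix.E₆.toCoxeterSystem H129.TorusChar.invC_E6 three_ne_zero H129.PhiE.isPhi_E6
    (chain_rep hp CoxeterMatrix.E₆.toCoxeterSystem hA chain8_ok) eig8 hr hrd h

theorem conj9 {F : Type u} [Field F] [Finite F] {r : ℕ} (hr : r.Prime) (hrd : ¬ r ∣ 3) (h : (r : ℤ) ∣ pv c9 (Nat.card F)) :
    ∃ x u : ↥(chevE6.group F), orderOf x = r ∧ u * x * u⁻¹ = x ^ Nat.card F := by
  have := finW
  exact conj_pow hp CoxeterMatrix.E₆.toCoxeterSystem H129.TorusChar.invC_E6 three_ne_zero H129.PhiE.isPhi_E6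
    (chain_rep hp CoxeterMatrix.E₆.toCoxeterSystem hA chain9_ok) eig9 hr hrd h

theorem conj12 {F : Type u} [Field F] [Finite F] {r : ℕ} (hr : r.Prime) (hrd : ¬ r ∣ 3) (h : (r : ℤ) ∣ pv c12 (Nat.card F)) :
    ∃ x u : ↥(chevE6.group F), orderOf x = r ∧ u * x * u⁻¹ = x ^ Nat.card F := by
  have := finW
  exact conj_pow hp CoxeterMatrix.E₆.toCoxeterSystem H129.TorusChar.invC_E6 three_ne_zero H129.PhiE.isPhi_E6
    (chain_rep hp CoxeterMatrix.E₆.toCoxeterSystem hA chain12_ok) eig12 hr hrd h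

/-- **`x ~ x^q`, `m` the order of `q` modulo `r`.** -/
theorem conj {F : Type u} [Field F] [Finite F] {r m : ℕ} (hr : r.Prime)
    (hm : orderOf ((Nat.card F : ℕ) : ZMod r) = m) (h : m ∈ [3, 4, 5, 6, 8, 9, 12]) :
    ∃ x u : ↥(chevE6.group F), orderOf x = r ∧ u * x * u⁻¹ = x ^ Nat.card F := by
  have : Fact r.Prime := ⟨hr⟩
  simp only [List.mem_cons, List.not_mem_nil, or_false] at h
  rcases h with rfl | rfl | rfl | rfl | rfl | rfl | rfl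
  · exact conj3 hr (Ord.not_dvd hm (by norm_num) (by norm_num) (by norm_num)) (Ord.dvd3 hm)
  · exact conj4 hr (Ord.not_dvd hm (by norm_num) (by norm_num) (by norm_num)) (Ord.dvd4 hm)
  · exact conj5 hr (Ord.not_dvd hm (by norm_num) (by norm_num) (by norm_num)) (Ord.dvd5 hm)
  · exact conj6 hr (Ord.not_dvd hm (by norm_num) (by norm_num) (by norm_num)) (Ord.dvd6 hm)
  · exact conj8 hr (Ord.not_dvd hm (by norm_num) (by norm_num) (by norm_num)) (Ord.dvd8 hm)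
  · exact conj9 hr (Ord.not_dvd hm (by norm_num) (by norm_num) (by norm_num)) (Ord.dvd9 hm)
  · exact conj12 hr (Ord.not_dvd hm (by norm_num) (by norm_num) (by norm_num)) (Ord.dvd12 hm)

end Cfsg.Agent.H559.ConjE6
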