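import Cfsg.Agent.H559.FCUniqueTwo
import Cfsg.Agent.H348.SolvableFPF
import Mathlib

/-!
Existence of the normal `Z`-subgroup with quotient of one of the six types: solvable case.
-/

set_option autoImplicit false
set_option linter.style.haveILetI false

namespace Cfsg.Agent.H559.FC

open Cfsg.Agent.H348

/-- The reduction map `ZMod (2 * n) → ZMod 2`. -/
def red (n : ℕ) : ZMod (2 * n) →+* ZMod 2 := ZMod.castHom (Dvd.intro n rfl) (ZMod 2)

/-- The map from the generalized quaternion group onto the four-group. -/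
def quatToDih (n : ℕ) (hn : 2 ∣ n) : QuaternionGroup n →* DihedralGroup 2 where
  toFun x := match x with
    | QuaternionGroup.a i => DihedralGroup.r (red n i)
    | QuaternionGroup.xa i => DihedralGroup.sr (red n i)
  map_one' := by
    change DihedralGroup.r (red n 0) = 1
    rw [map_zero]; rfl
  map_mul' x y := by
    have h0 : red n (n : ZMod (2 * n)) = 0 := by
      rw [map_natCast]
      exact (ZMod.natCast_eq_zero_iff n 2).2 hn
    cases x with
    | a i =>
      cases y with
      | a j =>
        rw [QuaternionGroup.a_mul_a]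
        change DihedralGroup.r (red n (i + j)) = DihedralGroup.r (red n i) * DihedralGroup.r (red n j)
        rw [map_add, DihedralGroup.r_mul_r]
      | xa j =>
        rw [QuaternionGroup.a_mul_xa]
        change DihedralGroup.sr (red n (j - i)) = DihedralGroup.r (red n i) * DihedralGroup.sr (red n j)
        rw [map_sub, DihedralGroup.r_mul_sr]
    | xa i =>
      cases y with
      | a j =>
        rw [QuaternionGroup.xa_mul_a]
        change DihedralGroup.sr (red n (i + j)) = DihedralGroup.sr (red n i) * DihedralGroup.r (red n j)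
        rw [map_add, DihedralGroup.sr_mul_r]
      | xa j =>
        rw [QuaternionGroup.xa_mul_xa]
        change DihedralGroup.r (red n (n + j - i)) = DihedralGroup.sr (red n i) * DihedralGroup.sr (red n j)
        rw [map_sub, map_add, h0, zero_add, DihedralGroup.sr_mul_sr]

theorem quatToDih_surjective (n : ℕ) (hn : 2 ∣ n) : Function.Surjective (quatToDih n hn) := by
  intro y
  cases y with
  | r i =>
    obtain ⟨k, rfl⟩ := ZMod.intCast_surjective i
    refine ⟨QuaternionGroup.a (k : ZMod (2 * n)), ?_⟩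
    change DihedralGroup.r (red n (k : ZMod (2 * n))) = _
    rw [map_intCast]
  | sr i =>
    obtain ⟨k, rfl⟩ := ZMod.intCast_surjective i
    refine ⟨QuaternionGroup.xa (k : ZMod (2 * n)), ?_⟩
    change DihedralGroup.sr (red n (k : ZMod (2 * n))) = _
    rw [map_intCast]

theorem quatToDih_ker_le (n : ℕ) [NeZero n] (hn : 2 ∣ n) :
    (quatToDih n hn).ker ≤ Subgroup.zpowers (QuaternionGroup.a 1 : QuaternionGroup n) := by
  intro x hx
  cases x with
  | a i =>
    rw [Subgroup.mem_zpowers_iff]
    refine ⟨(i.val : ℤ), ?_⟩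
    rw [zpow_natCast, QuaternionGroup.a_one_pow, ZMod.natCast_zmod_val]
  | xa i =>
    exfalso
    have h1 : DihedralGroup.sr (red n i) = (1 : DihedralGroup 2) := hx
    rw [DihedralGroup.one_def] at h1
    cases h1

/-- a hom to `Perm (Fin 4)` whose image has order `12` or `24` gives a good type -/
theorem typ_of_hom_four {G : Type*} [Group G] [Finite G] (f : G →* Equiv.Perm (Fin 4))
    (h : 12 ∣ Nat.card f.range) : Typ f.ker := by
  have h24 : Nat.card (Equiv.Perm (Fin 4)) = 24 := by rw [Nat.card_perm]; simp [Nat.factorial]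
  obtain ⟨c, hc⟩ := h
  have h1 := f.range.card_mul_index
  rw [h24, hc, mul_assoc] at h1
  have h2 : c * f.range.index = 2 := by omega
  have h3 : f.range.index ∣ 2 := ⟨c, by rw [mul_comm, h2]⟩
  rcases (Nat.dvd_prime Nat.prime_two).1 h3 with h4 | h4
  · have h5 : f.range = ⊤ := Subgroup.index_eq_one.1 h4
    exact Or.inr (Or.inr (Or.inr (Or.inl ⟨f, MonoidHom.range_eq_top.1 h5, rfl⟩)))
  · have h5 : f.range = alternatingGroup (Fin 4) :=
      Equiv.Perm.eq_alternatingGroup_of_index_eq_two h4
    have h6 : ∀ x, f x ∈ alternatingGroup (Fin 4) := fun x => by rw [← h5]; exact ⟨x, rfl⟩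
    refine Or.inr (Or.inr (Or.inl ⟨f.codRestrict _ h6, ?_, ?_⟩))
    · rintro ⟨y, hy⟩
      rw [← h5] at hy
      obtain ⟨x, rfl⟩ := hy
      exact ⟨x, rfl⟩
    · exact MonoidHom.ker_codRestrict f _ h6

/-- a hom to `Perm (Fin 5)` whose image has order `60` or `120` gives a good type -/
theorem typ_of_hom_five {G : Type*} [Group G] [Finite G] (f : G →* Equiv.Perm (Fin 5))
    (h : 60 ∣ Nat.card f.range) : Typ f.ker := by
  have h24 : Nat.card (Equiv.Perm (Fin 5)) = 120 := by rw [Nat.card_perm]; simp [Nat.factorial]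
  obtain ⟨c, hc⟩ := h
  have h1 := f.range.card_mul_index
  rw [h24, hc, mul_assoc] at h1
  have h2 : c * f.range.index = 2 := by omega
  have h3 : f.range.index ∣ 2 := ⟨c, by rw [mul_comm, h2]⟩
  rcases (Nat.dvd_prime Nat.prime_two).1 h3 with h4 | h4
  · have h5 : f.range = ⊤ := Subgroup.index_eq_one.1 h4
    exact Or.inr (Or.inr (Or.inr (Or.inr (Or.inr ⟨f, MonoidHom.range_eq_top.1 h5, rfl⟩))))
  · have h5 : f.range = alternatingGroup (Fin 5) :=
      Equiv.Perm.eq_alternatingGroup_of_index_eq_two h4
    have h6 : ∀ x, f x ∈ alternatingGroup (Fin 5) := fun x => by rw [← h5]; exact ⟨x, rfl⟩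
    refine Or.inr (Or.inr (Or.inr (Or.inr (Or.inl ⟨f.codRestrict _ h6, ?_, ?_⟩))))
    · rintro ⟨y, hy⟩
      rw [← h5] at hy
      obtain ⟨x, rfl⟩ := hy
      exact ⟨x, rfl⟩
    · exact MonoidHom.ker_codRestrict f _ h6

theorem card_center_quat : Nat.card (Subgroup.center (QuaternionGroup 2)) = 2 := by
  rw [Nat.card_eq_fintype_card]
  decide +kernel

/-- Existence in the solvable case. -/
theorem exists_of_solvable {G : Type*} [Group G] [Finite G] [Group.IsSolvable G] (h : HasFPF G) :
    ∃ N : Subgroup G, N.Normal ∧ IsZGroup N ∧ Typ N := by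
  haveI : Fact (Nat.Prime 2) := ⟨Nat.prime_two⟩
  set R := Cfsg.pPrimeCore 2 G with hR
  haveI hRn : R.Normal := Cfsg.Agent.Lib.Cores.pPrimeCore_normal 2
  have hRc : (Nat.card R).Coprime 2 := Cfsg.Agent.Lib.Cores.pPrimeCore_coprime 2
  set π := QuotientGroup.mk' R with hπ
  have hπs : Function.Surjective π := QuotientGroup.mk'_surjective R
  have hcore : Cfsg.pPrimeCore 2 (G ⧸ R) = ⊥ := Cfsg.Agent.Lib.Cores.pPrimeCore_quotient_pPrimeCore 2
  set T := Cfsg.pCore 2 (G ⧸ R) with hT
  haveI hTn : T.Normal := Cfsg.Agent.Lib.Cores.pCore_normal 2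
  have hT2 : IsPGroup 2 T := Cfsg.Agent.Lib.Cores.pCore_isPGroup 2
  have hTc : Subgroup.centralizer (T : Set (G ⧸ R)) ≤ T := Cfsg.Agent.S0017.result 2 hcore
  -- two-subgroups of the quotient act fixed-point-freely
  have hfpf : ∀ U : Subgroup (G ⧸ R), IsPGroup 2 U → HasFPF U := by
    intro U hU
    obtain ⟨k, hk⟩ := IsPGroup.iff_card.1 hU
    obtain ⟨f, hf, -⟩ := exists_lift_of_coprime R U (by rw [hk]; exact hRc.pow_right k)
    exact h.of_injective f hf
  have hZ : ∀ A : Subgroup (G ⧸ R), IsCyclic A → IsZGroup (A.comap π) := fun A hA =>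
    h.isZGroup_comap R hRc A hA
  by_cases h2 : IsPGroup 2 (G ⧸ R)
  · have hF : HasFPF (G ⧸ R) := (hfpf ⊤ (h2.to_subgroup ⊤)).of_injective
      (Subgroup.topEquiv (G := G ⧸ R)).symm.toMonoidHom (Subgroup.topEquiv (G := G ⧸ R)).symm.injective
    have hcyc : IsCyclic (G ⧸ R) → ∃ N : Subgroup G, N.Normal ∧ IsZGroup N ∧ Typ N := by
      intro hc
      have h3 : IsZGroup ((⊤ : Subgroup (G ⧸ R)).comap π) := hZ ⊤
        (isCyclic_of_surjective (Subgroup.topEquiv (G := G ⧸ R)).symm (MulEquiv.surjective _))
      rw [Subgroup.comap_top] at h3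
      exact ⟨⊤, inferInstance, h3, Or.inl rfl⟩
    rcases hF.cyclic_or_quaternion Nat.prime_two h2 with hc | ⟨-, k, ⟨e⟩⟩
    · exact hcyc hc
    · rcases Nat.eq_zero_or_pos k with rfl | hk
      · apply hcyc
        haveI : IsCyclic (QuaternionGroup (2 ^ 0)) := QuaternionGroup.quaternionGroup_one_isCyclic
        exact isCyclic_of_surjective e.symm e.symm.surjective
      · have hd : 2 ∣ 2 ^ k := dvd_pow_self 2 hk.ne'
        haveI : NeZero (2 ^ k) := ⟨by positivity⟩
        let c : (G ⧸ R) →* DihedralGroup 2 := (quatToDih (2 ^ k) hd).comp e.toMonoidHom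
        have hcs : Function.Surjective c := (quatToDih_surjective _ hd).comp e.surjective
        have hck : IsCyclic c.ker := by
          let g : c.ker →* Subgroup.zpowers (QuaternionGroup.a 1 : QuaternionGroup (2 ^ k)) :=
            { toFun := fun x => ⟨e x, quatToDih_ker_le _ hd x.2⟩
              map_one' := Subtype.ext (map_one e)
              map_mul' := fun x y => Subtype.ext (map_mul e _ _) }
          refine isCyclic_of_injective g ?_
          intro x y hxy
          have h3 : e x = e y := congrArg Subtype.val hxy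
          exact Subtype.ext (e.injective h3)
        refine ⟨(c.comp π).ker, inferInstance, ?_, Or.inr (Or.inl ⟨c.comp π, hcs.comp hπs, rfl⟩)⟩
        rw [← MonoidHom.comap_ker]
        exact hZ _ hck
  · -- `T` is the quaternion group of order eight
    have hT8 : Nonempty (T ≃* QuaternionGroup 2) := by
      have hno : ¬ (∀ (φ : MulAut T) (n : ℕ), Odd n → φ ^ n = 1 → φ = 1) := fun hodd =>
        h2 (isPGroup_of_no_odd_aut T hT2 hTc hodd)
      rcases (hfpf T hT2).cyclic_or_quaternion Nat.prime_two hT2 with hc | ⟨-, k, ⟨e⟩⟩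
      · exact (hno (aut_cyclic_two hT2 hc)).elim
      · by_cases hk2 : 2 ≤ k
        · refine (hno ?_).elim
          intro φ n hn hφ
          have h1 : MulAut.congr e φ = 1 := by
            apply Cfsg.Agent.LFourB.ProdAut.eq_one_of_odd hk2 _ hn
            rw [← map_pow, hφ, map_one]
          exact (map_eq_one_iff (MulAut.congr e) (MulAut.congr e).injective).1 h1
        · have hk : k = 0 ∨ k = 1 := by omega
          rcases hk with rfl | rfl
          · refine (hno ?_).elim
            apply aut_cyclic_two hT2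
            haveI : IsCyclic (QuaternionGroup (2 ^ 0)) := QuaternionGroup.quaternionGroup_one_isCyclic
            exact isCyclic_of_surjective e.symm e.symm.surjective
          · exact ⟨e⟩
    obtain ⟨e⟩ := hT8
    let ψ : MulAut T →* Equiv.Perm (Fin 4) :=
      AutQEight.toPerm.comp (MulAut.congr e).toMonoidHom
    have hψ : Function.Injective ψ := AutQEight.toPerm_injective.comp (MulAut.congr e).injective
    let f' : (G ⧸ R) →* Equiv.Perm (Fin 4) := ψ.comp (MulAut.conjNormal : (G ⧸ R) →* MulAut T)
    have hker' : f'.ker = Subgroup.centralizer (T : Set (G ⧸ R)) := by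
      rw [← ker_conjNormal T]
      ext x
      rw [MonoidHom.mem_ker, MonoidHom.mem_ker]
      exact map_eq_one_iff ψ hψ
    have hcent : f'.ker = (Subgroup.center T).map T.subtype := by
      rw [hker']
      ext x
      constructor
      · intro hx
        refine ⟨⟨x, hTc hx⟩, ?_, rfl⟩
        rw [SetLike.mem_coe, Subgroup.mem_center_iff]
        rintro ⟨y, hy⟩
        exact Subtype.ext ((Subgroup.mem_centralizer_iff.1 hx) y hy)
      · rintro ⟨⟨y, hy⟩, hz, rfl⟩
        rw [SetLike.mem_coe, Subgroup.mem_center_iff] at hz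
        rw [Subgroup.mem_centralizer_iff]
        exact fun w hw => congrArg Subtype.val (hz ⟨w, hw⟩)
    have hTcard : Nat.card T = 8 := by
      rw [Nat.card_congr e.toEquiv, Nat.card_eq_fintype_card, QuaternionGroup.card]
    have hcard2 : Nat.card f'.ker = 2 := by
      rw [hcent, Subgroup.card_map_of_injective T.subtype_injective, ← card_center_quat]
      exact Nat.card_congr (Subgroup.centerCongr e).toEquiv
    have h4 : 4 ∣ Nat.card f'.range := by
      have h5 : f'.ker.relIndex T = 4 := by
        have h6 : f'.ker ≤ T := by rw [hker']; exact hTc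
        have h7 := Subgroup.relIndex_mul_relIndex (⊥ : Subgroup (G ⧸ R)) f'.ker T bot_le h6
        rw [Subgroup.relIndex_bot_left, Subgroup.relIndex_bot_left, hcard2, hTcard] at h7
        omega
      have h6 := Subgroup.relIndex_ker f' (K := T)
      rw [h5] at h6
      have h7 : Nat.card (T.map f') ∣ Nat.card f'.range :=
        Subgroup.card_dvd_of_le (by rintro _ ⟨x, -, rfl⟩; exact ⟨x, rfl⟩)
      rwa [← h6] at h7
    have h24 : Nat.card (Equiv.Perm (Fin 4)) = 24 := by rw [Nat.card_perm]; simp [Nat.factorial]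
    have h3 : 3 ∣ Nat.card f'.range := by
      obtain ⟨q, hq, hqd, hq2⟩ : ∃ q : ℕ, q.Prime ∧ q ∣ Nat.card (G ⧸ R) ∧ q ≠ 2 := by
        by_contra h1
        push Not at h1
        apply h2
        rw [IsPGroup.iff_card]
        exact ⟨_, Nat.eq_prime_pow_of_unique_prime_dvd (n := Nat.card (G ⧸ R)) Nat.card_pos.ne'
          (fun {d} hd hdd => h1 d hd hdd)⟩
      have h5 : q ∣ Nat.card f'.range := by
        have h6 : Nat.card f'.range * Nat.card f'.ker = Nat.card (G ⧸ R) := by
          rw [← Subgroup.index_ker, Subgroup.index_mul_card]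
        rw [← h6, hcard2] at hqd
        rcases hq.dvd_mul.1 hqd with h7 | h7
        · exact h7
        · exact absurd ((Nat.prime_dvd_prime_iff_eq hq Nat.prime_two).1 h7) hq2
      have h6 : q ∣ 24 := by
        rw [← h24]; exact h5.trans (Subgroup.card_subgroup_dvd_card _)
      have h7 : q = 3 := by
        have h8 : q ∣ 2 ^ 3 * 3 := by norm_num; exact h6
        rcases hq.dvd_mul.1 h8 with h9 | h9
        · exact absurd ((Nat.prime_dvd_prime_iff_eq hq Nat.prime_two).1 (hq.dvd_of_dvd_pow h9)) hq2
        · exact (Nat.prime_dvd_prime_iff_eq hq Nat.prime_three).1 h9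
      rw [← h7]; exact h5
    have h12 : 12 ∣ Nat.card (f'.comp π).range := by
      have h5 : (f'.comp π).range = f'.range := by
        rw [MonoidHom.range_comp, MonoidHom.range_eq_top.2 hπs, ← MonoidHom.range_eq_map]
      rw [h5]
      exact Nat.Coprime.mul_dvd_of_dvd_of_dvd (by norm_num : Nat.Coprime 4 3) h4 h3
    refine ⟨(f'.comp π).ker, inferInstance, ?_, typ_of_hom_four _ h12⟩
    rw [← MonoidHom.comap_ker]
    apply hZ
    exact isCyclic_of_prime_card hcard2

end Cfsg.Agent.H559.FC
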