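import Cfsg.Agent.H789.Exo.Defs
import Cfsg.Agent.H128.TwF4Ab
import Cfsg.Agent.H868.KTwD4
import Cfsg.Prelude.Def_Sz

/-!
# S5268: the exceptional groups `G₂(q)`, `³D₄(q)`, `²F₄(q)`, `Sz(q)`, `²G₂(q)` in cross characteristic (helper559)

* `exists_norm` : `a² - a b + b² = -1` is solvable in a finite field of characteristic `≠ 3`;
* `hasInv_sl` : `HasInv 3 (SL₂ F)`;
* `false_isoG2`, `false_isoRee`, `false_isoSz` : the degree of the defining representation is less than `18`;
* `false_twD4` : `SL₂(p) ∘ SL₂(q³) ≤ ³D₄(q)`;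
* `false_twF4` : `SL₂(q) × SL₂(q) ≤ ²F₄(q)`.
-/

set_option autoImplicit false

namespace Cfsg.Agent.H559.PearlyExc

open Cfsg Cfsg.Lie Cfsg.Agent.H789.Exo Cfsg.Agent.H92.ExcSL2 Cfsg.Agent.H868 Cfsg.Agent.H868.KSL2
  Cfsg.Agent.ChevalleyStructure.SL2Hom Cfsg.Agent.ChevalleyStructure.Elts

universe u v

section Inv

variable (F : Type u) [Field F]

open Polynomial in
theorem exists_norm [Finite F] (h3 : (3 : F) ≠ 0) : ∃ a b : F, a ^ 2 - a * b + b ^ 2 = -1 := by
  classical
  have := Fintype.ofFinite F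
  by_cases h2 : (2 : F) = 0
  · exact ⟨1, 0, by linear_combination h2⟩
  · have hodd : Fintype.card F % 2 = 1 := by
      apply FiniteField.odd_card_of_char_ne_two
      intro h
      have h4 : ((ringChar F : ℕ) : F) = 0 := ringChar.Nat.cast_ringChar
      rw [h] at h4
      exact h2 (by exact_mod_cast h4)
    obtain ⟨u, v, huv⟩ := FiniteField.exists_root_sum_quadratic (R := F) (f := X ^ 2 + C 1) (g := C 3 * X ^ 2)
      (degree_X_pow_add_C (by norm_num) _) (by rw [degree_C_mul_X_pow 2 h3]; rfl) hodd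
    simp only [eval_add, eval_pow, eval_X, eval_C, eval_mul] at huv
    exact ⟨u + v, 2 * v, by linear_combination huv⟩

theorem thr_inv {a b : F} (h : a ^ 2 - a * b + b ^ 2 = -1) :
    ∃ s : SL2 F, s.1 = !![a, b; b - a, -a] ∧ s * thr F * s⁻¹ = (thr F)⁻¹ := by
  obtain ⟨s, hs⟩ : ∃ s : SL2 F, s.1 = !![a, b; b - a, -a] :=
    ⟨⟨!![a, b; b - a, -a], by rw [Matrix.det_fin_two_of]; linear_combination -h⟩, rfl⟩
  obtain ⟨t, ht⟩ : ∃ t : SL2 F, t.1 = !![-1, -1; 1, 0] := ⟨⟨!![-1, -1; 1, 0], by simp [Matrix.det_fin_two_of]⟩, rfl⟩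
  have h1 : (thr F)⁻¹ = t := by
    rw [inv_eq_iff_mul_eq_one]
    apply Subtype.ext
    change !![(0 : F), 1; -1, -1] * t.1 = 1
    rw [ht]
    ext i j
    fin_cases i <;> fin_cases j <;> simp
  refine ⟨s, hs, ?_⟩
  rw [mul_inv_eq_iff_eq_mul, h1]
  apply Subtype.ext
  change s.1 * !![(0 : F), 1; -1, -1] = t.1 * s.1
  rw [hs, ht]
  ext i j
  fin_cases i <;> fin_cases j <;> simp <;> ring

theorem hasInv_sl [Finite F] (h3 : (3 : F) ≠ 0) : HasInv 3 (SL2 F) := by
  obtain ⟨a, b, hab⟩ := exists_norm F h3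
  obtain ⟨s, -, hs⟩ := thr_inv F hab
  refine ⟨thr F, s, ?_, ⟨1, ?_⟩, hs⟩
  · intro h
    have := orderOf_thr (F := F)
    rw [h, orderOf_one] at this
    omega
  · rw [pow_one, ← orderOf_thr (F := F), pow_orderOf_eq_one]

end Inv

section Small

variable {p n : ℕ} {G : Type u} [Group G]

theorem eighteen_le (h : Pearly p n G) {k : Type*} [Field k] {ι : Type*} [Fintype ι] [DecidableEq ι]
    (hk : (p : k) ≠ 0) {M : Subgroup (GL ι k)} (e : G ≃* M) :
    p ^ 2 * (p - 1) ≤ Fintype.card ι :=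
  h.le_card hk ((Units.coeHom (Matrix ι ι k)).comp (M.subtype.comp e.toMonoidHom))
    (fun _ _ hxy => e.injective (Subtype.ext (Units.ext hxy)))

theorem three_le {p : ℕ} (h : 3 ≤ p) : 18 ≤ p ^ 2 * (p - 1) :=
  calc 18 = 3 ^ 2 * (3 - 1) := by norm_num
    _ ≤ _ := Nat.mul_le_mul (Nat.pow_le_pow_left h 2) (Nat.sub_le_sub_right h 1)

theorem five_le {p : ℕ} (h : 5 ≤ p) : 100 ≤ p ^ 2 * (p - 1) :=
  calc 100 = 5 ^ 2 * (5 - 1) := by norm_num
    _ ≤ _ := Nat.mul_le_mul (Nat.pow_le_pow_left h 2) (Nat.sub_le_sub_right h 1)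

theorem eq_three (h : Pearly p n G) {m : ℕ} (hm : m < 100) (h1 : p ^ 2 * (p - 1) ≤ m) : p = 3 := by
  by_contra h3
  have h4 : p ≠ 4 := by
    rintro rfl
    exact absurd h.prime (by norm_num)
  have h5 : 5 ≤ p := by
    have := h.odd
    omega
  have := five_le h5
  omega

variable {K : Type v} [Field K]

/-- subgroups of `GL₁₄`: `G₂(q)`, `²G₂(q)`. -/
theorem false_g2 (h : Pearly p n G) (hp : (p : K) ≠ 0) (M : Subgroup (GL chevG2.Idx K)) (e : G ≃* M) : False := by
  have h1 := eighteen_le h hp e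
  have h2 : Fintype.card chevG2.Idx = 14 := by decide
  have h3 := three_le h.odd
  omega

/-- subgroups of `GL₄`: `Sz(q)`. -/
theorem false_sz (h : Pearly p n G) (hp : (p : K) ≠ 0) (M : Subgroup (GL (Fin 4) K)) (e : G ≃* M) : False := by
  have h1 := eighteen_le h hp e
  rw [Fintype.card_fin] at h1
  have h3 := three_le h.odd
  omega

end Small

section TwF4

open Cfsg.Agent.H128.TwF4Ab Cfsg.Agent.H517.TwFTwo

variable {p n : ℕ} {G : Type u} [Group G]

theorem dinv_twF4 {K : Type} [Field K] [Fintype K] {m : ℕ} (hm : 1 ≤ m) (hK : Fintype.card K = 2 ^ (2 * m + 1)) :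
    DoubleInv 3 ↥(twistedF4 K (2 ^ m)) := by
  have : CharP K 2 := ChevalleyStructure.F4Fixed.charP_two hK
  have he : 2 ^ m ≠ 0 := pow_ne_zero m two_ne_zero
  have hcard : 4 ≤ Nat.card K := by
    rw [Nat.card_eq_fintype_card, hK]
    calc 4 ≤ 2 ^ 3 := by norm_num
      _ ≤ _ := Nat.pow_le_pow_right (by norm_num) (by omega)
  obtain ⟨ψ, ψ', hcomm, hne, c, hψ'⟩ := exists_pair (ChevalleyStructure.F4Fixed.theta hK) he
    (ChevalleyStructure.F4Fixed.theta_apply hK)
  have hinj : Function.Injective ψ := by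
    rw [← MonoidHom.ker_eq_bot_iff]
    rcases Lib.ComponentSolvable.quasisimple_normal_cases (SignalizersComponents.SLQuasisimple.isQuasisimple_two hcard)
      (N := ψ.ker) inferInstance with h | h
    · exfalso
      apply hne
      have : up (1 : K) ∈ ψ.ker := by rw [h]; trivial
      exact this
    · rw [center_sl_two] at h
      exact le_bot_iff.1 h
  have hinj' : Function.Injective ψ' := by
    intro x y h
    rw [hψ', hψ'] at h
    exact hinj (mul_left_cancel (mul_right_cancel h))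
  have h3K : (3 : K) ≠ 0 := by
    intro h
    have h1 : (2 : ℕ) ∣ 3 := (CharP.cast_eq_zero_iff K 2 3).1 (by exact_mod_cast h)
    norm_num at h1
  exact DoubleInv.of_commute (hasInv_sl K h3K) (hasInv_sl K h3K) ψ ψ' (fun x y => (hcomm x y).eq)
    (fun x _ h => hinj (h.trans (map_one _).symm)) (fun x _ h => hinj' (h.trans (map_one _).symm))

/-- **`²F₄(q)`**. -/
theorem false_twF4 (h : Pearly p n G) {K : Type} [Field K] [Fintype K] {m : ℕ} (hm : 1 ≤ m)
    (hK : Fintype.card K = 2 ^ (2 * m + 1)) (hp : (p : K) ≠ 0) (e : G ≃* ↥(twistedF4 K (2 ^ m))) : False := by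
  have h1 := eighteen_le h hp e
  have h2 : Fintype.card chevF4.Idx = 52 := by decide
  have h3 := eq_three h (by norm_num) (h1.trans h2.le)
  subst h3
  exact h.dinv ((dinv_twF4 hm hK).congr e.symm)

end TwF4

section TwD4

variable {p n : ℕ} {G : Type u} [Group G]

theorem ker3 {F : Type u} [Field F] {H : Type v} [Group H] {f : SL2 F →* H} (hf : KerPM f)
    {g : SL2 F} (hg : ∃ k : ℕ, g ^ 3 ^ k = 1) (h : f g = 1) : g = 1 := by
  rcases hf g h with h1 | h1
  · exact h1
  · obtain ⟨k, hk⟩ := hg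
    have h3 : Odd (3 ^ k) := (by decide : Odd 3).pow
    rw [h1, h3.neg_pow, one_pow] at hk
    rw [h1, hk]

theorem dinv_twD4 {K : Type} [Field K] [Fintype K] {q : ℕ} (hq : IsPrimePow q) (hK : Fintype.card K = q ^ 3)
    (h3 : (3 : K) ≠ 0) : DoubleInv 3 ↥(twistedD4 K q) := by
  obtain ⟨φ, hφ⟩ := ChevalleyStructure.D4Fixed.exists_frob (K := K) (n := 3) hq hK
  let Ψ : SL2 K →* ↥(twistedD4 K q) :=
    ((chevD4.group K).subtype.comp (KTwD4.B φ)).codRestrict (twistedD4 K q) (fun g => KTwD4.B_mem hφ g)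
  -- the prime field
  obtain ⟨r, hr⟩ := CharP.exists K
  have hr0 : r.Prime := CharP.char_is_prime K r
  have : Fact r.Prime := ⟨hr0⟩
  let ι : ZMod r →+* K := ZMod.castHom (dvd_refl r) K
  have hι : ∀ t, φ (ι t) = ι t := fun t => by
    have h1 : φ.comp ι = ι := Subsingleton.elim _ _
    exact congrArg (fun f : ZMod r →+* K => f t) h1
  let A : SL2 (ZMod r) →* ↥(chevD4.group K) :=
    (ph KTwD4.hD4 KTwD4.l23).comp (Matrix.SpecialLinearGroup.map ι)
  have hup : ∀ t, Matrix.SpecialLinearGroup.map ι (up t) = up (ι t) := by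
    intro t
    apply Subtype.ext
    change ι.mapMatrix !![1, t; 0, 1] = !![1, ι t; 0, 1]
    ext i j
    fin_cases i <;> fin_cases j <;> simp
  have hlo : ∀ t, Matrix.SpecialLinearGroup.map ι (lo t) = lo (ι t) := by
    intro t
    apply Subtype.ext
    change ι.mapMatrix !![1, 0; t, 1] = !![1, 0; ι t, 1]
    ext i j
    fin_cases i <;> fin_cases j <;> simp
  have hA : ∀ x, ((A x : ↥(chevD4.group K)) : GL chevD4.Idx K) ∈ twistedD4 K q := by
    intro x
    have h3 : Subgroup.closure (Set.range (up (F := ZMod r)) ∪ Set.range (lo (F := ZMod r))) ≤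
        (twistedD4 K q).comap ((chevD4.group K).subtype.comp A) := by
      rw [Subgroup.closure_le]
      rintro _ (⟨t, rfl⟩ | ⟨t, rfl⟩)
      · change ((ph KTwD4.hD4 KTwD4.l23 (Matrix.SpecialLinearGroup.map ι (up t)) : ↥(chevD4.group K)) :
          GL chevD4.Idx K) ∈ twistedD4 K q
        rw [hup]
        exact KTwD4.A_up_mem hφ (hι t)
      · change ((ph KTwD4.hD4 KTwD4.l23 (Matrix.SpecialLinearGroup.map ι (lo t)) : ↥(chevD4.group K)) :
          GL chevD4.Idx K) ∈ twistedD4 K q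
        rw [hlo]
        exact KTwD4.A_lo_mem hφ (hι t)
    exact h3 (mem_closure_SL2 x)
  let Φ : SL2 (ZMod r) →* ↥(twistedD4 K q) :=
    ((chevD4.group K).subtype.comp A).codRestrict (twistedD4 K q) hA
  have h3r : (3 : ZMod r) ≠ 0 := by
    intro h
    apply h3
    have := congrArg ι h
    rwa [map_ofNat, map_zero] at this
  refine DoubleInv.of_commute (hasInv_sl (ZMod r) h3r) (hasInv_sl K h3) Φ Ψ ?_ ?_ ?_
  · intro x y
    apply Subtype.ext
    exact congrArg (fun z : ↥(chevD4.group K) => (z : GL chevD4.Idx K))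
      (KTwD4.commute_B (φ := φ) (Matrix.SpecialLinearGroup.map ι x) y).eq
  · intro x hx h
    have h4 : A x = 1 := Subtype.ext (congrArg (fun z : ↥(twistedD4 K q) => (z : GL chevD4.Idx K)) h)
    have h5 : Matrix.SpecialLinearGroup.map ι x = 1 := by
      refine ker3 (kerPM_ph KTwD4.hD4 KTwD4.l23) ?_ h4
      obtain ⟨k, hk⟩ := hx
      exact ⟨k, by rw [← map_pow, hk, map_one]⟩
    apply Subtype.ext
    ext i j
    have h6 := congrArg (fun z : SL2 K => z.1 i j) h5
    change ι (x.1 i j) = (1 : Matrix (Fin 2) (Fin 2) K) i j at h6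
    apply ι.injective
    rw [h6]
    change _ = ι ((1 : Matrix (Fin 2) (Fin 2) (ZMod r)) i j)
    rw [Matrix.one_apply, Matrix.one_apply]
    split_ifs <;> simp
  · intro x hx h
    exact ker3 (KTwD4.kerPM_B φ) hx
      (Subtype.ext (congrArg (fun z : ↥(twistedD4 K q) => (z : GL chevD4.Idx K)) h))

/-- **`³D₄(q)`**. -/
theorem false_twD4 (h : Pearly p n G) {K : Type} [Field K] [Fintype K] {q : ℕ} (hq : IsPrimePow q)
    (hK : Fintype.card K = q ^ 3) (hp : (p : K) ≠ 0) (e : G ≃* ↥(twistedD4 K q)) : False := by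
  have h1 := eighteen_le h hp e
  have h2 : Fintype.card chevD4.Idx = 28 := by decide
  have h3 := eq_three h (by norm_num) (h1.trans h2.le)
  subst h3
  exact h.dinv ((dinv_twD4 hq hK (by exact_mod_cast hp)).congr e.symm)

end TwD4

section Iso

variable {p n : ℕ} {G : Type u} [Group G]

/-- **`G₂(q)`** -/
theorem false_isoG2 (h : Pearly p n G) {K : Type v} [Field K] (hp : (p : K) ≠ 0) (e : G ≃* chevG2.group K) : False :=
  false_g2 h hp _ e

/-- **`²G₂(q)`** -/
theorem false_isoRee (h : Pearly p n G) {K : Type v} [Field K] {m : ℕ} (hp : (p : K) ≠ 0)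
    (e : G ≃* twistedG2 K m) : False :=
  false_g2 h hp _ e

/-- **`Sz(q)`** -/
theorem false_isoSz (h : Pearly p n G) {K : Type v} [Field K] {m : ℕ} (hp : (p : K) ≠ 0) (e : G ≃* Lie.Sz K m) : False :=
  false_sz h hp _ e

end Iso

end Cfsg.Agent.H559.PearlyExc
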